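import Mathlib
import Cfsg.Agent.Lib.H38.AbSol
import Cfsg.Agent.Lib.H18.Bender
import Cfsg.Agent.Lib.H83.BdC4
import Cfsg.Agent.Lib.H61.BenStruct
import Cfsg.Agent.Lib.H61.RootNDc
import Cfsg.Agent.S1136

/-!
Core-free groups with a strongly embedded subgroup (Bender) and abelian Sylow 2-subgroups.
-/

set_option autoImplicit false
set_option linter.unusedSectionVars false
set_option linter.style.haveILetI false

open Subgroup Cfsg

namespace H38.AbSol2

universe u v

theorem rankOne : H16.BSSimple.RankOneThm.{u, v} := fun _ _ _ _ _ _ _ _ _ hS h2 =>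
  Cfsg.Agent.S1136.result hS h2

/-- Bender's theorem for core-free groups -/
theorem bender_concl {G : Type u} [Group G] [Finite G] (hO : oddCore G = ⊥) {M : Subgroup G}
    (hM : Cfsg.IsStronglyPEmbedded 2 M) (hF : H16.BD.Four G) :
    ∃ L : Subgroup G, L.Normal ∧ Odd L.index ∧ H16.BS.Concl L := by
  have B := H83.BdC.beta_of_se H18.Bender.bender.{u, u} (H83.BdC.se_of_spe hM) hF
  obtain ⟨L, hL, hLo, hLc⟩ := H83.BdC.concl_of_beta rankOne.{u, u} B
  have hker : (MulAction.toPermHom G (G ⧸ M)).ker = ⊥ := by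
    rw [eq_bot_iff, ← hO]
    apply le_sSup
    refine ⟨inferInstance, ?_⟩
    rw [Nat.coprime_comm, Nat.coprime_two_left]
    exact B.odd_ker
  have hinj : Function.Injective (MulAction.toPermHom G (G ⧸ M)) := (MonoidHom.ker_eq_bot_iff _).1 hker
  obtain ⟨e⟩ : Nonempty (G ≃* (MulAction.toPermHom G (G ⧸ M)).range) := ⟨MonoidHom.ofInjective hinj⟩
  refine ⟨L.comap e.toMonoidHom, hL.comap _, ?_, ?_⟩
  · have h1 : (L.comap e.toMonoidHom).index = L.index := Subgroup.index_comap_of_surjective L e.surjective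
    rw [h1]
    exact hLo
  · have e1 : L.comap e.toMonoidHom ≃* (L.comap e.toMonoidHom).map e.toMonoidHom := e.subgroupMap _
    have h1 : (L.comap e.toMonoidHom).map e.toMonoidHom = L :=
      Subgroup.map_comap_eq_self_of_surjective e.surjective L
    exact H16.BSSimple.concl_congr (e1.trans (MulEquiv.subgroupCongr h1)).symm hLc

/-- abelian Sylow 2-subgroups -/
def AbSyl (L : Type*) [Group L] : Prop :=
  ∀ S : Sylow 2 L, ∀ x ∈ (S : Subgroup L), ∀ y ∈ (S : Subgroup L), x * y = y * x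

theorem AbSyl.of_equiv {L M : Type*} [Group L] [Group M] [Finite L] [Finite M] (e : L ≃* M) (h : AbSyl L) : AbSyl M := by
  intro T x hx y hy
  haveI : Fact (Nat.Prime 2) := ⟨Nat.prime_two⟩
  have hs : Function.Surjective e.symm.toMonoidHom := e.symm.surjective
  have h1 := h (T.mapSurjective hs) (e.symm x) ⟨x, hx, rfl⟩ (e.symm y) ⟨y, hy, rfl⟩
  apply e.symm.injective
  rw [map_mul, map_mul]
  exact h1

theorem AbSyl.of_sylow {G : Type*} [Group G] [Finite G] (S : Sylow 2 G)
    (hS : ∀ a ∈ (S : Subgroup G), ∀ b ∈ (S : Subgroup G), a * b = b * a) : AbSyl G := by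
  haveI : Fact (Nat.Prime 2) := ⟨Nat.prime_two⟩
  intro T x hx y hy
  obtain ⟨g, rfl⟩ := MulAction.exists_smul_eq G S T
  obtain ⟨a, ha, rfl⟩ := hx
  obtain ⟨b, hb, rfl⟩ := hy
  show g * a * g⁻¹ * (g * b * g⁻¹) = g * b * g⁻¹ * (g * a * g⁻¹)
  calc g * a * g⁻¹ * (g * b * g⁻¹) = g * (a * b) * g⁻¹ := by group
    _ = g * (b * a) * g⁻¹ := by rw [hS a ha b hb]
    _ = g * b * g⁻¹ * (g * a * g⁻¹) := by group

theorem AbSyl.subgroup {G : Type*} [Group G] [Finite G] (h : AbSyl G) (L : Subgroup G) : AbSyl L := by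
  haveI : Fact (Nat.Prime 2) := ⟨Nat.prime_two⟩
  intro T x hx y hy
  have h1 : IsPGroup 2 ((T : Subgroup L).map L.subtype) := T.2.map _
  obtain ⟨Q, hQ⟩ := h1.exists_le_sylow
  apply Subtype.ext
  exact h Q x (hQ ⟨x, hx, rfl⟩) y (hQ ⟨y, hy, rfl⟩)

theorem not_sz {L : Type*} [Group L] [Finite L] (h : Lie.IsoSuzuki L) (hab : AbSyl L) : False := by
  obtain ⟨F, _, _, m, hm, hF, ⟨e⟩⟩ := h
  haveI : Fact (Nat.Prime 2) := ⟨Nat.prime_two⟩
  have e' := e.trans (H24.SzIso.equiv hF hm).symm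
  have hfin := Finite.of_equiv _ e'.toEquiv
  have hab' := hab.of_equiv e'
  obtain ⟨t, ht⟩ := H8.SuzSylow.exists_th_ne hm hF
  have h1 := hab' (H8.SuzSylow.PT (m := m) hm hF) (H8.SuzSylow.tG hF 1 0) ⟨1, 0, rfl⟩
    (H8.SuzSylow.tG hF t 0) ⟨t, 0, rfl⟩
  rw [H8.SuzSylow.tG_mul, H8.SuzSylow.tG_mul] at h1
  obtain ⟨-, h2⟩ := H8.SuzSylow.tG_inj hF h1
  have two := H8.SuzField.two_eq_zero hF
  apply ht
  rw [H8.SuzField.th_one] at h2
  linear_combination h2 + H8.SuzField.th m t * two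

theorem not_psu {L : Type*} [Group L] [Finite L] {K : Type} [Field K] [Fintype K] {n : ℕ} (hn : 2 ≤ n)
    (hK : Fintype.card K = (2 ^ n) ^ 2) (e : L ≃* PSU 3 K (2 ^ n)) (hab : AbSyl L) : False := by
  haveI : Fact (Nat.Prime 2) := ⟨Nat.prime_two⟩
  have two : (2 : K) = 0 := by
    have h1 : ((Fintype.card K : ℕ) : K) = 0 := FiniteField.cast_card_eq_zero K
    rw [hK] at h1
    push_cast at h1
    exact pow_eq_zero_iff (n := n) (by omega) |>.1 (pow_eq_zero_iff (n := 2) (by norm_num) |>.1 h1)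
  have hfin : Finite (PSU 3 K (2 ^ n)) := inferInstance
  have hab' := hab.of_equiv e
  let S : Sylow 2 (PSU 3 K (2 ^ n)) := default
  obtain ⟨f⟩ := H24.U3Syl.main two hK hn rfl S
  obtain ⟨x, hx⟩ := H7.QuadExt.exists_trace_eq hK (one_pow (2 ^ n))
  obtain ⟨d, hd⟩ := H7.QuadExt.exists_trace_eq hK (H7.QuadExt.norm_fixed hK x)
  let v : H24.U3Syl.U two hK := ⟨H24.U3Syl.u (2 ^ n) 1 x, 1, x, by rw [H24.U3Syl.Good, hx, one_pow], rfl⟩
  let w : H24.U3Syl.U two hK := ⟨H24.U3Syl.u (2 ^ n) x d, x, d, hd, rfl⟩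
  have h1 : v * w = w * v := by
    apply f.symm.injective
    rw [map_mul, map_mul]
    apply Subtype.ext
    exact hab' S _ (f.symm v).2 _ (f.symm w).2
  have h2 : H24.U3Syl.u (2 ^ n) 1 x * H24.U3Syl.u (2 ^ n) x d = H24.U3Syl.u (2 ^ n) x d * H24.U3Syl.u (2 ^ n) 1 x :=
    congrArg Subtype.val h1
  rw [H24.U3Syl.u_mul hK, H24.U3Syl.u_mul hK] at h2
  obtain ⟨-, h3⟩ := H24.U3Syl.u_inj h2
  rw [one_pow] at h3
  have h4 : (1 : K) = 0 := by linear_combination (-1 : K) * hx - h3 + x * two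
  exact one_ne_zero h4

/-- the PSL2 conclusion -/
def PSLEven (L : Type*) [Group L] : Prop :=
  ∃ (F : Type) (_ : Field F) (_ : Fintype F), (∃ n : ℕ, 2 ≤ n ∧ Fintype.card F = 2 ^ n) ∧
    Nonempty (L ≃* Matrix.ProjectiveSpecialLinearGroup (Fin 2) F)

theorem psl_of_concl {L : Type u} [Group L] [Finite L] (h : H16.BS.Concl L) (hab : AbSyl L) : PSLEven L := by
  rcases h with h | h | ⟨F, iF, iFf, n, hn, hc, ⟨f⟩⟩
  · exact h
  · exact (not_sz h hab).elim
  · exact (not_psu hn hc f hab).elim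

variable {G : Type u} [Group G] [Finite G]

theorem centralizer_eq_bot (hO : oddCore G = ⊥) {L : Subgroup G} (hL : L.Normal) (hLo : Odd L.index)
    (hs : IsSimpleGroup L) (h4 : 4 ∣ Nat.card G) : centralizer (L : Set G) = ⊥ := by
  haveI : Fact (Nat.Prime 2) := ⟨Nat.prime_two⟩
  have h4L : 4 ∣ Nat.card L := by
    have h1 := L.card_mul_index
    rw [← h1] at h4
    have h2 : Nat.Coprime (2 ^ 2) L.index := Nat.Coprime.pow_left 2 (Nat.coprime_two_left.2 hLo)
    exact h2.dvd_of_dvd_mul_right h4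
  have hd : centralizer (L : Set G) ⊓ L = ⊥ := by
    have hn : ((centralizer (L : Set G)).subgroupOf L).Normal := inferInstance
    rcases hn.eq_bot_or_eq_top with h | h
    · rwa [Subgroup.subgroupOf_eq_bot, disjoint_iff] at h
    · exfalso
      rw [Subgroup.subgroupOf_eq_top] at h
      have hcomm : ∀ a b : L, a * b = b * a := by
        intro a b
        apply Subtype.ext
        exact (mem_centralizer_iff.1 (h a.2) b b.2).symm
      letI : CommGroup L := { (inferInstance : Group L) with mul_comm := hcomm }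
      have hp : (Nat.card L).Prime := IsSimpleGroup.prime_card
      have := (Nat.dvd_prime hp).1 h4L
      rcases this with h5 | h5
      · omega
      · rw [← h5] at hp
        exact absurd hp (by norm_num)
  rw [eq_bot_iff, ← hO]
  apply le_sSup
  refine ⟨inferInstance, ?_⟩
  rw [Nat.coprime_comm, Nat.coprime_two_left]
  have hinj : Function.Injective ((QuotientGroup.mk' L).comp (centralizer (L : Set G)).subtype) := by
    rw [injective_iff_map_eq_one]
    intro x hx
    have h1 : (x : G) ∈ L := (QuotientGroup.eq_one_iff _).1 hx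
    have h2 : (x : G) ∈ centralizer (L : Set G) ⊓ L := ⟨x.2, h1⟩
    rw [hd, mem_bot] at h2
    exact Subtype.ext h2
  have hdvd : Nat.card (centralizer (L : Set G)) ∣ L.index := Subgroup.card_dvd_of_injective _ hinj
  exact Odd.of_dvd_nat hLo hdvd

/-- rank at least three -/
theorem big (hO : oddCore G = ⊥) (S : Sylow 2 G)
    (hS : ∀ a ∈ (S : Subgroup G), ∀ b ∈ (S : Subgroup G), a * b = b * a)
    (h8 : 8 ≤ Nat.card (H59.EarlyTwo.omg (S : Subgroup G) hS))
    (hC : ∀ t : G, orderOf t = 2 → Group.IsSolvable ↥(centralizer ({t} : Set G))) :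
    Group.IsSolvable G ∨ ∃ L : Subgroup G, L.Normal ∧ PSLEven L ∧ centralizer (L : Set G) = ⊥ := by
  haveI : Fact (Nat.Prime 2) := ⟨Nat.prime_two⟩
  rcases H38.AbSol.main hO S hS h8 hC with hn | ⟨M, hM⟩
  · left
    have h1 : Group.IsNilpotent (S : Subgroup G) := S.2.isNilpotent
    have h2 : Group.IsSolvable (S : Subgroup G) := inferInstance
    have h3 : Group.IsSolvable (G ⧸ (S : Subgroup G)) := by
      apply Cfsg.Agent.S0205.result
      have := S.not_dvd_index
      rw [← Nat.not_even_iff_odd, even_iff_two_dvd]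
      exact this
    exact Group.isSolvable_of_ker_le_range (S : Subgroup G).subtype (QuotientGroup.mk' (S : Subgroup G)) (by
      rw [QuotientGroup.ker_mk', Subgroup.range_subtype])
  · right
    set Ω := H59.EarlyTwo.omg (S : Subgroup G) hS with hΩ
    have hp : IsPGroup 2 Ω := S.2.to_le (fun x hx => hx.1)
    have h8d : 8 ∣ Nat.card Ω := by
      obtain ⟨k, hk⟩ := IsPGroup.iff_card.1 hp
      rw [hk] at h8 ⊢
      have : 3 ≤ k := by
        by_contra hlt
        have : k ≤ 2 := by omega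
        interval_cases k <;> omega
      exact pow_dvd_pow 2 this
    have hF : H16.BD.Four G := by
      apply H83.BdC.four_of_rank
      refine ⟨Ω, ?_, ?_, ?_⟩
      · exact ⟨⟨fun a b => Subtype.ext (hS a a.2.1 b b.2.1)⟩⟩
      · intro a ha
        exact ha.2
      · omega
    obtain ⟨L, hL, hLo, hLc⟩ := bender_concl hO hM hF
    refine ⟨L, hL, psl_of_concl hLc ((AbSyl.of_sylow S hS).subgroup L), ?_⟩
    apply centralizer_eq_bot hO hL hLo (H61.BenStruct.simple_of_concl hLc)
    exact (show 4 ∣ 8 by norm_num).trans (h8d.trans (card_subgroup_dvd_card Ω))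

end H38.AbSol2
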