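import Cfsg.Agent.Lib.H38.BlkPair3
import Cfsg.Agent.Lib.H2.CycP

/-!
# Two elements of order `p` in a `p`-solvable group with cyclic Sylow `p`-subgroups
-/

set_option autoImplicit false
open Cfsg

namespace H38.BlkCyc

universe u

section grp

variable {K : Type*} [Group K] [Finite K] {p : ℕ} [hp : Fact p.Prime]

/-- Sylow subgroups of quotients of groups with cyclic Sylow subgroups are cyclic -/
theorem sylow_quotient_cyclic (hc : ∀ P : Sylow p K, IsCyclic (P : Subgroup K)) (N : Subgroup K) [N.Normal]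
    (R : Sylow p (K ⧸ N)) : IsCyclic (R : Subgroup (K ⧸ N)) := by
  obtain ⟨P, hP⟩ := Sylow.mapSurjective_surjective (QuotientGroup.mk'_surjective N) p R
  have h1 : (R : Subgroup (K ⧸ N)) = (P : Subgroup K).map (QuotientGroup.mk' N) := by
    rw [← Sylow.coe_mapSurjective (QuotientGroup.mk'_surjective N), hP]
  have h2 := hc P
  rw [h1]
  exact isCyclic_of_surjective ((QuotientGroup.mk' N).subgroupMap (P : Subgroup K))
    ((QuotientGroup.mk' N).subgroupMap_surjective (P : Subgroup K))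

/-- sylow subgroups of subgroups of groups with cyclic Sylow subgroups are cyclic -/
theorem sylow_sub_cyclic {G : Type*} [Group G] [Finite G] (P : Sylow p G) (hP : IsCyclic (P : Subgroup G))
    (K : Subgroup G) (R : Sylow p K) : IsCyclic (R : Subgroup K) := by
  have h1 : IsPGroup p ((R : Subgroup K).map K.subtype) := R.isPGroup'.map _
  obtain ⟨Q, hQ⟩ := h1.exists_le_sylow
  have hQc : IsCyclic (Q : Subgroup G) := by
    have e := Sylow.equiv P Q
    exact isCyclic_of_surjective e e.surjective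
  have h2 : IsCyclic ((R : Subgroup K).map K.subtype) :=
    isCyclic_of_injective (Subgroup.inclusion hQ) (Subgroup.inclusion_injective hQ)
  have e := (R : Subgroup K).equivMapOfInjective K.subtype K.subtype_injective
  exact isCyclic_of_surjective e.symm e.symm.surjective

theorem orderOf_mk_pPrime {x : K} (hx : orderOf x = p) : orderOf (x : K ⧸ pPrimeCore p K) = p := by
  have h5 : orderOf (x : K ⧸ pPrimeCore p K) ∣ p := by
    have h51 := orderOf_map_dvd (QuotientGroup.mk' (pPrimeCore p K)) x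
    rw [hx] at h51
    exact h51
  rcases (Nat.dvd_prime hp.out).1 h5 with h6 | h6
  · exfalso
    rw [orderOf_eq_one_iff, QuotientGroup.eq_one_iff] at h6
    have h7 := H20.Col2.not_dvd_orderOf_of_mem (H20.Col2.not_dvd_card_pPrimeCore (G := K) (p := p)) h6
    exact h7 (by rw [hx])
  · exact h6

/-- in a `p`-solvable group with cyclic Sylow `p`-subgroups all elements of order `p` generate the
same subgroup modulo `O_{p'}` -/
theorem mk_mem_zpowers (hs : IsPSolvable p K) (hc : ∀ P : Sylow p K, IsCyclic (P : Subgroup K))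
    {x y : K} (hx : orderOf x = p) (hy : orderOf y = p) :
    (y : K ⧸ pPrimeCore p K) ∈ Subgroup.zpowers (x : K ⧸ pPrimeCore p K) := by
  have hab : ∀ P : Sylow p K, IsMulCommutative P := by
    intro P
    have := hc P
    letI : CommGroup (P : Subgroup K) := IsCyclic.commGroup
    exact ⟨⟨mul_comm⟩⟩
  have h1 := BlkPair.mk_mem_pCore hs hab (x := x) ⟨1, by rw [hx, pow_one]⟩
  have h2 := BlkPair.mk_mem_pCore hs hab (x := y) ⟨1, by rw [hy, pow_one]⟩
  obtain ⟨R⟩ : Nonempty (Sylow p (K ⧸ pPrimeCore p K)) := inferInstance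
  have hR := sylow_quotient_cyclic hc (pPrimeCore p K) R
  have h3 := H1.Cores.pCore_le_sylow R h1
  have h4 := H1.Cores.pCore_le_sylow R h2
  have h5 : Subgroup.zpowers (⟨_, h3⟩ : (R : Subgroup (K ⧸ pPrimeCore p K))) =
      Subgroup.zpowers ⟨_, h4⟩ := by
    apply H2.CycP.zpowers_eq_of_orderOf_eq hR
    rw [Subgroup.orderOf_mk, Subgroup.orderOf_mk, orderOf_mk_pPrime hx, orderOf_mk_pPrime hy]
  have h6 : (⟨_, h4⟩ : (R : Subgroup (K ⧸ pPrimeCore p K))) ∈ Subgroup.zpowers (⟨_, h3⟩ : (R : Subgroup (K ⧸ pPrimeCore p K))) := by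
    rw [h5]; exact Subgroup.mem_zpowers _
  obtain ⟨n, hn⟩ := Subgroup.mem_zpowers_iff.1 h6
  rw [Subgroup.mem_zpowers_iff]
  exact ⟨n, congrArg Subtype.val hn⟩

theorem eq_top_of_closure {L : Type*} [Group L] {x y : K} (hxy : Subgroup.closure ({x, y} : Set K) = ⊤)
    (f : K →* L) (hf : f y ∈ Subgroup.zpowers (f x)) (v : K) : f v ∈ Subgroup.zpowers (f x) := by
  have h1 : (⊤ : Subgroup K) ≤ (Subgroup.zpowers (f x)).comap f := by
    rw [← hxy, Subgroup.closure_le]
    intro a ha
    rcases ha with rfl | ha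
    · exact Subgroup.mem_zpowers _
    · rw [Set.mem_singleton_iff] at ha
      rw [ha]; exact hf
  exact h1 (Subgroup.mem_top v)

/-- the `p`-part of an element congruent to `x ^ j` modulo `O_{p'}` is conjugate to `x ^ j` -/
theorem isConj_of_mk {x : K} (hx : orderOf x = p)
    (hall : ∀ v : K, (v : K ⧸ pPrimeCore p K) ∈ Subgroup.zpowers (x : K ⧸ pPrimeCore p K))
    {v u : K} {j : ℕ} (hv : (v : K ⧸ pPrimeCore p K) = (x : K ⧸ pPrimeCore p K) ^ j) (hu : IsPPart p v u) :
    IsConj u (x ^ j) := by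
  classical
  set N := pPrimeCore p K with hN
  have hNn : N.Normal := H1.Cores.pPrimeCore_normal p
  have hxN := orderOf_mk_pPrime hx
  have htop : Subgroup.zpowers (x : K ⧸ N) = ⊤ := by
    rw [eq_top_iff]
    intro a _
    obtain ⟨b, rfl⟩ := QuotientGroup.mk_surjective a
    exact hall b
  have hcardQ : Nat.card (K ⧸ N) = p := by
    rw [← hxN, ← Nat.card_zpowers, htop, Subgroup.card_top]
  obtain ⟨r, hur, hcom, ⟨k, hk⟩, hr⟩ := hu
  have hr1 : (r : K ⧸ N) = 1 := by
    refine BlkPair.eq_one_of_pow (p := p) (k := 1) ?_ hp.out ?_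
    · rw [pow_one, ← hcardQ]; exact orderOf_dvd_natCard _
    · intro h
      exact hr (h.trans (orderOf_map_dvd (QuotientGroup.mk' N) r))
  have hu1 : (u : K ⧸ N) = (x : K ⧸ N) ^ j := by
    rw [← hv, ← hur, QuotientGroup.mk_mul, hr1, mul_one]
  -- `⟨x⟩` is a Sylow subgroup
  have hpN : ¬ p ∣ Nat.card N := H20.Col2.not_dvd_card_pPrimeCore (G := K) (p := p)
  have hKcard : Nat.card K = p * Nat.card N := by
    have := Subgroup.card_eq_card_quotient_mul_card_subgroup N
    rw [hcardQ] at this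
    exact this
  have hfac : (Nat.card K).factorization p = 1 := by
    rw [hKcard, Nat.factorization_mul hp.out.pos.ne' Nat.card_pos.ne', Finsupp.add_apply,
      hp.out.factorization_self, Nat.factorization_eq_zero_of_not_dvd hpN]
  have hcx : Nat.card (Subgroup.zpowers x) = p ^ (Nat.card K).factorization p := by
    rw [hfac, pow_one, Nat.card_zpowers, hx]
  obtain ⟨g, hg⟩ := BlkPair.exists_conj_mem (Sylow.ofCard (Subgroup.zpowers x) hcx) (x := u) ⟨k, hk⟩
  obtain ⟨i, hi⟩ := Subgroup.mem_zpowers_iff.1 (show g * u * g⁻¹ ∈ Subgroup.zpowers x from hg)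
  have hcommQ : ∀ a b : K ⧸ N, a * b = b * a := by
    intro a b
    have ha : a ∈ Subgroup.zpowers (x : K ⧸ N) := by rw [htop]; trivial
    have hb : b ∈ Subgroup.zpowers (x : K ⧸ N) := by rw [htop]; trivial
    obtain ⟨m, rfl⟩ := Subgroup.mem_zpowers_iff.1 ha
    obtain ⟨n, rfl⟩ := Subgroup.mem_zpowers_iff.1 hb
    rw [← zpow_add, ← zpow_add, add_comm]
  have h2 : (x : K ⧸ N) ^ i = (x : K ⧸ N) ^ (j : ℤ) := by
    rw [zpow_natCast, ← hu1, ← QuotientGroup.mk_zpow, hi, QuotientGroup.mk_mul, QuotientGroup.mk_mul,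
      hcommQ (g : K ⧸ N) u, mul_assoc, ← QuotientGroup.mk_mul, mul_inv_cancel, QuotientGroup.mk_one, mul_one]
  have h3 : x ^ i = x ^ (j : ℤ) := by
    rw [zpow_eq_zpow_iff_modEq] at h2 ⊢
    rwa [hx, ← hxN]
  rw [isConj_iff]
  exact ⟨g, by rw [← hi, h3, zpow_natCast]⟩

/-- the local structure of a pair of elements of order `p` -/
theorem local_pair (hs : IsPSolvable p K) (hc : ∀ P : Sylow p K, IsCyclic (P : Subgroup K))
    {x y : K} (hx : orderOf x = p) (hy : orderOf y = p) (hxy : Subgroup.closure ({x, y} : Set K) = ⊤) :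
    ∃ s : ℕ, IsConj y (x ^ s) ∧ ∀ (k : ℕ) (u : K), IsPPart p (x * y ^ k) u → IsConj u (x * (x ^ s) ^ k) := by
  have h1 := mk_mem_zpowers hs hc hx hy
  have hall := eq_top_of_closure hxy (QuotientGroup.mk' (pPrimeCore p K)) h1
  obtain ⟨s, hs'⟩ : ∃ s : ℕ, (x : K ⧸ pPrimeCore p K) ^ s = y := by
    rw [← mem_powers_iff_mem_zpowers] at h1
    exact h1
  refine ⟨s, ?_, ?_⟩
  · refine isConj_of_mk hx hall hs'.symm ?_
    exact BlkPair.isPPart_self ⟨1, by rw [hy, pow_one]⟩
  · intro k u hu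
    have h2 := isConj_of_mk (j := 1 + s * k) hx hall (v := x * y ^ k) (u := u) (by
      rw [QuotientGroup.mk_mul, QuotientGroup.mk_pow, ← hs', pow_add, pow_one, pow_mul]) hu
    rwa [pow_add, pow_one, pow_mul] at h2

end grp

end H38.BlkCyc
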