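import Cfsg.Agent.Lib.H38.BlkCyc1
import Cfsg.Agent.Lib.H5.PBg

/-!
# Structure constants of elements of order `p` for `p`-solvable pairs, cyclic Sylow subgroups
-/

set_option autoImplicit false
set_option linter.unusedSectionVars false
open Cfsg H5.PBb H5.PBc H5.PBd H5.PBf
open scoped ComplexConjugate

namespace H38.BlkCyc

universe u

section gen
variable {G : Type u} [Group G] [Fintype G] {M : Ideal AlgInt} {p : ℕ}
variable {A : Subgroup G} {W : Subgroup (MulAut A)} [Fintype A] [Fintype W]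

theorem D_at (hM : IsPModular p M) (hF : Frame p A W) (ψ φ : A →* ℂˣ) {z z' : G} {t : A}
    (hz : IsPPart p z z') (hc : IsConj (t : G) z') : D p A W ψ φ z = Th W ψ t - Th W φ t := by
  by_cases ht : t = 1
  · have hz1 : z' = 1 := by
      rw [ht, Subgroup.coe_one] at hc
      exact isConj_one_right.1 hc
    rw [ht, Th_one_val, Th_one_val, sub_self]
    obtain ⟨r, hr, -, -, hrp⟩ := hz
    rw [hz1, one_mul] at hr
    rw [← hr]
    exact D_regular hM ψ φ hrp
  · exact D_val hM hF ψ φ hz hc ht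

/-- the product formula for orbit sums -/
theorem sum_Th_mul (ψ : A →* ℂˣ) (x y : A) :
    ∑ v : W, Th W ψ (x * (v : MulAut A) y) = Th W ψ x * Th W ψ y := by
  classical
  simp_rw [Th_apply, map_mul, Units.val_mul]
  rw [Finset.sum_comm, Finset.sum_mul_sum]
  refine Finset.sum_congr rfl fun w _ => ?_
  rw [← Finset.mul_sum, ← Finset.mul_sum]
  congr 1
  exact Fintype.sum_equiv (Equiv.mulLeft w) _ _ (fun v => rfl)

theorem conj_unit (ψ : A →* ℂˣ) (x : A) : conj ((ψ x : ℂˣ) : ℂ) = ((ψ x⁻¹ : ℂˣ) : ℂ) := by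
  have h := H18.CharBasic.char_inv (H18.CharBasic.isCharacter_of_isIrr (lf_irr ψ)) x
  exact h.symm

theorem conj_Th (ψ : A →* ℂˣ) (x : A) : conj (Th W ψ x) = Th W ψ x⁻¹ := by
  rw [Th_apply, Th_apply, map_sum]
  refine Finset.sum_congr rfl fun w _ => ?_
  rw [conj_unit, ← map_inv (w : MulAut A) x]

open Classical in
/-- the sum over the representatives of the products -/
theorem sum_Th_Th {n : ℕ} {rep : Fin n → (A →* ℂˣ)} (hA : ∀ a b : A, a * b = b * a) (hrep : Reps W n rep)
    (hfp : ∀ w ∈ W, w ≠ 1 → ∀ x : A, w x = x → x = 1) {x y : A} (hy : y ≠ 1) :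
    ∑ i, Th W (rep i) x * Th W (rep i) y =
      (if (∃ v ∈ W, v y = x⁻¹) then (Nat.card A : ℂ) else 0) - Nat.card W := by
  classical
  have h1 : ∀ i, Th W (rep i) x * Th W (rep i) y = ∑ v : W, Th W (rep i) (x * (v : MulAut A) y) :=
    fun i => (sum_Th_mul _ _ _).symm
  rw [Finset.sum_congr rfl fun i _ => h1 i, Finset.sum_comm]
  have h2 : ∀ v : W, ∑ i, Th W (rep i) (x * (v : MulAut A) y) =
      (if (v : MulAut A) y = x⁻¹ then (Nat.card A : ℂ) else 0) - 1 := by
    intro v
    split_ifs with hv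
    · rw [hv, mul_inv_cancel]
      have h3 : ∀ i, Th W (rep i) (1 : A) = Nat.card W := fun i => Th_one_val _
      rw [Finset.sum_congr rfl fun i _ => h3 i, Finset.sum_const, Finset.card_univ, Fintype.card_fin,
        nsmul_eq_mul, ← hrep.card hA hfp]
      push_cast
      ring
    · have h3 : x * (v : MulAut A) y ≠ 1 := fun h => hv (by rw [eq_inv_iff_mul_eq_one]; rw [hA]; exact h)
      letI : Fintype (IrrCharacter G) := Fintype.ofFinite _
      have h4 := H5.PBg.sum_Th hA hrep hfp h3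
      linear_combination h4
  rw [Finset.sum_congr rfl fun v _ => h2 v, Finset.sum_sub_distrib, Finset.sum_const, Finset.card_univ,
    nsmul_eq_mul, mul_one, ← Nat.card_eq_fintype_card]
  congr 1
  split_ifs with hex
  · obtain ⟨v, hv, hvy⟩ := hex
    rw [Finset.sum_eq_single (⟨v, hv⟩ : W)]
    · rw [if_pos hvy]
    · intro w _ hw
      rw [if_neg]
      intro h
      apply hw
      have h5 : ((v : MulAut A)⁻¹ * (w : MulAut A)) y = y := by
        rw [MulAut.mul_apply, h, ← hvy]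
        exact MulAut.inv_apply_self _ _ _
      by_contra hne
      exact hy (hfp _ (W.mul_mem (W.inv_mem hv) w.2)
        (fun h' => hne (Subtype.ext (inv_mul_eq_one.1 h').symm)) _ h5)
    · intro h; exact absurd (Finset.mem_univ _) h
  · apply Finset.sum_eq_zero
    intro v _
    rw [if_neg]
    exact fun h => hex ⟨v, v.2, h⟩

end gen

section star

variable {G : Type u} [Group G] [Fintype G] {M : Ideal AlgInt} {p : ℕ} [hp : Fact p.Prime]
variable {P : Sylow p G} [Fintype (P : Subgroup G)] [Fintype (WP P)]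

theorem isPPart_coe {K : Subgroup G} {h x : K} (hx : IsPPart p h x) : IsPPart p (h : G) (x : G) := by
  obtain ⟨y, hxy, hc, ⟨k, hk⟩, hy⟩ := hx
  refine ⟨y, by rw [← hxy]; rfl, ?_, ⟨k, by rw [Subgroup.orderOf_coe]; exact hk⟩,
    by rw [Subgroup.orderOf_coe]; exact hy⟩
  exact congrArg Subtype.val hc.eq

theorem isConj_coe {K : Subgroup G} {a b : K} (h : IsConj a b) : IsConj (a : G) (b : G) := by
  obtain ⟨c, hc⟩ := isConj_iff.1 h
  exact isConj_iff.2 ⟨c, by rw [← hc]; rfl⟩

/-- pointwise: conjugating the second element amounts to applying an automorphism -/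
theorem pointwise (hM : IsPModular p M) (hH : Hyp P) (hPc : IsCyclic (P : Subgroup G))
    (hs : ∀ x y : G, orderOf x = p → orderOf y = p → IsPSolvable p ↥(Subgroup.closure ({x, y} : Set G)))
    {x y : (P : Subgroup G)} (hx : orderOf x = p) (hy : orderOf y = p) (g : G) :
    ∃ m ∈ WP P, ∀ v ∈ WP P, ∀ ψ φ : (P : Subgroup G) →* ℂˣ,
      D p (P : Subgroup G) (WP P) ψ φ ((x : G) * (g * ((v y : (P : Subgroup G)) : G) * g⁻¹)) =
      Th (WP P) ψ (x * m (v y)) - Th (WP P) φ (x * m (v y)) := by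
  classical
  have hF := frame hH
  set y' : G := g * (y : G) * g⁻¹ with hy'
  have hxo : orderOf (x : G) = p := by rw [Subgroup.orderOf_coe, hx]
  have hyo : orderOf y' = p := by
    rw [hy', BlkPair.orderOf_conj, Subgroup.orderOf_coe, hy]
  set K := Subgroup.closure ({(x : G), y'} : Set G) with hK
  have hxK : (x : G) ∈ K := Subgroup.subset_closure (by simp)
  have hyK : y' ∈ K := Subgroup.subset_closure (by simp)
  have hsK := hs x y' hxo hyo
  have hcK := sylow_sub_cyclic P hPc K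
  have htop : Subgroup.closure ({(⟨(x : G), hxK⟩ : K), ⟨y', hyK⟩} : Set K) = ⊤ := by
    apply Subgroup.map_injective K.subtype_injective
    rw [MonoidHom.map_closure, ← MonoidHom.range_eq_map, Subgroup.range_subtype]
    rw [Set.image_pair]
    exact hK.symm
  obtain ⟨s, hs1, hs2⟩ := local_pair hsK hcK (x := (⟨(x : G), hxK⟩ : K)) (y := ⟨y', hyK⟩)
    (by rw [Subgroup.orderOf_mk, hxo]) (by rw [Subgroup.orderOf_mk, hyo]) htop
  have hs1' : IsConj y' ((x : G) ^ s) := isConj_coe hs1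
  have hyy : IsConj (y : G) y' := isConj_iff.2 ⟨g, rfl⟩
  have hy1 : y ≠ 1 := by
    rintro rfl
    rw [orderOf_one] at hy
    exact hp.out.one_lt.ne hy
  obtain ⟨m, hm, hmy⟩ := (hF.fusion y (x ^ s) hy1).1 (by
    rw [Subgroup.coe_pow]; exact hyy.trans hs1')
  refine ⟨m, hm, ?_⟩
  intro v hv ψ φ
  have hvo : orderOf (v y) = p := by rw [MulEquiv.orderOf_eq, hy]
  have h1 : Subgroup.zpowers (v y) = Subgroup.zpowers y :=
    H2.CycP.zpowers_eq_of_orderOf_eq hPc (by rw [hvo, hy])
  have h2 : v y ∈ Submonoid.powers y := by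
    rw [mem_powers_iff_mem_zpowers, ← h1]; exact Subgroup.mem_zpowers _
  obtain ⟨k, hk⟩ := h2
  have hk : y ^ k = v y := hk
  have h3 : (x : G) * (g * ((v y : (P : Subgroup G)) : G) * g⁻¹) = ((⟨(x : G), hxK⟩ * ⟨y', hyK⟩ ^ k : K) : G) := by
    rw [← hk]
    show (x : G) * (g * (y : G) ^ k * g⁻¹) = (x : G) * y' ^ k
    rw [hy', conj_pow]
  obtain ⟨u, hu⟩ := H19.Second.exists_isPPart hp.out (⟨(x : G), hxK⟩ * ⟨y', hyK⟩ ^ k : K)
  have h4 := hs2 k u hu
  have h5 : IsConj (u : G) ((x : G) * ((x : G) ^ s) ^ k) := isConj_coe h4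
  have h6 : ((x * m (v y) : (P : Subgroup G)) : G) = (x : G) * ((x : G) ^ s) ^ k := by
    rw [← hk, map_pow, hmy]; rfl
  rw [h3]
  refine D_at hM hF ψ φ (isPPart_coe hu) ?_
  rw [h6]
  exact h5.symm

/-- the relation between the structure constants -/
theorem star (hM : IsPModular p M) (hH : Hyp P) (hPc : IsCyclic (P : Subgroup G))
    (hs : ∀ x y : G, orderOf x = p → orderOf y = p → IsPSolvable p ↥(Subgroup.closure ({x, y} : Set G)))
    {x y : (P : Subgroup G)} (hx : orderOf x = p) (hy : orderOf y = p) (ψ φ : (P : Subgroup G) →* ℂˣ) :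
    (Nat.card (WP P) : ℂ) * ∑ g : G, D p (P : Subgroup G) (WP P) ψ φ ((x : G) * (g * (y : G) * g⁻¹)) =
      Nat.card G * (Th (WP P) ψ x * Th (WP P) ψ y - Th (WP P) φ x * Th (WP P) φ y) := by
  classical
  have h1 : ∀ v : WP P, ∑ g : G, D p (P : Subgroup G) (WP P) ψ φ
      ((x : G) * (g * (((v : MulAut (P : Subgroup G)) y : (P : Subgroup G)) : G) * g⁻¹)) =
      ∑ g : G, D p (P : Subgroup G) (WP P) ψ φ ((x : G) * (g * (y : G) * g⁻¹)) := by
    rintro ⟨v, n, rfl⟩
    refine Fintype.sum_equiv (Equiv.mulRight (n : G)) _ _ (fun g => ?_)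
    rw [Equiv.coe_mulRight, act_val]
    congr 2
    group
  have h2 : ∀ g : G, ∑ v : WP P, D p (P : Subgroup G) (WP P) ψ φ
      ((x : G) * (g * (((v : MulAut (P : Subgroup G)) y : (P : Subgroup G)) : G) * g⁻¹)) =
      Th (WP P) ψ x * Th (WP P) ψ y - Th (WP P) φ x * Th (WP P) φ y := by
    intro g
    obtain ⟨m, hm, hmv⟩ := pointwise hM hH hPc hs hx hy g
    rw [Finset.sum_congr rfl fun (v : WP P) _ => hmv v v.2 ψ φ, Finset.sum_sub_distrib]
    rw [← sum_Th_mul ψ x y, ← sum_Th_mul φ x y]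
    congr 1
    · exact Fintype.sum_equiv (Equiv.mulLeft (⟨m, hm⟩ : WP P)) _ _ (fun v => rfl)
    · exact Fintype.sum_equiv (Equiv.mulLeft (⟨m, hm⟩ : WP P)) _ _ (fun v => rfl)
  have h3 : ∑ v : WP P, ∑ g : G, D p (P : Subgroup G) (WP P) ψ φ
      ((x : G) * (g * (((v : MulAut (P : Subgroup G)) y : (P : Subgroup G)) : G) * g⁻¹)) =
      (Nat.card (WP P) : ℂ) * ∑ g : G, D p (P : Subgroup G) (WP P) ψ φ ((x : G) * (g * (y : G) * g⁻¹)) := by
    rw [Finset.sum_congr rfl fun v _ => h1 v, Finset.sum_const, Finset.card_univ, nsmul_eq_mul,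
      Nat.card_eq_fintype_card]
  rw [← h3, Finset.sum_comm, Finset.sum_congr rfl fun g _ => h2 g, Finset.sum_const, Finset.card_univ,
    nsmul_eq_mul, Nat.card_eq_fintype_card]

end star

end H38.BlkCyc
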