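import Cfsg.Agent.Lib.H38.BlkPair3

/-!
# Simple groups with one class of `p`-elements and `p`-solvable pairs: the contradiction (S1951)
-/

set_option autoImplicit false
open Cfsg
open scoped ComplexConjugate

namespace H38.BlkPair

universe u

/-- An irreducible character of a simple group with `χ c = χ 1` at some `c ≠ 1` is trivial. -/
theorem eq_one_of_val {G : Type u} [Group G] [Finite G] [IsSimpleGroup G] {χ : G → ℂ}
    (hχ : IsIrrCharacter G χ) {c : G} (hc : c ≠ 1) (h : χ c = χ 1) : χ = fun _ => 1 := by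
  classical
  by_contra hne
  have hch := H18.CharBasic.isCharacter_of_isIrr hχ
  have hKn : (H18.CharQuot.kerSub χ hch).Normal := H18.CharQuot.kerSub_normal hch
  rcases hKn.eq_bot_or_eq_top with h1 | h1
  · have h2 : c ∈ H18.CharQuot.kerSub χ hch := (H18.CharQuot.mem_kerSub hch).2 h
    rw [h1, Subgroup.mem_bot] at h2
    exact hc h2
  · have := Fintype.ofFinite G
    have h2 : ∀ g : G, χ g = χ 1 := fun g =>
      (H18.CharQuot.mem_kerSub hch).mp (by rw [h1]; trivial)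
    have h3 := H18.CharOrtho.inner_irr_ne hχ H18.CharBasic.isIrrCharacter_one hne
    have h4 : χ = χ 1 • (fun _ => (1 : ℂ)) := by
      ext g; simp [h2 g]
    rw [h4, H18.CharOrtho.inner_smul_left,
      H18.CharOrtho.inner_irr_self H18.CharBasic.isIrrCharacter_one, mul_one] at h3
    exact H18.CharBasic.irr_one_ne_zero hχ h3

theorem main {G : Type u} [Group G] [Finite G] [IsSimpleGroup G] {p : ℕ} [hp : Fact p.Prime]
    (hp2 : p ≠ 2) (P : Sylow p G) (hP1 : (P : Subgroup G) ≠ ⊥)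
    (hPe : IsElementaryAbelian p (P : Subgroup G))
    (hconj : ∀ x ∈ (P : Subgroup G), ∀ y ∈ (P : Subgroup G), x ≠ 1 → y ≠ 1 → ∃ g : G, g * x * g⁻¹ = y)
    (hb : ∀ x ∈ (P : Subgroup G), orderOf x = p →
      HasNormalPComplement p ↥(Subgroup.centralizer ({x} : Set G)))
    (hs : ∀ x y : G, orderOf x = p → orderOf y = p →
      IsPSolvable p ↥(Subgroup.closure ({x, y} : Set G))) : False := by
  classical
  have hp3 : 3 ≤ p := by
    have := hp.out.two_le
    lia
  have hFG := Fintype.ofFinite G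
  have hFI := Fintype.ofFinite (IrrCharacter G)
  obtain ⟨⟨c, hcP⟩, hc1'⟩ := Subgroup.ne_bot_iff_exists_ne_one.1 hP1
  have hc1 : c ≠ 1 := fun h => hc1' (Subtype.ext h)
  have hcp : orderOf c = p := orderOf_eq_prime (hPe.2 c hcP) hc1
  set q := Nat.card (P : Subgroup G) with hqdef
  have hqp : p ≤ q := by
    have h1 : orderOf c ∣ q := by
      have := orderOf_dvd_natCard (⟨c, hcP⟩ : (P : Subgroup G))
      rwa [Subgroup.orderOf_mk] at this
    rw [hcp] at h1
    exact Nat.le_of_dvd Nat.card_pos h1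
  -- all nontrivial `p`-elements are conjugate to `c`
  have F1 : ∀ x : G, x ≠ 1 → (∃ k : ℕ, orderOf x = p ^ k) → IsConj x c := by
    intro x hx hk
    obtain ⟨g, hg⟩ := exists_conj_mem P hk
    have hg1 : g * x * g⁻¹ ≠ 1 := by
      intro h
      apply hx
      have : g * x * g⁻¹ * g = 1 * g := by rw [h]
      rw [inv_mul_cancel_right, one_mul] at this
      exact mul_left_cancel (a := g) (by rw [this, mul_one])
    obtain ⟨h, hh⟩ := hconj _ hg c hcP hg1 hc1
    rw [isConj_iff]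
    exact ⟨h * g, by rw [← hh]; group⟩
  have F3 := index_of_complement (hb c hcP hcp)
  have F4 := card_centralizer_factorization P hPe.1 hcP
  have hck : ∃ k : ℕ, orderOf c = p ^ k := ⟨1, by rw [hcp, pow_one]⟩
  obtain ⟨M, hM⟩ := H78.Cong.exists_isPModular hp.out
  have hMp : M.IsPrime := hM.2.1.isPrime
  set F : Finset (IrrCharacter G) := Finset.univ.filter (fun χ => χ ∈ principalBlock M G) with hF
  have hreal : ∀ χ : IrrCharacter G, conj ((χ : G → ℂ) c) = (χ : G → ℂ) c := by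
    intro χ
    rw [← H18.CharBasic.char_inv (H18.CharBasic.isCharacter_of_isIrr χ.2)]
    refine H18.CharBasic.classFunction_isConj (H18.CharBasic.isClassFunction_of_isIrr χ.2) ?_
    exact F1 _ (inv_ne_one.2 hc1) (by rw [orderOf_inv]; exact hck)
  have hpow : ∀ (χ : IrrCharacter G) (i : ℕ), i ∈ Finset.Ico 1 p →
      (χ : G → ℂ) (c ^ i) = (χ : G → ℂ) c := by
    intro χ i hi
    rw [Finset.mem_Ico] at hi
    refine H18.CharBasic.classFunction_isConj (H18.CharBasic.isClassFunction_of_isIrr χ.2) ?_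
    refine F1 _ ?_ ⟨1, ?_⟩
    · intro h
      have := orderOf_dvd_of_pow_eq_one h
      rw [hcp] at this
      exact absurd (Nat.le_of_dvd (by lia) this) (by lia)
    · rw [pow_one, orderOf_pow, hcp]
      have : Nat.gcd p i = 1 := (Nat.Prime.coprime_iff_not_dvd hp.out).2 fun h =>
        absurd (Nat.le_of_dvd (by lia) h) (by lia)
      rw [this, Nat.div_one]
  -- integer values
  have hint : ∀ χ : IrrCharacter G, ∃ (a d m : ℤ), (χ : G → ℂ) c = a ∧ (χ : G → ℂ) 1 = d ∧ 0 < d ∧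
      d = a + q * m ∧ 0 ≤ m ∧ (m = 0 → (χ : G → ℂ) = fun _ => 1) := by
    intro χ
    obtain ⟨m, hm⟩ := degree_eq (P : Subgroup G) hPe.1 hP1 χ.2 (a := (χ : G → ℂ) c) (by
      intro x hx hx1
      refine H18.CharBasic.classFunction_isConj (H18.CharBasic.isClassFunction_of_isIrr χ.2) ?_
      refine F1 _ hx1 ⟨1, ?_⟩
      rw [pow_one]
      exact orderOf_eq_prime (hPe.2 x hx) hx1)
    obtain ⟨d, hd0, hd⟩ := H18.CharBasic.exists_degree_pos χ.2
    refine ⟨(d : ℤ) - q * m, d, m, ?_, by rw [hd]; push_cast; rfl, by exact_mod_cast hd0, by ring,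
      by positivity, ?_⟩
    · have : (χ : G → ℂ) c = (χ : G → ℂ) 1 - (q : ℂ) * m := by rw [hm]; ring
      rw [this, hd]; push_cast; rfl
    · intro h0
      have h0' : m = 0 := by exact_mod_cast h0
      rw [h0'] at hm
      exact eq_one_of_val χ.2 hc1 (by rw [hm]; simp)
  choose a d m ha hd hd0 hdam hm0 hm1 using hint
  -- the two column relations
  have hconv : ∀ f : IrrCharacter G → ℂ, ∑ χ : IrrCharacter G,
      (if χ ∈ principalBlock M G then f χ else 0) = ∑ χ ∈ F, f χ := by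
    intro f; rw [hF, Finset.sum_filter]
  have hT1 : ∀ h : G, p ∣ orderOf h → ∑ χ ∈ F, (χ : G → ℂ) h * (a χ : ℂ) = q := by
    intro h hh
    obtain ⟨x, hx⟩ := H19.Second.exists_isPPart hp.out h
    have hx1 : x ≠ 1 := by
      rintro rfl
      obtain ⟨y, hy, -, -, hyp⟩ := hx
      rw [one_mul] at hy
      rw [hy] at hyp
      exact hyp hh
    obtain ⟨y, hxy, hcom, hxk, hy⟩ := hx
    have h1 := theta_section hM hck hc1 F3 ⟨y, hxy, hcom, hxk, hy⟩ (F1 x hx1 hxk)
    rw [hconv, F4] at h1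
    rw [← h1]
    refine Finset.sum_congr rfl fun χ _ => ?_
    rw [hreal, ha]
  have hT0 : ∀ h : G, ¬ p ∣ orderOf h → ∑ χ ∈ F, (χ : G → ℂ) h * (a χ : ℂ) = 0 := by
    intro h hh
    have hx : IsPPart p h 1 := ⟨h, one_mul h, Commute.one_left h, ⟨0, by rw [orderOf_one, pow_zero]⟩, hh⟩
    have h1 := theta_off hM hck hx (fun h => hc1 (isConj_one_right.1 h))
    rw [hconv] at h1
    rw [← h1]
    refine Finset.sum_congr rfl fun χ _ => ?_
    rw [hreal, ha]
  have hS2 : ∑ χ ∈ F, a χ ^ 2 = (q : ℤ) := by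
    have h1 := hT1 c (by rw [hcp])
    have h2 : ((∑ χ ∈ F, a χ ^ 2 : ℤ) : ℂ) = ((q : ℤ) : ℂ) := by
      rw [Int.cast_sum, Int.cast_natCast, ← h1]
      refine Finset.sum_congr rfl fun χ _ => ?_
      rw [ha]; push_cast; ring
    exact_mod_cast h2
  have hS1 : ∑ χ ∈ F, d χ * a χ = 0 := by
    have h1 := hT0 1 (by rw [orderOf_one]; exact hp.out.one_lt.ne' ∘ Nat.dvd_one.1)
    have h2 : ((∑ χ ∈ F, d χ * a χ : ℤ) : ℂ) = ((0 : ℤ) : ℂ) := by
      rw [Int.cast_sum, Int.cast_zero, ← h1]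
      refine Finset.sum_congr rfl fun χ _ => ?_
      rw [hd]; push_cast; ring
    exact_mod_cast h2
  -- the product relation
  set r : ℝ := ∑ χ ∈ F, (a χ : ℝ) ^ 3 / (d χ : ℝ) with hr
  have hprod : ∀ i ∈ Finset.Ico 1 p, ∑ g : G, (if p ∣ orderOf (c * (g * c ^ i * g⁻¹)) then (q : ℝ) else 0) =
      (Nat.card G : ℝ) * r := by
    intro i hi
    have h1 := sum_prod (M := M) (fun χ => (a χ : ℂ)) (c ^ i) c
    have h2 : (((∑ g : G, (if p ∣ orderOf (c * (g * c ^ i * g⁻¹)) then (q : ℝ) else 0) : ℝ)) : ℂ) =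
        ((((Nat.card G : ℝ) * r : ℝ)) : ℂ) := by
      rw [Complex.ofReal_sum]
      have h3 : ∀ g : G, (((if p ∣ orderOf (c * (g * c ^ i * g⁻¹)) then (q : ℝ) else 0 : ℝ)) : ℂ) =
          ∑ χ : IrrCharacter G, (if χ ∈ principalBlock M G then
            (χ : G → ℂ) (c * (g * c ^ i * g⁻¹)) * (a χ : ℂ) else 0) := by
        intro g
        rw [hconv]
        split_ifs with h4
        · rw [hT1 _ h4]; simp
        · rw [hT0 _ h4]; simp
      rw [Finset.sum_congr rfl fun g _ => h3 g, h1, hconv, hr]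
      push_cast
      congr 1
      refine Finset.sum_congr rfl fun χ _ => ?_
      rw [hpow χ i hi, ha, hd]
      ring
    exact_mod_cast h2
  have hcount : ∀ g : G, (q : ℝ) * ((p : ℝ) - 2) ≤
      ∑ i ∈ Finset.Ico 1 p, (if p ∣ orderOf (c * (g * c ^ i * g⁻¹)) then (q : ℝ) else 0) := by
    intro g
    have hy : orderOf (g * c * g⁻¹) = p := by rw [orderOf_conj, hcp]
    set K := Subgroup.closure ({c, g * c * g⁻¹} : Set G) with hK
    have hxK : c ∈ K := Subgroup.subset_closure (by simp)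
    have hyK : g * c * g⁻¹ ∈ K := Subgroup.subset_closure (by simp)
    have hs' := hs c (g * c * g⁻¹) hcp hy
    have hreg : ∀ i j : ℕ, ¬ p ∣ orderOf (c * (g * c ^ i * g⁻¹)) →
        ¬ p ∣ orderOf (c * (g * c ^ j * g⁻¹)) → i ≡ j [MOD p] := by
      intro i j hi hj
      have h5 : ∀ n : ℕ, orderOf ((⟨c, hxK⟩ : K) * ⟨g * c * g⁻¹, hyK⟩ ^ n) =
          orderOf (c * (g * c ^ n * g⁻¹)) := by
        intro n
        rw [← conj_pow, ← Subgroup.orderOf_coe]
        rfl
      refine reg_pair hs' (fun R => sylow_sub_comm P hPe.1 K R) (x := ⟨c, hxK⟩)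
        (y := ⟨g * c * g⁻¹, hyK⟩) (by rw [Subgroup.orderOf_mk, hcp])
        (by rw [Subgroup.orderOf_mk, hy]) ?_ ?_
      · rw [h5]; exact hi
      · rw [h5]; exact hj
    rw [← Finset.sum_filter, Finset.sum_const, nsmul_eq_mul]
    have h6 : (Finset.filter (fun i => ¬ p ∣ orderOf (c * (g * c ^ i * g⁻¹))) (Finset.Ico 1 p)).card ≤ 1 := by
      rw [Finset.card_le_one]
      intro i hi j hj
      rw [Finset.mem_filter, Finset.mem_Ico] at hi hj
      have h7 := hreg i j hi.2 hj.2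
      exact Nat.ModEq.eq_of_lt_of_lt h7 hi.1.2 hj.1.2
    have h8 := Finset.card_filter_add_card_filter_not (s := Finset.Ico 1 p)
      (fun i => p ∣ orderOf (c * (g * c ^ i * g⁻¹)))
    rw [Nat.card_Ico] at h8
    have h9 : (p : ℝ) - 2 ≤ ((Finset.filter (fun i => p ∣ orderOf (c * (g * c ^ i * g⁻¹))) (Finset.Ico 1 p)).card : ℝ) := by
      have : p ≤ (Finset.filter (fun i => p ∣ orderOf (c * (g * c ^ i * g⁻¹))) (Finset.Ico 1 p)).card + 2 := by
        lia
      have h10 : (p : ℝ) ≤ ((Finset.filter (fun i => p ∣ orderOf (c * (g * c ^ i * g⁻¹))) (Finset.Ico 1 p)).card : ℝ) + 2 := by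
        exact_mod_cast this
      linarith
    rw [mul_comm]
    exact mul_le_mul_of_nonneg_right h9 (by positivity)
  have hmain : (q : ℝ) * ((p : ℝ) - 2) ≤ ((p : ℝ) - 1) * r := by
    have h1 : ∑ g : G, (q : ℝ) * ((p : ℝ) - 2) ≤ ∑ g : G, ∑ i ∈ Finset.Ico 1 p,
        (if p ∣ orderOf (c * (g * c ^ i * g⁻¹)) then (q : ℝ) else 0) :=
      Finset.sum_le_sum fun g _ => hcount g
    rw [Finset.sum_comm, Finset.sum_congr rfl hprod, Finset.sum_const, Finset.sum_const,
      Nat.card_Ico, Finset.card_univ, nsmul_eq_mul, nsmul_eq_mul, ← Nat.card_eq_fintype_card] at h1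
    have hG0 : (0 : ℝ) < (Nat.card G : ℝ) := by exact_mod_cast Nat.card_pos
    have h2 : ((p - 1 : ℕ) : ℝ) = (p : ℝ) - 1 := by
      rw [Nat.cast_sub (by lia)]; simp
    rw [h2] at h1
    have h3 : (Nat.card G : ℝ) * ((q : ℝ) * ((p : ℝ) - 2)) ≤ (Nat.card G : ℝ) * (((p : ℝ) - 1) * r) := by
      calc (Nat.card G : ℝ) * ((q : ℝ) * ((p : ℝ) - 2)) ≤ ((p : ℝ) - 1) * ((Nat.card G : ℝ) * r) := h1
        _ = _ := by ring
    exact le_of_mul_le_mul_left h3 hG0
  -- the trivial character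
  set one : IrrCharacter G := ⟨_, H18.CharBasic.isIrrCharacter_one⟩ with hone
  have honeF : one ∈ F := by
    rw [hF, Finset.mem_filter]
    exact ⟨Finset.mem_univ _, H20.Blk.mem_blockOf_self one⟩
  have ha1 : a one = 1 := by
    have : ((a one : ℤ) : ℂ) = 1 := by rw [← ha]
    exact_mod_cast this
  have hd1 : d one = 1 := by
    have : ((d one : ℤ) : ℂ) = 1 := by rw [← hd]
    exact_mod_cast this
  have hS2' : ∑ χ ∈ F.erase one, a χ ^ 2 = (q : ℤ) - 1 := by
    have := Finset.add_sum_erase F (fun χ => a χ ^ 2) honeF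
    rw [hS2, ha1] at this
    linarith
  -- some negative value
  obtain ⟨χ0, hχ0F, hχ0⟩ : ∃ χ0 ∈ F, a χ0 < 0 := by
    by_contra hcon
    push Not at hcon
    have h1 : ∑ χ ∈ F, d χ * a χ ≥ d one * a one :=
      Finset.single_le_sum (f := fun χ => d χ * a χ)
        (fun χ hχ => mul_nonneg (hd0 χ).le (hcon χ hχ)) honeF
    rw [hS1, ha1, hd1] at h1
    norm_num at h1
  have hχ0ne : χ0 ≠ one := by
    rintro rfl
    rw [ha1] at hχ0
    norm_num at hχ0
  have hterm : ∀ χ ∈ F.erase one, 3 * ((a χ : ℝ) ^ 3 / (d χ : ℝ)) ≤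
      (a χ : ℝ) ^ 2 - (if a χ < 0 then 1 else 0) := by
    intro χ hχ
    rw [Finset.mem_erase] at hχ
    have hm' : 1 ≤ m χ := by
      have h1 : m χ ≠ 0 := fun h0 => hχ.1 (Subtype.ext (hm1 χ h0))
      have := hm0 χ
      lia
    have hle : a χ ^ 2 ≤ (q : ℤ) - 1 := by
      rw [← hS2']
      exact Finset.single_le_sum (f := fun χ => a χ ^ 2) (fun χ _ => sq_nonneg _)
        (Finset.mem_erase.2 ⟨hχ.1, hχ.2⟩)
    exact term_le (hdam χ) hm' (by linarith) (hd0 χ)
  have hbound : 3 * r ≤ (q : ℝ) + 1 := by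
    have h1 : r = 1 + ∑ χ ∈ F.erase one, (a χ : ℝ) ^ 3 / (d χ : ℝ) := by
      rw [hr, ← Finset.add_sum_erase F _ honeF, ha1, hd1]
      norm_num
    have h2 : 3 * ∑ χ ∈ F.erase one, (a χ : ℝ) ^ 3 / (d χ : ℝ) ≤
        ∑ χ ∈ F.erase one, ((a χ : ℝ) ^ 2 - (if a χ < 0 then 1 else 0)) := by
      rw [Finset.mul_sum]
      exact Finset.sum_le_sum hterm
    rw [Finset.sum_sub_distrib] at h2
    have h3 : ∑ χ ∈ F.erase one, (a χ : ℝ) ^ 2 = (q : ℝ) - 1 := by exact_mod_cast hS2'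
    have h4 : (1 : ℝ) ≤ ∑ χ ∈ F.erase one, (if a χ < 0 then (1 : ℝ) else 0) := by
      have h5 := Finset.single_le_sum (s := F.erase one) (f := fun χ => if a χ < 0 then (1 : ℝ) else 0)
        (fun χ _ => by split_ifs <;> norm_num) (Finset.mem_erase.2 ⟨hχ0ne, hχ0F⟩)
      simpa [hχ0] using h5
    rw [h1]
    linarith
  have hpR : (3 : ℝ) ≤ p := by exact_mod_cast hp3
  have hqR : (p : ℝ) ≤ q := by exact_mod_cast hqp
  nlinarith

end H38.BlkPair
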