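import Cfsg.Agent.Lib.H38.BlkCyc2
import Cfsg.Agent.Lib.H38.BlkPair4

/-!
# Structure constants of elements of order `p`: the contradiction in the exceptional case
-/

set_option autoImplicit false
set_option linter.unusedSectionVars false
open Cfsg H5.PBb H5.PBc H5.PBd H5.PBf
open scoped ComplexConjugate

namespace H38.BlkCyc

universe u

variable {G : Type u} [Group G] [Fintype G] {M : Ideal AlgInt} {p : ℕ} [hp : Fact p.Prime]
variable {P : Sylow p G} [Fintype (P : Subgroup G)] [Fintype (WP P)] [Fintype (IrrCharacter G)]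
variable {n : ℕ} {rep : Fin n → ((P : Subgroup G) →* ℂˣ)} {i₀ : Fin n}
  {μ : Fin n → IrrCharacter G} {δ : ℤ} {a : IrrCharacter G → ℤ}

theorem sum_irr (χ : IrrCharacter G) (x y : G) :
    ∑ g : G, (χ : G → ℂ) (x * (g * y * g⁻¹)) = Nat.card G * ((χ : G → ℂ) x * (χ : G → ℂ) y / (χ : G → ℂ) 1) := by
  rw [H5.ZStar3.sum_char_conj χ.2]
  ring

/-- two exceptional characters -/
theorem rel_ij (hM : IsPModular p M) (hH : Hyp P) (hPc : IsCyclic (P : Subgroup G))
    (hs : ∀ x y : G, orderOf x = p → orderOf y = p → IsPSolvable p ↥(Subgroup.closure ({x, y} : Set G)))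
    (h : Out M p (P : Subgroup G) (WP P) n rep i₀ μ δ 0 a)
    {x y : (P : Subgroup G)} (hx : orderOf x = p) (hy : orderOf y = p) (i j : Fin n) :
    ((Nat.card (WP P) : ℂ) * δ - (μ i : G → ℂ) 1) *
      (Th (WP P) (rep i) x * Th (WP P) (rep i) y - Th (WP P) (rep j) x * Th (WP P) (rep j) y) = 0 := by
  have h1 := star hM hH hPc hs hx hy (rep i) (rep j)
  have hx1 : x ≠ 1 := by
    rintro rfl
    rw [orderOf_one] at hx
    exact hp.out.one_lt.ne hx
  have hy1 : y ≠ 1 := by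
    rintro rfl
    rw [orderOf_one] at hy
    exact hp.out.one_lt.ne hy
  have hdeg : (μ j : G → ℂ) 1 = (μ i : G → ℂ) 1 :=
    h.regY (fun ψ φ => D_one hM ψ φ) j i
  have hD0 : (μ i : G → ℂ) 1 ≠ 0 := H18.CharBasic.irr_one_ne_zero (μ i).2
  have hδ2 : (δ : ℂ) * δ = 1 := by
    rcases h.hδ with h' | h' <;> rw [h'] <;> norm_num
  have h2 : ∑ g : G, D p (P : Subgroup G) (WP P) (rep i) (rep j) ((x : G) * (g * (y : G) * g⁻¹)) =
      Nat.card G * (δ / (μ i : G → ℂ) 1 * (Th (WP P) (rep i) x * Th (WP P) (rep i) y -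
        Th (WP P) (rep j) x * Th (WP P) (rep j) y)) := by
    rw [h.diff i j]
    simp only [Pi.smul_apply, Pi.sub_apply, smul_eq_mul]
    rw [← Finset.mul_sum, Finset.sum_sub_distrib, sum_irr, sum_irr, hdeg, h.valY i x hx1, h.valY i y hy1,
      h.valY j x hx1, h.valY j y hy1]
    simp only [Int.cast_zero, zero_add]
    have h5 : ∀ a b : ℂ, (δ : ℂ) * a * ((δ : ℂ) * b) = a * b := by
      intro a b
      linear_combination (a * b) * hδ2
    rw [h5, h5]
    ring
  rw [h2] at h1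
  have hG : (Nat.card G : ℂ) ≠ 0 := by exact_mod_cast Nat.card_pos.ne'
  have h3 : (Nat.card (WP P) : ℂ) * (δ / (μ i : G → ℂ) 1 * (Th (WP P) (rep i) x * Th (WP P) (rep i) y -
        Th (WP P) (rep j) x * Th (WP P) (rep j) y)) = Th (WP P) (rep i) x * Th (WP P) (rep i) y -
        Th (WP P) (rep j) x * Th (WP P) (rep j) y := by
    apply mul_left_cancel₀ hG
    linear_combination h1
  field_simp at h3
  linear_combination h3

/-- the coefficient sum -/
theorem rel_one (hM : IsPModular p M) (hH : Hyp P) (hPc : IsCyclic (P : Subgroup G))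
    (hs : ∀ x y : G, orderOf x = p → orderOf y = p → IsPSolvable p ↥(Subgroup.closure ({x, y} : Set G)))
    (h : Out M p (P : Subgroup G) (WP P) n rep i₀ μ δ 0 a)
    [DecidablePred fun χ : IrrCharacter G => χ ∈ principalBlock M G ∧ ∀ i, μ i ≠ χ]
    {x : (P : Subgroup G)} (hx : orderOf x = p) (hδ : δ = 1)
    (hD : (μ i₀ : G → ℂ) 1 = Nat.card (WP P)) :
    ∑ χ : IrrCharacter G, (if χ ∈ principalBlock M G ∧ ∀ i, μ i ≠ χ then
      (a χ : ℂ) ^ 3 / (χ : G → ℂ) 1 else 0) = Nat.card (WP P) := by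
  classical
  have hF := frame hH
  have hx1 : x ≠ 1 := by
    rintro rfl
    rw [orderOf_one] at hx
    exact hp.out.one_lt.ne hx
  have hW : (Nat.card (WP P) : ℂ) ≠ 0 := cardW_ne
  have hG : (Nat.card G : ℂ) ≠ 0 := by exact_mod_cast Nat.card_pos.ne'
  have h1 := star hM hH hPc hs hx hx 1 (rep i₀)
  rw [h.expand hM hF] at h1
  have h2 : ∑ g : G, (∑ χ : IrrCharacter G, (a χ : ℂ) • (χ : G → ℂ)) ((x : G) * (g * (x : G) * g⁻¹)) =
      Nat.card G * ∑ χ : IrrCharacter G, (a χ : ℂ) * ((χ : G → ℂ) x * (χ : G → ℂ) x / (χ : G → ℂ) 1) := by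
    simp only [Finset.sum_apply, Pi.smul_apply, smul_eq_mul]
    rw [Finset.sum_comm, Finset.mul_sum]
    refine Finset.sum_congr rfl fun χ _ => ?_
    rw [← Finset.mul_sum, sum_irr]
    ring
  rw [h2, H5.PBe.sum_split (M := M) (μ := μ) (fun χ => (a χ : ℂ) * ((χ : G → ℂ) x * (χ : G → ℂ) x / (χ : G → ℂ) 1)) h.inj
    h.mem (fun χ hχ => by rw [h.a_not hM hF hχ]; simp)] at h1
  have h3 : (∑ χ : IrrCharacter G, if χ ∈ principalBlock M G ∧ ∀ i, μ i ≠ χ then
      (a χ : ℂ) * ((χ : G → ℂ) x * (χ : G → ℂ) x / (χ : G → ℂ) 1) else 0) =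
      ∑ χ : IrrCharacter G, (if χ ∈ principalBlock M G ∧ ∀ i, μ i ≠ χ then
      (a χ : ℂ) ^ 3 / (χ : G → ℂ) 1 else 0) := by
    refine Finset.sum_congr rfl fun χ _ => ?_
    split_ifs with hχ
    · rw [(h.aX χ hχ.1 hχ.2).2 x hx1]
      ring
    · rfl
  have h4 : ∑ i, (a (μ i) : ℂ) * ((μ i : G → ℂ) x * (μ i : G → ℂ) x / (μ i : G → ℂ) 1) =
      - (Th (WP P) (rep i₀) x * Th (WP P) (rep i₀) x) / Nat.card (WP P) := by
    rw [Finset.sum_eq_single i₀]
    · rw [h.aY i₀, if_pos rfl, h.valY i₀ x hx1, hD, hδ]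
      simp only [Int.cast_zero, zero_add, zero_sub, Int.cast_neg, Int.cast_one, one_mul]
      ring
    · intro i _ hi
      rw [h.aY i, if_neg hi]
      simp
    · intro h'; exact absurd (Finset.mem_univ _) h'
  rw [h3, h4, Th_one] at h1
  set S := ∑ χ : IrrCharacter G, (if χ ∈ principalBlock M G ∧ ∀ i, μ i ≠ χ then
      (a χ : ℂ) ^ 3 / (χ : G → ℂ) 1 else 0) with hS
  have h5 : (Nat.card (WP P) : ℂ) * (S + - (Th (WP P) (rep i₀) x * Th (WP P) (rep i₀) x) / Nat.card (WP P)) =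
      Nat.card (WP P) * Nat.card (WP P) - Th (WP P) (rep i₀) x * Th (WP P) (rep i₀) x := by
    apply mul_left_cancel₀ hG
    linear_combination h1
  apply mul_left_cancel₀ hW
  field_simp at h5
  linear_combination h5

/-- the final contradiction from the coefficients of the nonexceptional characters -/
theorem final [IsSimpleGroup G] (hM : IsPModular p M) (hH : Hyp P) (hrep : Reps (WP P) n rep)
    (h : Out M p (P : Subgroup G) (WP P) n rep i₀ μ δ 0 a)
    [DecidablePred fun χ : IrrCharacter G => χ ∈ principalBlock M G ∧ ∀ i, μ i ≠ χ]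
    {x : (P : Subgroup G)} (hx : orderOf x = p) (he : 2 ≤ Nat.card (WP P))
    (hsum : ∑ χ : IrrCharacter G, (if χ ∈ principalBlock M G ∧ ∀ i, μ i ≠ χ then
      (a χ : ℂ) ^ 3 / (χ : G → ℂ) 1 else 0) = Nat.card (WP P)) : False := by
  classical
  have hF := frame hH
  have hfp := fpf hH
  have hx1 : x ≠ 1 := by
    rintro rfl
    rw [orderOf_one] at hx
    exact hp.out.one_lt.ne hx
  have h1 := h.norm hM hF hfp hrep
  have hδ2 : (δ : ℤ) ^ 2 = 1 := by
    rcases h.hδ with h' | h' <;> rw [h'] <;> norm_num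
  have h2 : ∑ χ : IrrCharacter G, (if χ ∈ principalBlock M G ∧ ∀ i, μ i ≠ χ then a χ ^ 2 else 0) =
      (Nat.card (WP P) : ℤ) := by
    have h3 : (0 - δ) ^ 2 + (n - 1 : ℤ) * 0 ^ 2 = 1 := by
      rw [zero_sub, neg_sq, hδ2]; ring
    linarith
  -- real version
  have hdeg : ∀ χ : IrrCharacter G, ∃ d : ℕ, 0 < d ∧ (χ : G → ℂ) 1 = d := fun χ =>
    H18.CharBasic.exists_degree_pos χ.2
  choose d hd0 hd using hdeg
  have h3 : ∑ χ : IrrCharacter G, (if χ ∈ principalBlock M G ∧ ∀ i, μ i ≠ χ then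
      (a χ : ℝ) ^ 3 / d χ else 0) = Nat.card (WP P) := by
    have h4 : (((∑ χ : IrrCharacter G, (if χ ∈ principalBlock M G ∧ ∀ i, μ i ≠ χ then
      (a χ : ℝ) ^ 3 / d χ else 0) : ℝ)) : ℂ) = (((Nat.card (WP P) : ℝ)) : ℂ) := by
      rw [Complex.ofReal_sum]
      rw [show (((Nat.card (WP P) : ℝ)) : ℂ) = (Nat.card (WP P) : ℂ) by push_cast; rfl, ← hsum]
      refine Finset.sum_congr rfl fun χ _ => ?_
      split_ifs
      · rw [hd]; push_cast; rfl
      · simp
    exact_mod_cast h4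
  have h5 : ∑ χ : IrrCharacter G, (if χ ∈ principalBlock M G ∧ ∀ i, μ i ≠ χ then (a χ : ℝ) ^ 2 else 0) =
      (Nat.card (WP P) : ℝ) := by
    have h6 : (((∑ χ : IrrCharacter G, (if χ ∈ principalBlock M G ∧ ∀ i, μ i ≠ χ then a χ ^ 2 else 0) : ℤ)) : ℝ) =
        ((Nat.card (WP P) : ℤ) : ℝ) := by rw [h2]
    rw [Int.cast_sum] at h6
    rw [Int.cast_natCast] at h6
    rw [← h6]
    refine Finset.sum_congr rfl fun χ _ => ?_
    split_ifs <;> push_cast <;> rfl
  have hle : ∀ χ : IrrCharacter G, (χ ∈ principalBlock M G ∧ ∀ i, μ i ≠ χ) → (a χ : ℝ) ≤ d χ := by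
    intro χ hχ
    have h6 := H18.CharBasic.char_norm_le (H18.CharBasic.isCharacter_of_isIrr χ.2) (x : G)
    rw [(h.aX χ hχ.1 hχ.2).2 x hx1, hd] at h6
    have h7 : ‖(a χ : ℂ)‖ = |(a χ : ℝ)| := by
      rw [← Complex.ofReal_intCast, Complex.norm_real, Real.norm_eq_abs]
    rw [h7] at h6
    exact (le_abs_self _).trans (by simpa using h6)
  have h8 : ∀ χ ∈ (Finset.univ : Finset (IrrCharacter G)),
      0 ≤ (if χ ∈ principalBlock M G ∧ ∀ i, μ i ≠ χ then (a χ : ℝ) ^ 2 - (a χ : ℝ) ^ 3 / d χ else 0) := by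
    intro χ _
    split_ifs with hχ
    · have h9 := hle χ hχ
      have hdR : (0 : ℝ) < d χ := by exact_mod_cast hd0 χ
      rw [sub_nonneg, div_le_iff₀ hdR]
      nlinarith [sq_nonneg (a χ : ℝ)]
    · exact le_refl _
  have h10 : ∑ χ : IrrCharacter G, (if χ ∈ principalBlock M G ∧ ∀ i, μ i ≠ χ then
      (a χ : ℝ) ^ 2 - (a χ : ℝ) ^ 3 / d χ else 0) = 0 := by
    have h11 : ∀ χ : IrrCharacter G, (if χ ∈ principalBlock M G ∧ ∀ i, μ i ≠ χ then
      (a χ : ℝ) ^ 2 - (a χ : ℝ) ^ 3 / d χ else 0) = (if χ ∈ principalBlock M G ∧ ∀ i, μ i ≠ χ then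
      (a χ : ℝ) ^ 2 else 0) - (if χ ∈ principalBlock M G ∧ ∀ i, μ i ≠ χ then (a χ : ℝ) ^ 3 / d χ else 0) := by
      intro χ
      split_ifs <;> simp
    rw [Finset.sum_congr rfl fun χ _ => h11 χ, Finset.sum_sub_distrib, h5, h3, sub_self]
  have h12 := (Finset.sum_eq_zero_iff_of_nonneg h8).1 h10
  have h13 : ∀ χ : IrrCharacter G, (χ ∈ principalBlock M G ∧ ∀ i, μ i ≠ χ) → (χ : G → ℂ) = fun _ => 1 := by
    intro χ hχ
    have h14 := h12 χ (Finset.mem_univ _)
    rw [if_pos hχ] at h14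
    have hdR : (0 : ℝ) < d χ := by exact_mod_cast hd0 χ
    have ha0 : (a χ : ℝ) ≠ 0 := by exact_mod_cast (h.aX χ hχ.1 hχ.2).1
    have h15 : (a χ : ℝ) = d χ := by
      field_simp at h14
      have h16 : (a χ : ℝ) ^ 2 * ((d χ : ℝ) - a χ) = 0 := by nlinarith
      rcases mul_eq_zero.1 h16 with h17 | h17
      · exact absurd (pow_eq_zero_iff (two_ne_zero) |>.1 h17) ha0
      · linarith
    refine BlkPair.eq_one_of_val χ.2 (c := (x : G)) (fun h' => hx1 (Subtype.ext h')) ?_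
    rw [(h.aX χ hχ.1 hχ.2).2 x hx1, hd]
    exact_mod_cast h15
  -- only the trivial character is nonexceptional
  have h18 : ∑ χ : IrrCharacter G, (if χ ∈ principalBlock M G ∧ ∀ i, μ i ≠ χ then a χ ^ 2 else 0) ≤ 1 := by
    set one : IrrCharacter G := ⟨_, H18.CharBasic.isIrrCharacter_one⟩ with hone
    have h19 : ∀ χ : IrrCharacter G, (if χ ∈ principalBlock M G ∧ ∀ i, μ i ≠ χ then a χ ^ 2 else 0) ≤
        if χ = one then 1 else 0 := by
      intro χ
      by_cases hχ : χ ∈ principalBlock M G ∧ ∀ i, μ i ≠ χ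
      · rw [if_pos hχ]
        have h20 : χ = one := Subtype.ext (h13 χ hχ)
        rw [if_pos h20]
        have h21 := (h.aX χ hχ.1 hχ.2).2 x hx1
        rw [h13 χ hχ] at h21
        have h22 : a χ = 1 := by
          have h23 : (1 : ℂ) = (a χ : ℂ) := h21
          exact_mod_cast h23.symm
        rw [h22]; norm_num
      · rw [if_neg hχ]
        split_ifs <;> norm_num
    calc _ ≤ ∑ χ : IrrCharacter G, (if χ = one then (1 : ℤ) else 0) := Finset.sum_le_sum fun χ _ => h19 χ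
      _ = 1 := by rw [Finset.sum_ite_eq' Finset.univ one, if_pos (Finset.mem_univ _)]
  rw [h2] at h18
  have : (2 : ℤ) ≤ (Nat.card (WP P) : ℤ) := by exact_mod_cast he
  linarith

end H38.BlkCyc
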