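import Cfsg.Agent.Lib.H38.BlkCyc3
import Cfsg.Agent.Lib.H72.CyclicSylow
import Cfsg.Agent.Lib.H2.NPC
import Cfsg.Agent.S0960

/-!
# Simple groups with cyclic Sylow `p`-subgroups and `p`-solvable pairs of elements of order `p`
-/

set_option autoImplicit false
set_option linter.unusedSectionVars false
open Cfsg H5.PBb H5.PBc H5.PBd H5.PBf
open scoped ComplexConjugate

namespace H38.BlkCyc

universe u

section basic

variable {G : Type u} [Group G] [Finite G] {p : ℕ} [hp : Fact p.Prime]

theorem hyp_of_cyclic [Fintype G] {P : Sylow p G} (hPc : IsCyclic (P : Subgroup G)) (hP1 : (P : Subgroup G) ≠ ⊥) :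
    Hyp P := by
  have hle := H72.CyclicSylow.le_centralizer_of_isCyclic (P : Subgroup G) hPc
  refine ⟨?_, ?_, ?_⟩
  · intro a ha b hb
    exact (Subgroup.mem_centralizer_iff.1 (hle hb)) a ha
  · intro y hy hy1 n hn hc
    obtain ⟨g, hg, a, hgen, hga, hall⟩ := H72.CyclicSylow.exists_pow_conj (P : Subgroup G) hPc hn
    have h1 : y ^ ((a : ℤ) - 1) = 1 := by
      have h2 := hall y hy
      rw [hc, mul_inv_cancel_right] at h2
      rw [zpow_sub, zpow_natCast, zpow_one, ← h2, mul_inv_cancel]
    have h2 : (orderOf y : ℤ) ∣ (a : ℤ) - 1 := orderOf_dvd_iff_zpow_eq_one.2 h1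
    obtain ⟨k, hk⟩ := pel_of_mem hy
    have h3 : p ∣ orderOf y := by
      rw [hk]
      apply dvd_pow_self
      rintro rfl
      rw [pow_zero, orderOf_eq_one_iff] at hk
      exact hy1 hk
    have h4 : (p : ℤ) ∣ (a : ℤ) - 1 := (Int.natCast_dvd_natCast.2 h3).trans h2
    obtain ⟨j, hj⟩ := H72.CyclicSylow.exists_pow_mem_centralizer (P : Subgroup G) P.2 hall h4
    exact H72.CyclicSylow.mem_centralizer_of_pow P hle hn hj
  · intro h
    exact hP1 (Subgroup.card_eq_one.1 h)

theorem exists_order_p {P : Sylow p G} (hP1 : (P : Subgroup G) ≠ ⊥) :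
    ∃ z : (P : Subgroup G), orderOf z = p := by
  obtain ⟨x, hx, hxo⟩ := H2.CycP.exists_orderOf_eq hP1 P.2
  exact ⟨⟨x, hx⟩, by rw [Subgroup.orderOf_mk]; exact hxo⟩

theorem ne_one_of_order {A : Type*} [Group A] {z : A} (hz : orderOf z = p) : z ≠ 1 := by
  rintro rfl
  rw [orderOf_one] at hz
  exact hp.out.one_lt.ne hz

/-- `|W| ≤ p - 1` -/
theorem card_W_lt [Fintype G] {P : Sylow p G} (hPc : IsCyclic (P : Subgroup G)) (hP1 : (P : Subgroup G) ≠ ⊥) :
    Nat.card (WP P) + 1 ≤ p := by
  classical
  obtain ⟨z, hz⟩ := exists_order_p hP1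
  have hH := hyp_of_cyclic hPc hP1
  have hfp := fpf hH
  have hz1 := ne_one_of_order hz
  have hmem : ∀ w : WP P, (w : MulAut (P : Subgroup G)) z ∈ Subgroup.zpowers z := by
    intro w
    have h1 : Subgroup.zpowers ((w : MulAut (P : Subgroup G)) z) = Subgroup.zpowers z :=
      H2.CycP.zpowers_eq_of_orderOf_eq hPc (by rw [MulEquiv.orderOf_eq])
    rw [← h1]; exact Subgroup.mem_zpowers _
  let f : Option (WP P) → Subgroup.zpowers z := fun o => match o with
    | none => 1
    | some w => ⟨_, hmem w⟩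
  have hf : Function.Injective f := by
    intro a b hab
    match a, b with
    | none, none => rfl
    | none, some w =>
      exfalso
      have h1 : (1 : (P : Subgroup G)) = (w : MulAut (P : Subgroup G)) z := congrArg Subtype.val hab
      exact hz1 ((MulEquiv.map_eq_one_iff _).1 h1.symm)
    | some w, none =>
      exfalso
      have h1 : (w : MulAut (P : Subgroup G)) z = 1 := congrArg Subtype.val hab
      exact hz1 ((MulEquiv.map_eq_one_iff _).1 h1)
    | some w, some v =>
      have h1 : (w : MulAut (P : Subgroup G)) z = (v : MulAut (P : Subgroup G)) z := congrArg Subtype.val hab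
      have h2 : ((v : MulAut (P : Subgroup G))⁻¹ * (w : MulAut (P : Subgroup G))) z = z := by
        rw [MulAut.mul_apply, h1]
        exact MulAut.inv_apply_self _ _ _
      by_contra hne
      refine hz1 (hfp _ ((WP P).mul_mem ((WP P).inv_mem v.2) w.2) (fun h' => hne ?_) _ h2)
      rw [Subtype.ext (inv_mul_eq_one.1 h').symm]
  have h1 := Nat.card_le_card_of_injective f hf
  rwa [Finite.card_option, Nat.card_zpowers, hz] at h1

/-- the automizer is nontrivial in a nonabelian simple group -/
theorem two_le_card_W [Fintype G] [IsSimpleGroup G] (hna : ¬ IsMulCommutative G) {P : Sylow p G}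
    (hPc : IsCyclic (P : Subgroup G)) (hP1 : (P : Subgroup G) ≠ ⊥) : 2 ≤ Nat.card (WP P) := by
  classical
  by_contra hlt
  have h0 : 0 < Nat.card (WP P) := Nat.card_pos
  have h1 : Nat.card (WP P) = 1 := by omega
  rw [card_WP, Subgroup.relIndex_eq_one] at h1
  obtain ⟨k, hk⟩ := nc_of_burnside P h1
  have hn : (pPrimeCore p G).Normal := H1.Cores.pPrimeCore_normal p
  have hcard : ¬ p ∣ Nat.card (pPrimeCore p G) := H20.Col2.not_dvd_card_pPrimeCore (G := G) (p := p)
  obtain ⟨z, hz⟩ := exists_order_p hP1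
  have hpG : p ∣ Nat.card G := by
    rw [← hz, ← Subgroup.orderOf_coe]
    exact orderOf_dvd_natCard _
  rcases hn.eq_bot_or_eq_top with h2 | h2
  · rw [h2, Subgroup.index_bot] at hk
    have h3 : IsPGroup p G := IsPGroup.of_card hk
    have h4 : (P : Subgroup G) = ⊤ := by
      have := P.3 (Q := ⊤) (h3.to_subgroup ⊤) le_top
      exact this.symm
    apply hna
    have h5 := H72.CyclicSylow.le_centralizer_of_isCyclic (P : Subgroup G) hPc
    rw [h4] at h5
    refine ⟨⟨fun a b => ?_⟩⟩
    exact (Subgroup.mem_centralizer_iff.1 (h5 (Subgroup.mem_top b))) a (Subgroup.mem_top a)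
  · rw [h2, Subgroup.card_top] at hcard
    exact hcard hpG

end basic

end H38.BlkCyc
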