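import Cfsg.Agent.Lib.H38.BlkCyc4

/-!
# Simple groups with cyclic Sylow `p`-subgroups and `p`-solvable pairs: end
-/

set_option autoImplicit false
set_option linter.unusedSectionVars false
open Cfsg H5.PBb H5.PBc H5.PBd H5.PBf
open scoped ComplexConjugate

namespace H38.BlkCyc

universe u

section exi

variable {G : Type u} [Group G] [Fintype G] {M : Ideal AlgInt} {p : ℕ} [hp : Fact p.Prime]
variable {P : Sylow p G} [Fintype (P : Subgroup G)] [Fintype (WP P)]
variable {n : ℕ} {rep : Fin n → ((P : Subgroup G) →* ℂˣ)}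

/-- a nontrivial linear character trivial on the elements of order `p` -/
theorem exists_type_zero (hPc : IsCyclic (P : Subgroup G)) (hq : Nat.card (P : Subgroup G) ≠ p)
    (hP1 : (P : Subgroup G) ≠ ⊥) :
    ∃ ψ : (P : Subgroup G) →* ℂˣ, ψ ≠ 1 ∧ ∀ t : (P : Subgroup G), orderOf t = p → ψ t = 1 := by
  classical
  obtain ⟨g, hg⟩ := hPc.exists_generator
  have hcom : ∀ a b : (P : Subgroup G), a * b = b * a := by
    letI : CommGroup (P : Subgroup G) := IsCyclic.commGroup
    exact mul_comm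
  have hgp : g ^ p ≠ 1 := by
    intro h
    have h1 : orderOf g ∣ p := orderOf_dvd_of_pow_eq_one h
    have h2 : orderOf g = Nat.card (P : Subgroup G) := orderOf_eq_card_of_forall_mem_zpowers hg
    rw [h2] at h1
    rcases (Nat.dvd_prime hp.out).1 h1 with h3 | h3
    · exact hP1 (Subgroup.card_eq_one.1 h3)
    · exact hq h3
  have hcm : g ^ p ∉ commutator (P : Subgroup G) := by
    have h1 : commutator (P : Subgroup G) = ⊥ := by
      rw [commutator_def, Subgroup.commutator_eq_bot_iff_le_centralizer]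
      intro x _
      rw [Subgroup.mem_centralizer_iff]
      intro y _
      exact hcom y x
    rw [h1, Subgroup.mem_bot]
    exact hgp
  obtain ⟨f, hf⟩ := H18.CharQuot.exists_hom_ne_one hcm
  refine ⟨f ^ p, ?_, ?_⟩
  · intro h
    apply hf
    have h1 := DFunLike.congr_fun h g
    rw [MonoidHom.pow_apply, ← map_pow] at h1
    exact h1
  · intro t ht
    have h1 : t ^ p = 1 := orderOf_dvd_iff_pow_eq_one.1 (dvd_of_eq ht)
    rw [MonoidHom.pow_apply, ← map_pow, h1, map_one]

theorem exists_ne (hH : Hyp P) (hPc : IsCyclic (P : Subgroup G)) (hP1 : (P : Subgroup G) ≠ ⊥)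
    (hrep : Reps (WP P) n rep) (hn : 2 ≤ n) (he : 2 ≤ Nat.card (WP P))
    (hall : ∀ (i j : Fin n) (x y : (P : Subgroup G)), orderOf x = p → orderOf y = p →
      Th (WP P) (rep i) x * Th (WP P) (rep i) y = Th (WP P) (rep j) x * Th (WP P) (rep j) y) : False := by
  classical
  have hF := frame hH
  have hfp := fpf hH
  obtain ⟨z, hz⟩ := exists_order_p hP1
  have hz1 := ne_one_of_order hz
  have hcard := hrep.card hF.comm hfp
  obtain ⟨i₀⟩ : Nonempty (Fin n) := ⟨⟨0, by omega⟩⟩
  have hav : ∀ (i : Fin n) (x y : (P : Subgroup G)), orderOf x = p → orderOf y = p →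
      (n : ℂ) * (Th (WP P) (rep i) x * Th (WP P) (rep i) y) = ∑ j, Th (WP P) (rep j) x * Th (WP P) (rep j) y := by
    intro i x y hx hy
    rw [Finset.sum_congr rfl fun j _ => hall j i x y hx hy, Finset.sum_const, Finset.card_univ,
      Fintype.card_fin, nsmul_eq_mul]
  have hpos : ∀ (i : Fin n) (x y : (P : Subgroup G)), orderOf x = p → orderOf y = p →
      (∃ v ∈ WP P, v y = x⁻¹) → (n : ℂ) * (Th (WP P) (rep i) x * Th (WP P) (rep i) y) =
      (Nat.card (P : Subgroup G) : ℂ) - Nat.card (WP P) := by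
    intro i x y hx hy hv
    rw [hav i x y hx hy, sum_Th_Th hF.comm hrep hfp (ne_one_of_order hy), if_pos hv]
  have hneg : ∀ (i : Fin n) (x y : (P : Subgroup G)), orderOf x = p → orderOf y = p →
      (¬ ∃ v ∈ WP P, v y = x⁻¹) → (n : ℂ) * (Th (WP P) (rep i) x * Th (WP P) (rep i) y) =
      0 - Nat.card (WP P) := by
    intro i x y hx hy hv
    rw [hav i x y hx hy, sum_Th_Th hF.comm hrep hfp (ne_one_of_order hy), if_neg hv]
  by_cases hq : Nat.card (P : Subgroup G) = p
  · -- order `p`: two classes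
    obtain ⟨y, hy, hyz⟩ : ∃ y : (P : Subgroup G), orderOf y = p ∧ ¬ ∃ v ∈ WP P, v y = z⁻¹ := by
      by_contra hcon
      push Not at hcon
      have h1 : ∀ y : (P : Subgroup G), y ≠ 1 → orderOf y = p := by
        intro y hy
        have h2 : orderOf y ∣ p := (orderOf_dvd_natCard y).trans (dvd_of_eq hq)
        rcases (Nat.dvd_prime hp.out).1 h2 with h3 | h3
        · exact absurd (orderOf_eq_one_iff.1 h3) hy
        · exact h3
      have h2 : ∀ y : {y : (P : Subgroup G) // y ≠ 1}, ∃ v : WP P, (v : MulAut (P : Subgroup G)) y = z⁻¹ := by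
        rintro ⟨y, hy⟩
        obtain ⟨v, hv, hvy⟩ := hcon y (h1 y hy)
        exact ⟨⟨v, hv⟩, hvy⟩
      choose F hFv using h2
      have hinj : Function.Injective F := by
        intro a b hab
        have h3 := hFv a
        rw [hab, ← hFv b] at h3
        exact Subtype.ext ((F b : MulAut (P : Subgroup G)).injective h3)
      have h4 := Nat.card_le_card_of_injective F hinj
      have h5 : Nat.card {y : (P : Subgroup G) // y ≠ 1} = Nat.card (P : Subgroup G) - 1 := by
        rw [Nat.card_eq_fintype_card, Nat.card_eq_fintype_card, Fintype.card_subtype_compl]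
        simp
      rw [h5] at h4
      have h6 : 2 * Nat.card (WP P) ≤ n * Nat.card (WP P) := Nat.mul_le_mul_right _ hn
      omega
    have hzi : orderOf z⁻¹ = p := by rw [orderOf_inv, hz]
    have hyi : orderOf y⁻¹ = p := by rw [orderOf_inv, hy]
    have e1 := hneg i₀ z y hz hy hyz
    have e2 := hpos i₀ z z⁻¹ hz hzi ⟨1, (WP P).one_mem, rfl⟩
    have e3 := hpos i₀ y y⁻¹ hy hyi ⟨1, (WP P).one_mem, rfl⟩
    rw [← conj_Th] at e2 e3
    have e4 := congrArg conj e1
    rw [map_mul, map_mul, map_sub, map_natCast, map_zero, map_natCast] at e4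
    set a := Th (WP P) (rep i₀) z with ha
    set b := Th (WP P) (rep i₀) y with hb
    have e5 : ((n : ℂ) * (a * b)) * ((n : ℂ) * (conj a * conj b)) =
        ((n : ℂ) * (a * conj a)) * ((n : ℂ) * (b * conj b)) := by ring
    rw [e1, e4, e2, e3] at e5
    have e6 : ((Nat.card (WP P) : ℤ)) ^ 2 = ((Nat.card (P : Subgroup G) : ℤ) - Nat.card (WP P)) ^ 2 := by
      have : (((Nat.card (WP P) : ℤ) ^ 2 : ℤ) : ℂ) =
          ((((Nat.card (P : Subgroup G) : ℤ) - Nat.card (WP P)) ^ 2 : ℤ) : ℂ) := by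
        push_cast
        linear_combination e5
      exact_mod_cast this
    have hcardZ : (n : ℤ) * Nat.card (WP P) + 1 = Nat.card (P : Subgroup G) := by exact_mod_cast hcard
    have hnZ : (2 : ℤ) ≤ n := by exact_mod_cast hn
    have heZ : (2 : ℤ) ≤ (Nat.card (WP P) : ℤ) := by exact_mod_cast he
    have e7 : (Nat.card (P : Subgroup G) : ℤ) * ((Nat.card (P : Subgroup G) : ℤ) - 2 * Nat.card (WP P)) = 0 := by
      nlinarith
    rcases mul_eq_zero.1 e7 with h | h
    · nlinarith
    · have h8 : ((n : ℤ) - 2) * Nat.card (WP P) = -1 := by linarith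
      nlinarith
  · obtain ⟨ψ, hψ1, hψ⟩ := exists_type_zero hPc hq hP1
    obtain ⟨i, w, hw, hwi⟩ := hrep.ex ψ hψ1
    have h1 : ∀ t : (P : Subgroup G), orderOf t = p → Th (WP P) (rep i) t = Nat.card (WP P) := by
      intro t ht
      rw [← Th_tw hw (rep i), hwi, Th_apply]
      have h2 : ∀ v : WP P, (ψ ((v : MulAut (P : Subgroup G)) t) : ℂ) = 1 := by
        intro v
        rw [hψ _ (by rw [MulEquiv.orderOf_eq, ht])]
        rfl
      rw [Finset.sum_congr rfl fun v _ => h2 v, Finset.sum_const, Finset.card_univ, nsmul_eq_mul, mul_one,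
        Nat.card_eq_fintype_card]
    have hzi : orderOf z⁻¹ = p := by rw [orderOf_inv, hz]
    have e2 := hpos i z z⁻¹ hz hzi ⟨1, (WP P).one_mem, rfl⟩
    rw [h1 z hz, h1 z⁻¹ hzi] at e2
    have e3 : (n : ℤ) * (Nat.card (WP P) * Nat.card (WP P)) = (Nat.card (P : Subgroup G) : ℤ) - Nat.card (WP P) := by
      exact_mod_cast e2
    have hcardZ : (n : ℤ) * Nat.card (WP P) + 1 = Nat.card (P : Subgroup G) := by exact_mod_cast hcard
    have hnZ : (2 : ℤ) ≤ n := by exact_mod_cast hn
    have heZ : (2 : ℤ) ≤ (Nat.card (WP P) : ℤ) := by exact_mod_cast he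
    nlinarith

end exi

section main

variable {G : Type u} [Group G] [Fintype G] {M : Ideal AlgInt} {p : ℕ} [hp : Fact p.Prime]
variable {P : Sylow p G} [Fintype (P : Subgroup G)] [Fintype (WP P)] [Fintype (IrrCharacter G)]
variable {n : ℕ} {rep : Fin n → ((P : Subgroup G) →* ℂˣ)} {i₀ : Fin n}
  {μ : Fin n → IrrCharacter G} {δ : ℤ} {a : IrrCharacter G → ℤ}

/-- the case `d = 0` -/
theorem main_zero [IsSimpleGroup G] (hM : IsPModular p M) (hH : Hyp P) (hPc : IsCyclic (P : Subgroup G))
    (hP1 : (P : Subgroup G) ≠ ⊥)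
    (hs : ∀ x y : G, orderOf x = p → orderOf y = p → IsPSolvable p ↥(Subgroup.closure ({x, y} : Set G)))
    (hrep : Reps (WP P) n rep) (hn : 2 ≤ n) (he : 2 ≤ Nat.card (WP P))
    (h : Out M p (P : Subgroup G) (WP P) n rep i₀ μ δ 0 a) : False := by
  classical
  obtain ⟨z, hz⟩ := exists_order_p hP1
  have h1 : ∀ i, (Nat.card (WP P) : ℂ) * δ = (μ i : G → ℂ) 1 := by
    by_contra hcon
    push Not at hcon
    obtain ⟨i, hi⟩ := hcon
    have hdeg : ∀ j, (μ j : G → ℂ) 1 = (μ i : G → ℂ) 1 := fun j => h.regY (fun ψ φ => D_one hM ψ φ) j i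
    refine exists_ne hH hPc hP1 hrep hn he fun j k x y hx hy => ?_
    rcases mul_eq_zero.1 (rel_ij hM hH hPc hs h hx hy j k) with h2 | h2
    · rw [hdeg j] at h2
      exact absurd (sub_eq_zero.1 h2) hi
    · exact sub_eq_zero.1 h2
  obtain ⟨d, hd0, hd⟩ := H18.CharBasic.exists_degree_pos (μ i₀).2
  have h2 := h1 i₀
  rw [hd] at h2
  have h3 : (Nat.card (WP P) : ℤ) * δ = d := by exact_mod_cast h2
  have hδ : δ = 1 := by
    rcases h.hδ with h' | h'
    · exact h'
    · rw [h'] at h3
      have : (2 : ℤ) ≤ (Nat.card (WP P) : ℤ) := by exact_mod_cast he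
      have : (0 : ℤ) < d := by exact_mod_cast hd0
      linarith
  have hD : (μ i₀ : G → ℂ) 1 = Nat.card (WP P) := by
    rw [← h1 i₀, hδ]; simp
  exact final hM hH hrep h hz he (rel_one hM hH hPc hs h hz hδ hD)

end main

/-- the coefficients: `d = 0` may be assumed -/
theorem exists_out_zero {G : Type u} [Group G] [Fintype G] {M : Ideal AlgInt} {p : ℕ} [hp : Fact p.Prime]
    {P : Sylow p G} [Fintype (P : Subgroup G)] [Fintype (WP P)] [Fintype (IrrCharacter G)]
    {n : ℕ} {rep : Fin n → ((P : Subgroup G) →* ℂˣ)}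
    (hM : IsPModular p M) (hH : Hyp P) (hPc : IsCyclic (P : Subgroup G)) (hP1 : (P : Subgroup G) ≠ ⊥)
    (hrep : Reps (WP P) n rep) (hn : 2 ≤ n) (he : 2 ≤ Nat.card (WP P)) (i₀ : Fin n) :
    ∃ (μ : Fin n → IrrCharacter G) (δ : ℤ) (a : IrrCharacter G → ℤ),
      Out M p (P : Subgroup G) (WP P) n rep i₀ μ δ 0 a := by
  classical
  have hMp := H20.Loc.pm_isPrime hM
  have hF := frame hH
  have hfp := fpf hH
  obtain ⟨μ, δ, d, a, h⟩ := H5.PBe.exists_out hM hF hfp hrep hn i₀
  have hcard := hrep.card hF.comm hfp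
  have hW := card_W_lt hPc hP1
  have hnorm := h.norm hM hF hfp hrep
  have hnZ : (2 : ℤ) ≤ n := by exact_mod_cast hn
  have heZ : (2 : ℤ) ≤ (Nat.card (WP P) : ℤ) := by exact_mod_cast he
  set S : ℤ := ∑ χ : IrrCharacter G, (if χ ∈ principalBlock M G ∧ ∀ i, μ i ≠ χ then a χ ^ 2 else 0) with hS
  by_cases hd : d = 0
  · subst hd
    exact ⟨μ, δ, a, h⟩
  have hd2 : 1 ≤ d ^ 2 := by
    have : 0 < d ^ 2 := by positivity
    linarith
  by_cases hq : Nat.card (P : Subgroup G) = p
  · -- number of characters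
    have hp2 : p ≠ 2 := by
      intro h2
      omega
    have hB := (Cfsg.Agent.S0960.result p M hM hp2 P hq _ rfl).1
    have hW' : (Subgroup.centralizer ((P : Subgroup G) : Set G)).relIndex
        (Subgroup.normalizer ((P : Subgroup G) : Set G)) = Nat.card (WP P) := (card_WP P).symm
    rw [hW'] at hB
    have hdiv : (p - 1) / Nat.card (WP P) = n := by
      have h0 : p - 1 = n * Nat.card (WP P) := by omega
      rw [h0]
      exact Nat.mul_div_cancel _ (by omega)
    rw [hdiv] at hB
    have hsplit := H5.PBe.sum_split (M := M) (μ := μ) (fun χ => if χ ∈ principalBlock M G then (1 : ℤ) else 0)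
      h.inj h.mem (fun χ hχ => if_neg hχ)
    have h1 : ∑ χ : IrrCharacter G, (if χ ∈ principalBlock M G then (1 : ℤ) else 0) = Nat.card (WP P) + n := by
      rw [Finset.sum_boole]
      have h2 : (Finset.univ.filter fun χ : IrrCharacter G => χ ∈ principalBlock M G).card =
          Nat.card (principalBlock M G) := by
        rw [Nat.card_eq_fintype_card, ← Set.toFinset_card]
        congr 1
        ext χ
        simp
      rw [h2, hB]
      push_cast
      ring
    have h2 : ∑ i, (if (μ i) ∈ principalBlock M G then (1 : ℤ) else 0) = n := by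
      rw [Finset.sum_congr rfl fun i _ => if_pos (h.mem i), Finset.sum_const, Finset.card_univ,
        Fintype.card_fin]
      simp
    rw [h1, h2] at hsplit
    have h3 : (Nat.card (WP P) : ℤ) ≤ S := by
      have h4 : (Nat.card (WP P) : ℤ) = ∑ χ : IrrCharacter G,
        (if χ ∈ principalBlock M G ∧ ∀ i, μ i ≠ χ then (if χ ∈ principalBlock M G then (1 : ℤ) else 0) else 0) := by
        linarith
      rw [h4, hS]
      refine Finset.sum_le_sum fun χ _ => ?_
      by_cases hχ : χ ∈ principalBlock M G ∧ ∀ i, μ i ≠ χ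
      · rw [if_pos hχ, if_pos hχ, if_pos hχ.1]
        have h5 := (h.aX χ hχ.1 hχ.2).1
        have : 0 < a χ ^ 2 := by positivity
        linarith
      · rw [if_neg hχ, if_neg hχ]
    have h5 : (d - δ) ^ 2 + ((n : ℤ) - 1) * d ^ 2 ≤ 1 := by linarith
    have h6 : (d - δ) ^ 2 = 0 ∧ n = 2 := by
      have h7 : ((n : ℤ) - 1) * d ^ 2 ≥ (n : ℤ) - 1 := by nlinarith
      have h8 : 0 ≤ (d - δ) ^ 2 := sq_nonneg _
      constructor
      · linarith
      · have : (n : ℤ) = 2 := by linarith
        exact_mod_cast this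
    have h9 : d = δ := by
      have := pow_eq_zero_iff (two_ne_zero) |>.1 h6.1
      linarith
    obtain ⟨μ', h', -⟩ := h.swap hM hF hrep hfp h6.2 h9
    exact ⟨μ', -δ, a, h'⟩
  · exfalso
    have hp2 : p * p ≤ Nat.card (P : Subgroup G) := by
      obtain ⟨k, hk⟩ := IsPGroup.iff_card.1 P.2
      have hk' : Nat.card (P : Subgroup G) = p ^ k := hk
      have h1 : k ≠ 0 := by
        rintro rfl
        rw [pow_zero] at hk'
        exact hP1 (Subgroup.card_eq_one.1 hk')
      have h2 : k ≠ 1 := by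
        rintro rfl
        rw [pow_one] at hk'
        exact hq hk'
      rw [hk', ← pow_two]
      exact Nat.pow_le_pow_right hp.out.pos (by omega)
    -- `S ≥ 1`
    have hS1 : 1 ≤ S := by
      have h1 := h.a_one hM hF hrep
      have h2 : (if (H20.NPC.one G) ∈ principalBlock M G ∧ ∀ i, μ i ≠ H20.NPC.one G then
        a (H20.NPC.one G) ^ 2 else 0) ≤ S := by
        rw [hS]
        refine Finset.single_le_sum (f := fun χ : IrrCharacter G =>
          (if χ ∈ principalBlock M G ∧ ∀ i, μ i ≠ χ then a χ ^ 2 else 0)) (fun χ _ => ?_) (Finset.mem_univ _)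
        split_ifs
        · positivity
        · exact le_refl _
      rw [if_pos ⟨H20.Klein.one_mem (M := M) (G := G), fun i => h.mu_ne_one hM hF hrep hn i⟩, h1] at h2
      linarith
    have h3 : ((n : ℤ) - 1) * d ^ 2 ≤ Nat.card (WP P) := by
      have := sq_nonneg (d - δ)
      linarith
    have h4 : ((n : ℤ) - 1) ≤ Nat.card (WP P) := by nlinarith
    have hcardZ : (n : ℤ) * Nat.card (WP P) + 1 = Nat.card (P : Subgroup G) := by exact_mod_cast hcard
    have hWZ : (Nat.card (WP P) : ℤ) + 1 ≤ p := by exact_mod_cast hW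
    have hpZ : (p : ℤ) * p ≤ Nat.card (P : Subgroup G) := by exact_mod_cast hp2
    have h5 : (n : ℤ) * Nat.card (WP P) ≤ (Nat.card (WP P) + 1) * Nat.card (WP P) := by nlinarith
    nlinarith

end H38.BlkCyc
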