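import Cfsg.Agent.Lib.H38.BlkCyc5
import Cfsg.Agent.Lib.H13.PSolvMap
import Cfsg.Agent.Lib.H66.PLen

/-!
# Groups with cyclic Sylow `p`-subgroups and `p`-solvable pairs of elements of order `p` are `p`-solvable
-/

set_option autoImplicit false
set_option linter.unusedSectionVars false
open Cfsg H5.PBb H5.PBc H5.PBd H5.PBf
open scoped ComplexConjugate

namespace H38.BlkCyc

universe u v

/-- the simple case -/
theorem simple_case {G : Type u} [Group G] [Finite G] [IsSimpleGroup G] (hna : ¬ IsMulCommutative G)
    {p : ℕ} [hp : Fact p.Prime] (P : Sylow p G) (hPc : IsCyclic (P : Subgroup G)) (hP1 : (P : Subgroup G) ≠ ⊥)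
    (hs : ∀ x y : G, orderOf x = p → orderOf y = p → IsPSolvable p ↥(Subgroup.closure ({x, y} : Set G))) :
    False := by
  classical
  letI := Fintype.ofFinite G
  letI := Fintype.ofFinite (P : Subgroup G)
  letI := Fintype.ofFinite (IrrCharacter G)
  letI := Fintype.ofFinite (WP P)
  obtain ⟨M, hM⟩ := H78.Cong.exists_isPModular hp.out
  have he := two_le_card_W hna hPc hP1
  have hW := card_W_lt hPc hP1
  have hH := hyp_of_cyclic hPc hP1
  have hF := frame hH
  have hfp := fpf hH
  obtain ⟨n, rep, hrep⟩ := exists_reps hF.comm (WP P)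
  have hcard := hrep.card hF.comm hfp
  have hq : p ≤ Nat.card (P : Subgroup G) := by
    obtain ⟨k, hk⟩ := IsPGroup.iff_card.1 P.2
    have hk' : Nat.card (P : Subgroup G) = p ^ k := hk
    have h1 : k ≠ 0 := by
      rintro rfl
      rw [pow_zero] at hk'
      exact hP1 (Subgroup.card_eq_one.1 hk')
    rw [hk']
    exact Nat.le_self_pow h1 p
  have hp2 := hp.out.two_le
  have hn0 : n ≠ 0 := by
    rintro rfl
    omega
  by_cases hn : n = 1
  · subst hn
    rw [one_mul] at hcard
    have hqp : Nat.card (P : Subgroup G) = p := by omega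
    have hpne : p ≠ 2 := by omega
    have hord : ∀ x : (P : Subgroup G), x ≠ 1 → orderOf (x : G) = p := by
      intro x hx
      have h2 : orderOf x ∣ p := (orderOf_dvd_natCard x).trans (dvd_of_eq hqp)
      rcases (Nat.dvd_prime hp.out).1 h2 with h3 | h3
      · exact absurd (orderOf_eq_one_iff.1 h3) hx
      · rw [Subgroup.orderOf_coe]; exact h3
    refine BlkPair.main hpne P hP1 ⟨⟨⟨hF.comm⟩⟩, ?_⟩ ?_ ?_ hs
    · intro x hx
      have h1 : (⟨x, hx⟩ : (P : Subgroup G)) ^ Nat.card (P : Subgroup G) = 1 := pow_card_eq_one'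
      have h2 := congrArg Subtype.val h1
      rw [hqp] at h2
      exact h2
    · intro x hx y hy hx1 hy1
      have hx1' : (⟨x, hx⟩ : (P : Subgroup G)) ≠ 1 := fun h => hx1 (congrArg Subtype.val h)
      have hy1' : (⟨y, hy⟩ : (P : Subgroup G)) ≠ 1 := fun h => hy1 (congrArg Subtype.val h)
      let f : WP P → {t : (P : Subgroup G) // t ≠ 1} := fun w =>
        ⟨(w : MulAut (P : Subgroup G)) ⟨x, hx⟩, fun h => hx1' ((MulEquiv.map_eq_one_iff _).1 h)⟩
      have hf : Function.Injective f := by
        intro w v hwv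
        have h1 : (w : MulAut (P : Subgroup G)) ⟨x, hx⟩ = (v : MulAut (P : Subgroup G)) ⟨x, hx⟩ :=
          congrArg Subtype.val hwv
        have h2 : ((v : MulAut (P : Subgroup G))⁻¹ * (w : MulAut (P : Subgroup G))) ⟨x, hx⟩ = ⟨x, hx⟩ := by
          rw [MulAut.mul_apply, h1]
          exact MulAut.inv_apply_self _ _ _
        by_contra hne
        refine hx1' (hfp _ ((WP P).mul_mem ((WP P).inv_mem v.2) w.2) (fun h' => hne ?_) _ h2)
        exact (Subtype.ext (inv_mul_eq_one.1 h').symm)
      have hc : Nat.card (WP P) = Nat.card {t : (P : Subgroup G) // t ≠ 1} := by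
        have h5 : Nat.card {t : (P : Subgroup G) // t ≠ 1} = Nat.card (P : Subgroup G) - 1 := by
          rw [Nat.card_eq_fintype_card, Nat.card_eq_fintype_card, Fintype.card_subtype_compl]
          simp
        omega
      have hbij : Function.Bijective f := by
        rw [Fintype.bijective_iff_injective_and_card]
        exact ⟨hf, by rw [← Nat.card_eq_fintype_card, ← Nat.card_eq_fintype_card, hc]⟩
      obtain ⟨w, hw⟩ := hbij.2 ⟨⟨y, hy⟩, hy1'⟩
      have h3 : (w : MulAut (P : Subgroup G)) ⟨x, hx⟩ = ⟨y, hy⟩ := congrArg Subtype.val hw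
      obtain ⟨g, hg⟩ := isConj_iff.1 ((fusion hH ⟨x, hx⟩ ⟨y, hy⟩).2 ⟨w, w.2, h3⟩)
      exact ⟨g, hg⟩
    · intro x hx hxo
      have hx1 : (⟨x, hx⟩ : (P : Subgroup G)) ≠ 1 := by
        intro h
        have h1 : x = 1 := congrArg Subtype.val h
        rw [h1, orderOf_one] at hxo
        exact hp.out.one_lt.ne hxo
      obtain ⟨k, hk⟩ := (hF.nx ⟨x, hx⟩ hx1).nc
      have hn' : (pPrimeCore p (Subgroup.centralizer ({x} : Set G))).Normal := H1.Cores.pPrimeCore_normal p
      exact H2.NPC.of_card_index (pPrimeCore p (Subgroup.centralizer ({x} : Set G)))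
        (H20.Col2.not_dvd_card_pPrimeCore (G := Subgroup.centralizer ({x} : Set G)) (p := p)) hk
  · have hn2 : 2 ≤ n := by omega
    obtain ⟨μ, δ, a, h⟩ := exists_out_zero hM hH hPc hP1 hrep hn2 he ⟨0, by omega⟩
    exact main_zero hM hH hPc hP1 hs hrep hn2 he h

/-! ### reduction -/

theorem isPSolvable_of_ker' {G : Type u} {G' : Type v} [Group G] [Finite G] [Group G'] {p : ℕ}
    [hp : Fact p.Prime] (f : G →* G') (hf : Function.Surjective f) (hker : (Nat.card f.ker).Coprime p)
    (h : IsPSolvable p G') : IsPSolvable p G := by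
  obtain ⟨n, H, h0, hl, hm, hn, hs⟩ := h
  let H' : Fin (n + 1 + 1) → Subgroup G :=
    Fin.cons (α := fun _ => Subgroup G) ⊥ (fun i => (H i).comap f)
  have e0 : H' 0 = ⊥ := rfl
  have es : ∀ i : Fin (n + 1), H' i.succ = (H i).comap f := fun i => rfl
  refine ⟨n + 1, H', e0, ?_, ?_, ?_, fun i => ?_⟩
  · rw [← Fin.succ_last, es, hl, Subgroup.comap_top]
  · intro i j hij
    induction i using Fin.cases with
    | zero => rw [e0]; exact bot_le
    | succ i =>
      induction j using Fin.cases with
      | zero => exact absurd hij (by simp)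
      | succ j =>
        rw [es, es]
        exact Subgroup.comap_mono (hm (Fin.succ_le_succ_iff.1 hij))
  · intro i
    induction i using Fin.cases with
    | zero => rw [e0]; infer_instance
    | succ i =>
      rw [es]
      have := hn i
      infer_instance
  · induction i using Fin.cases with
    | zero =>
      right
      rw [Fin.castSucc_zero, e0, es, h0, Subgroup.relIndex_bot_left]
      exact hker
    | succ i =>
      rw [Fin.castSucc_succ, es, es]
      have := hn i.castSucc
      rw [H66.PLen.relIndex_comap_of_surjective f hf]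
      exact hs i

theorem isPSolvable_of_coprime {G : Type u} [Group G] {p : ℕ} (h : (Nat.card G).Coprime p) :
    IsPSolvable p G := by
  refine ⟨1, ![⊥, ⊤], rfl, rfl, ?_, ?_, ?_⟩
  · intro i j hij
    fin_cases i <;> fin_cases j <;> simp at hij ⊢
  · intro i
    fin_cases i
    · exact (inferInstance : (⊥ : Subgroup G).Normal)
    · exact (inferInstance : (⊤ : Subgroup G).Normal)
  · intro i
    right
    fin_cases i
    show ((⊥ : Subgroup G).relIndex ⊤).Coprime p
    rw [Subgroup.relIndex_bot_left, Subgroup.card_top]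
    exact h

/-- a normal `p`-subgroup with quotient a `p'`-group -/
theorem isPSolvable_of_normal {G : Type u} [Group G] {p : ℕ} (C : Subgroup G) [hC : C.Normal]
    (h1 : ∃ k : ℕ, Nat.card C = p ^ k) (h2 : C.index.Coprime p) : IsPSolvable p G := by
  refine ⟨2, ![⊥, C, ⊤], rfl, rfl, ?_, ?_, ?_⟩
  · intro i j hij
    fin_cases i <;> fin_cases j <;> simp at hij ⊢
  · intro i
    fin_cases i
    · exact (inferInstance : (⊥ : Subgroup G).Normal)
    · exact hC
    · exact (inferInstance : (⊤ : Subgroup G).Normal)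
  · intro i
    fin_cases i
    · left
      show ∃ m, (⊥ : Subgroup G).relIndex C = p ^ m
      rw [Subgroup.relIndex_bot_left]
      exact h1
    · right
      show (C.relIndex ⊤).Coprime p
      rw [Subgroup.relIndex_top_right]
      exact h2

section red
variable {G : Type u} [Group G] [Finite G] {p : ℕ} [hp : Fact p.Prime]

/-- elements of order `p` lift modulo a `p'`-group -/
theorem exists_lift {N : Subgroup G} [N.Normal] (hN : ¬ p ∣ Nat.card N) {x : G ⧸ N} (hx : orderOf x = p) :
    ∃ y : G, (y : G ⧸ N) = x ∧ orderOf y = p := by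
  obtain ⟨g, rfl⟩ := QuotientGroup.mk_surjective x
  obtain ⟨u, hu⟩ := H19.Second.exists_isPPart hp.out g
  obtain ⟨r, hur, hcom, ⟨k, hk⟩, hr⟩ := hu
  have h1 : IsPPart p (g : G ⧸ N) (u : G ⧸ N) := by
    refine ⟨r, ?_, ?_, ?_, ?_⟩
    · rw [← QuotientGroup.mk_mul, hur]
    · show (u : G ⧸ N) * r = r * u
      rw [← QuotientGroup.mk_mul, ← QuotientGroup.mk_mul, hcom.eq]
    · have h2 : orderOf (u : G ⧸ N) ∣ p ^ k := by
        rw [← hk]; exact orderOf_map_dvd (QuotientGroup.mk' N) u
      obtain ⟨j, -, hj⟩ := (Nat.dvd_prime_pow hp.out).1 h2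
      exact ⟨j, hj⟩
    · intro h
      exact hr (h.trans (orderOf_map_dvd (QuotientGroup.mk' N) r))
  have h2 : IsPPart p (g : G ⧸ N) (g : G ⧸ N) := BlkPair.isPPart_self ⟨1, by rw [hx, pow_one]⟩
  have h3 := H19.Second.isPPart_unique hp.out h1 h2
  refine ⟨u, h3, ?_⟩
  have h4 : u ^ p ∈ N := by
    rw [← QuotientGroup.eq_one_iff, QuotientGroup.mk_pow, h3, ← hx, pow_orderOf_eq_one]
  have h5 : u ^ p = 1 := by
    refine BlkPair.eq_one_of_pow (p := p) (k := k) ?_ hp.out ?_
    · rw [← hk]; exact orderOf_pow_dvd p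
    · intro h
      exact hN (h.trans (by
        have := orderOf_dvd_natCard (⟨u ^ p, h4⟩ : N)
        rwa [Subgroup.orderOf_mk] at this))
  refine orderOf_eq_prime h5 ?_
  rintro rfl
  rw [QuotientGroup.mk_one] at h3
  rw [← h3, orderOf_one] at hx
  exact hp.out.one_lt.ne hx

/-- the case `O_{p'}(G) = 1 ≠ O_p(G)` -/
theorem of_pCore (P : Sylow p G) (hPc : IsCyclic (P : Subgroup G)) (h1 : pPrimeCore p G = ⊥)
    (h2 : pCore p G ≠ ⊥) : IsPSolvable p G := by
  obtain ⟨z, hzO, hz⟩ := H2.CycP.exists_orderOf_eq h2 (H1.Cores.isPGroup_pCore p)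
  have hOP := H1.Cores.pCore_le_sylow (G := G) P
  have hOn : (pCore p G).Normal := H1.Cores.pCore_normal p
  set Z := Subgroup.zpowers z with hZ
  have hZO : Z ≤ pCore p G := by rw [hZ, Subgroup.zpowers_le]; exact hzO
  have hOc : IsCyclic (pCore p G) := isCyclic_of_injective (Subgroup.inclusion hOP) (Subgroup.inclusion_injective hOP)
  have hZn : Z.Normal := by
    constructor
    intro x hx g
    obtain ⟨k, rfl⟩ := Subgroup.mem_zpowers_iff.1 hx
    have h3 : g * z * g⁻¹ ∈ pCore p G := hOn.conj_mem z hzO g
    have h4 : Subgroup.zpowers (⟨g * z * g⁻¹, h3⟩ : pCore p G) = Subgroup.zpowers ⟨z, hzO⟩ := by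
      apply H2.CycP.zpowers_eq_of_orderOf_eq hOc
      rw [Subgroup.orderOf_mk, Subgroup.orderOf_mk, BlkPair.orderOf_conj]
    have h5 : (⟨g * z * g⁻¹, h3⟩ : pCore p G) ∈ Subgroup.zpowers (⟨z, hzO⟩ : pCore p G) := by
      rw [← h4]; exact Subgroup.mem_zpowers _
    obtain ⟨j, hj⟩ := Subgroup.mem_zpowers_iff.1 h5
    have h6 : z ^ j = g * z * g⁻¹ := congrArg Subtype.val hj
    rw [← conj_zpow, ← h6]
    exact Subgroup.zpow_mem _ (Subgroup.zpow_mem _ (Subgroup.mem_zpowers z) _) _
  set C := Subgroup.centralizer (Z : Set G) with hC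
  have hCn : C.Normal := inferInstance
  have hPC : (P : Subgroup G) ≤ C := by
    intro x hx
    rw [hC, Subgroup.mem_centralizer_iff]
    intro y hy
    have h3 := H72.CyclicSylow.le_centralizer_of_isCyclic (P : Subgroup G) hPc
    exact (Subgroup.mem_centralizer_iff.1 (h3 hx)) y (hOP (hZO hy))
  have hZC : Z ≤ C := (hZO.trans hOP).trans hPC
  -- `C` has a normal `p`-complement
  have hnpc : HasNormalPComplement p C := by
    refine H72.CyclicSylow.hasNormalPComplement_of_central (P.subtype hPC) ?_ (Z.subgroupOf C) ?_ ?_ ?_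
    · rw [Sylow.coe_subtype]
      have e := Subgroup.subgroupOfEquivOfLe hPC
      exact isCyclic_of_surjective e.symm e.symm.surjective
    · rw [Sylow.coe_subtype]
      intro x hx
      exact hOP (hZO hx)
    · intro h
      have h3 : (⟨z, hZC (Subgroup.mem_zpowers z)⟩ : C) ∈ Z.subgroupOf C := Subgroup.mem_zpowers z
      rw [h, Subgroup.mem_bot] at h3
      have h4 : z = 1 := congrArg Subtype.val h3
      rw [h4, orderOf_one] at hz
      exact hp.out.one_lt.ne hz
    · intro x hx
      rw [Subgroup.mem_center_iff]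
      intro g
      apply Subtype.ext
      exact ((Subgroup.mem_centralizer_iff.1 g.2) (x : G) hx).symm
  obtain ⟨k, hk⟩ := BlkPair.index_of_complement hnpc
  have h3 : pPrimeCore p C = ⊥ := by
    rw [← H1.Cores.subgroupOf_pPrimeCore, h1]
    exact Subgroup.bot_subgroupOf C
  rw [h3, Subgroup.index_bot] at hk
  refine isPSolvable_of_normal C ⟨k, hk⟩ ?_
  rw [Nat.coprime_comm, hp.out.coprime_iff_not_dvd]
  intro h
  exact P.not_dvd_index (h.trans (Subgroup.index_dvd_of_le hPC))

end red

theorem main_aux (m : ℕ) : ∀ (G : Type u) [Group G] [Finite G] (p : ℕ) [Fact p.Prime] (P : Sylow p G),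
    Nat.card G ≤ m → IsCyclic (P : Subgroup G) →
    (∀ x y : G, orderOf x = p → orderOf y = p → IsPSolvable p ↥(Subgroup.closure ({x, y} : Set G))) →
    IsPSolvable p G := by
  induction m with
  | zero =>
    intro G _ _ p _ P hm
    exact absurd hm (by have := Nat.card_pos (α := G); omega)
  | succ m ih =>
    intro G _ _ p hp P hm hPc hs
    classical
    by_cases hO : pPrimeCore p G = ⊥
    swap
    · -- quotient by `O_{p'}`
      set N := pPrimeCore p G with hN
      have hNn : N.Normal := H1.Cores.pPrimeCore_normal p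
      have hNp : ¬ p ∣ Nat.card N := H20.Col2.not_dvd_card_pPrimeCore (G := G) (p := p)
      have hcard : Nat.card (G ⧸ N) ≤ m := by
        have h1 := Subgroup.card_eq_card_quotient_mul_card_subgroup N
        have h2 : Nat.card N ≠ 1 := fun h => hO (Subgroup.card_eq_one.1 h)
        have h3 : 0 < Nat.card N := Nat.card_pos
        have h4 : 0 < Nat.card (G ⧸ N) := Nat.card_pos
        have h5 : Nat.card (G ⧸ N) * 2 ≤ Nat.card (G ⧸ N) * Nat.card N := Nat.mul_le_mul_left _ (by omega)
        omega
      obtain ⟨R⟩ : Nonempty (Sylow p (G ⧸ N)) := inferInstance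
      have hall : ∀ Q : Sylow p G, IsCyclic (Q : Subgroup G) := fun Q =>
        H72.CyclicSylow.isCyclic_conj P Q hPc
      have hR := sylow_quotient_cyclic hall N R
      have h1 : IsPSolvable p (G ⧸ N) := by
        refine ih (G ⧸ N) p R hcard hR fun x y hx hy => ?_
        obtain ⟨x', rfl, hx'⟩ := exists_lift hNp hx
        obtain ⟨y', rfl, hy'⟩ := exists_lift hNp hy
        have h2 := H13.PSolvMap.map (hs x' y' hx' hy') (QuotientGroup.mk' N)
        rw [MonoidHom.map_closure, Set.image_pair] at h2
        exact h2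
      refine isPSolvable_of_ker' (QuotientGroup.mk' N) (QuotientGroup.mk'_surjective N) ?_ h1
      rw [QuotientGroup.ker_mk']
      exact H1.Cores.coprime_card_pPrimeCore p
    by_cases hOp : pCore p G = ⊥
    swap
    · exact of_pCore P hPc hO hOp
    by_cases hpG : p ∣ Nat.card G
    swap
    · exact isPSolvable_of_coprime ((Nat.coprime_comm.1 ((hp.out.coprime_iff_not_dvd).2 hpG)))
    have hP1 : (P : Subgroup G) ≠ ⊥ := by
      intro h
      have h1 := P.not_dvd_index
      rw [h, Subgroup.index_bot] at h1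
      exact h1 hpG
    have hnt : Nontrivial G := by
      rw [← Finite.one_lt_card_iff_nontrivial]
      have := Nat.le_of_dvd Nat.card_pos hpG
      have := hp.out.two_le
      omega
    -- the group is simple
    have hsimple : ∀ N : Subgroup G, N.Normal → N = ⊥ ∨ N = ⊤ := by
      intro N hN
      by_contra hcon
      push Not at hcon
      obtain ⟨hNb, hNt⟩ := hcon
      have h3 : pPrimeCore p N = ⊥ := by
        rw [← H1.Cores.subgroupOf_pPrimeCore, hO]
        exact Subgroup.bot_subgroupOf N
      have h3' : pCore p N = ⊥ := by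
        rw [← H1.Cores.subgroupOf_pCore, hOp]
        exact Subgroup.bot_subgroupOf N
      have hNnt : Nontrivial N := (Subgroup.nontrivial_iff_ne_bot N).2 hNb
      have hNs : IsPSolvable p N := by
        by_cases hidx : p ∣ N.index
        · have h4 := H72.CyclicSylow.hasNormalPComplement_normal P hPc N hidx
          obtain ⟨k, hk⟩ := BlkPair.index_of_complement h4
          rw [h3, Subgroup.index_bot] at hk
          exfalso
          have h5 : IsPGroup p N := IsPGroup.of_card hk
          have h6 : N ≤ pCore p G := H1.Cores.le_pCore hN h5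
          rw [hOp] at h6
          exact hNb (le_bot_iff.1 h6)
        · obtain ⟨R⟩ : Nonempty (Sylow p N) := inferInstance
          have hcard : Nat.card N ≤ m := by
            have h1 := N.card_mul_index
            have h2 : N.index ≠ 1 := fun h => hNt (Subgroup.index_eq_one.1 h)
            have h3 : 0 < Nat.card N := Nat.card_pos
            have h4 : N.index ≠ 0 := Subgroup.index_ne_zero_of_finite
            have h5 : Nat.card N * 2 ≤ Nat.card N * N.index := Nat.mul_le_mul_left _ (by omega)
            omega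
          refine ih N p R hcard (sylow_sub_cyclic P hPc N R) fun x y hx hy => ?_
          have h6 := hs x y (by rw [Subgroup.orderOf_coe, hx]) (by rw [Subgroup.orderOf_coe, hy])
          have h7 : (Subgroup.closure ({x, y} : Set N)).map N.subtype = Subgroup.closure ({(x : G), (y : G)} : Set G) := by
            rw [MonoidHom.map_closure, Set.image_pair]
            rfl
          rw [← h7] at h6
          exact H13.PSolvMap.of_equiv h6
            ((Subgroup.closure ({x, y} : Set N)).equivMapOfInjective N.subtype N.subtype_injective).symm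
      rcases H37.PSolv.core_ne_bot hNs with h4 | h4
      · exact h4 h3'
      · exact h4 h3
    have hsg : IsSimpleGroup G := ⟨fun N hN => hsimple N hN⟩
    by_cases hna : IsMulCommutative G
    · exfalso
      have hPn : (P : Subgroup G).Normal := by
        constructor
        intro x hx g
        rw [hna.is_comm.comm g x, mul_inv_cancel_right]
        exact hx
      have h1 : (P : Subgroup G) ≤ pCore p G := H1.Cores.le_pCore hPn P.2
      rw [hOp] at h1
      exact hP1 (le_bot_iff.1 h1)
    · exact (simple_case hna P hPc hP1 hs).elim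

theorem psolvable_of_pairs {G : Type u} [Group G] [Finite G] {p : ℕ} [Fact p.Prime] (P : Sylow p G)
    (hP : IsCyclic (P : Subgroup G))
    (hs : ∀ x y : G, orderOf x = p → orderOf y = p → IsPSolvable p ↥(Subgroup.closure ({x, y} : Set G))) :
    IsPSolvable p G :=
  main_aux (Nat.card G) G p P le_rfl hP hs

end H38.BlkCyc
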