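import Cfsg.Prelude.Def_Transfer
import Cfsg.Agent.Lib.H38.Basic
import Cfsg.Agent.Lib.H72.CyclicSylow
import Cfsg.Agent.Lib.H71.PCyc
import Cfsg.Agent.Lib.H37.PSolv
import Cfsg.Agent.Lib.H37.QuadCore
import Cfsg.Agent.Lib.H27.Sig

set_option autoImplicit false

/-! Groups with cyclic Sylow `p`-subgroups all of whose `p'`-subgroups are abelian: first reductions. -/

namespace H38.CycAb

open Subgroup H38.Basic

universe u

variable {p : ℕ}

/-- the hypothesis -/
structure Hyp (p : ℕ) (G : Type u) [Group G] : Prop where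
  cyc : ∀ P : Sylow p G, IsCyclic (P : Subgroup G)
  ab : ∀ H : Subgroup G, ¬ p ∣ Nat.card H → ∀ x ∈ H, ∀ y ∈ H, x * y = y * x

/-- the conclusion -/
def Con (p : ℕ) (G : Type u) [Group G] : Prop :=
  Cfsg.HasNormalPComplement p G ∨ ∀ P : Sylow p G, (P : Subgroup G).Normal

variable {G : Type u} [Group G] [Finite G] [hp : Fact p.Prime]

theorem Hyp.subgroup (h : Hyp p G) (K : Subgroup G) : Hyp p K := by
  constructor
  · intro Q
    obtain ⟨P, hP⟩ := (Q.2.map K.subtype).exists_le_sylow
    haveI := h.cyc P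
    have h1 : IsCyclic ((Q : Subgroup K).map K.subtype) :=
      isCyclic_of_injective (Subgroup.inclusion hP) (Subgroup.inclusion_injective hP)
    exact isCyclic_of_injective ((Q : Subgroup K).equivMapOfInjective _ K.subtype_injective).toMonoidHom
      (MulEquiv.injective _)
  · intro H hH x hx y hy
    have h1 : ¬ p ∣ Nat.card (H.map K.subtype) := by
      rwa [Nat.card_congr (H.equivMapOfInjective _ K.subtype_injective).toEquiv.symm]
    exact Subtype.ext (h.ab _ h1 x ⟨x, hx, rfl⟩ y ⟨y, hy, rfl⟩)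

/-- `p'`-quotients are abelian -/
theorem comm_of_surjective {L : Type*} [Group L] [Finite L] (hL : ∀ H : Subgroup L, ¬ p ∣ Nat.card H → ∀ x ∈ H, ∀ y ∈ H, x * y = y * x)
    {H : Type*} [Group H] [Finite H] (f : L →* H) (hf : Function.Surjective f) (hH : ¬ p ∣ Nat.card H)
    (a b : H) : a * b = b * a := by
  obtain ⟨T, hT⟩ := exists_isSyl (p := p) f.ker
  -- Frattini
  set M := normalizer (T : Set L) with hM
  have hfr : ∀ l : L, ∃ m ∈ M, ∃ n ∈ f.ker, l = n * m := by
    intro l
    have h1 : IsSyl p (T.map (MulAut.conj l).toMonoidHom) f.ker := by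
      have := hT.conj l
      rwa [conj_normal f.ker] at this
    obtain ⟨n, hn, hn'⟩ := h1.exists_conj_eq hT
    refine ⟨n * l, ?_, n⁻¹, inv_mem hn, by group⟩
    rw [conj_conj] at hn'
    rw [hM, Basic.mem_normalizer_iff']
    exact hn'
  have hTM : T ≤ M := le_normalizer
  have hcard : ∀ K : Subgroup L, Nat.card L = Nat.card f.ker * Nat.card H := by
    intro _
    rw [← Subgroup.card_mul_index f.ker, Subgroup.index_ker, MonoidHom.range_eq_top.2 hf]
    simp
  have hTi : ¬ p ∣ T.index := by
    rw [← Subgroup.relIndex_mul_index hT.1]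
    intro h
    rcases hp.out.dvd_mul.1 h with h1 | h1
    · exact hT.2.2 h1
    · apply hH
      rw [Subgroup.index_ker, MonoidHom.range_eq_top.2 hf] at h1
      simpa using h1
  have hcop : (Nat.card (T.subgroupOf M)).Coprime (T.subgroupOf M).index := by
    have h1 : Nat.card (T.subgroupOf M) = Nat.card T := Nat.card_congr (subgroupOfEquivOfLe hTM).toEquiv
    rw [h1]
    obtain ⟨n, hn⟩ := IsPGroup.iff_card.1 hT.2.1
    rw [hn]
    apply Nat.Coprime.pow_left
    rw [hp.out.coprime_iff_not_dvd]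
    intro h2
    exact hTi (h2.trans (Subgroup.relIndex_dvd_index_of_le hTM))
  haveI : (T.subgroupOf M).Normal := inferInstance
  obtain ⟨E, hE⟩ := Subgroup.exists_right_complement'_of_coprime hcop
  have hEp : ¬ p ∣ Nat.card (E.map M.subtype) := by
    rw [Nat.card_congr (E.equivMapOfInjective _ M.subtype_injective).toEquiv.symm]
    have h1 : (T.subgroupOf M).index = Nat.card E := hE.symm.index_eq_card
    rw [← h1]
    intro h2
    exact hTi (h2.trans (Subgroup.relIndex_dvd_index_of_le hTM))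
  have hsurj : ∀ a : H, ∃ e ∈ E.map M.subtype, f e = a := by
    intro a
    obtain ⟨l, rfl⟩ := hf a
    obtain ⟨m, hm, n, hn, rfl⟩ := hfr l
    obtain ⟨⟨⟨t, ht⟩, e⟩, hte⟩ := hE.2 (⟨m, hm⟩ : M)
    refine ⟨(e : M), ⟨e, e.2, rfl⟩, ?_⟩
    have h1 : ((t : M) : L) * ((e : M) : L) = m := congrArg Subtype.val hte
    have h2 : f ((t : M) : L) = 1 := hT.1 ht
    have h3 : f n = 1 := hn
    rw [map_mul, h3, one_mul, ← h1, map_mul, h2, one_mul]
  obtain ⟨x, hx, rfl⟩ := hsurj a
  obtain ⟨y, hy, rfl⟩ := hsurj b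
  rw [← map_mul, ← map_mul, hL _ hEp x hx y hy]

theorem Hyp.quotient (h : Hyp p G) (N : Subgroup G) [N.Normal] : Hyp p (G ⧸ N) := by
  constructor
  · intro Q
    obtain ⟨P, rfl⟩ := Sylow.mapSurjective_surjective (QuotientGroup.mk'_surjective N) p Q
    rw [Sylow.coe_mapSurjective]
    haveI := h.cyc P
    exact isCyclic_of_surjective ((QuotientGroup.mk' N).subgroupMap (P : Subgroup G))
      ((QuotientGroup.mk' N).subgroupMap_surjective _)
  · intro H hH x hx y hy
    let L : Subgroup G := H.comap (QuotientGroup.mk' N)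
    let f : L →* H := (QuotientGroup.mk' N).subgroupComap H
    have hf : Function.Surjective f :=
      (QuotientGroup.mk' N).subgroupComap_surjective_of_surjective _ (QuotientGroup.mk'_surjective N)
    have := comm_of_surjective (p := p) (h.subgroup L).ab f hf hH ⟨x, hx⟩ ⟨y, hy⟩
    exact congrArg Subtype.val this

theorem isSolvable_of_comm {K : Type*} [Group K] (h : ∀ a b : K, a * b = b * a) : Group.IsSolvable K := by
  letI : CommGroup K := { (inferInstance : Group K) with mul_comm := h }
  exact Group.isSolvable_of_comm h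

theorem solvable_ext (N : Subgroup G) [N.Normal] (h1 : Group.IsSolvable N)
    (h2 : Group.IsSolvable (G ⧸ N)) : Group.IsSolvable G :=
  Group.isSolvable_of_ker_le_range N.subtype (QuotientGroup.mk' N) (by simp)

theorem Con.isSolvable (h : Hyp p G) (hc : Con p G) : Group.IsSolvable G := by
  rcases hc with ⟨P, N, hN, hNP⟩ | hn
  · haveI := hN
    have hNc : ¬ p ∣ Nat.card N := by
      have h1 : (P : Subgroup G).index = Nat.card N := hNP.index_eq_card
      rw [← h1]
      exact P.not_dvd_index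
    refine solvable_ext N (isSolvable_of_comm fun a b => Subtype.ext (h.ab N hNc a a.2 b b.2)) ?_
    haveI := h.cyc P
    have hsurj : Function.Surjective ((QuotientGroup.mk' N).comp (P : Subgroup G).subtype) := by
      intro q
      obtain ⟨g, rfl⟩ := QuotientGroup.mk'_surjective N q
      obtain ⟨⟨⟨n, hn⟩, ⟨x, hx⟩⟩, hnx⟩ := hNP.2 g
      refine ⟨⟨x, hx⟩, ?_⟩
      have h1 : n * x = g := hnx
      simp only [MonoidHom.coe_comp, Function.comp_apply, Subgroup.coe_subtype]
      rw [← h1, map_mul]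
      have : (QuotientGroup.mk' N) n = 1 := (QuotientGroup.eq_one_iff n).2 hn
      rw [this, one_mul]
    haveI : IsCyclic (G ⧸ N) := isCyclic_of_surjective _ hsurj
    exact isSolvable_of_comm fun a b => (IsCyclic.isMulCommutative (α := G ⧸ N)).is_comm.comm a b
  · obtain ⟨P⟩ : Nonempty (Sylow p G) := inferInstance
    haveI := hn P
    haveI := h.cyc P
    refine solvable_ext (P : Subgroup G) (isSolvable_of_comm fun a b =>
      (IsCyclic.isMulCommutative (α := (P : Subgroup G))).is_comm.comm a b) ?_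
    exact isSolvable_of_comm fun a b => comm_of_surjective (p := p) h.ab (QuotientGroup.mk' (P : Subgroup G))
      (QuotientGroup.mk'_surjective _) (by rw [← Subgroup.index_eq_card]; exact P.not_dvd_index) a b

/-- `p'`-elements normalising a `p'`-subgroup centralise it -/
theorem Hyp.commute (h : Hyp p G) {B : Subgroup G} (hB : ¬ p ∣ Nat.card B) {d : G}
    (hd : d ∈ normalizer (B : Set G)) (hdo : ¬ p ∣ orderOf d) {b : G} (hb : b ∈ B) : d * b = b * d := by
  have h1 : ¬ p ∣ Nat.card (zpowers d ⊔ B : Subgroup G) := by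
    intro h2
    have h3 := h2.trans (H27.Sig.card_sup_dvd_mul (U := zpowers d) (V := B) (by rwa [zpowers_le]))
    rcases hp.out.dvd_mul.1 h3 with h4 | h4
    · rw [Nat.card_zpowers] at h4; exact hdo h4
    · exact hB h4
  exact h.ab _ h1 d (le_sup_left (a := zpowers d) (b := B) (mem_zpowers d)) b (le_sup_right (a := zpowers d) (b := B) hb)

/-- an element of the normalizer of `P` commuting with a nontrivial element of `P` centralises `P` -/
theorem Hyp.fix (h : Hyp p G) (P : Sylow p G) {y x : G} (hy : y ∈ normalizer ((P : Subgroup G) : Set G))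
    (hx : x ∈ (P : Subgroup G)) (hx1 : x ≠ 1) (hxy : y * x = x * y) :
    y ∈ centralizer ((P : Subgroup G) : Set G) := by
  obtain ⟨g, hgP, a, hgen, hga, hall⟩ := H72.CyclicSylow.exists_pow_conj (P : Subgroup G) (h.cyc P) hy
  have hPc := H72.CyclicSylow.le_centralizer_of_isCyclic (P : Subgroup G) (h.cyc P)
  have hdvd : (p : ℤ) ∣ (a : ℤ) - 1 := by
    have h1 := hall x hx
    have h2 : y * x * y⁻¹ = x := by rw [hxy]; group
    rw [h2] at h1
    have h3 : x ^ ((a : ℤ) - 1) = 1 := by
      rw [zpow_sub, zpow_one, zpow_natCast, ← h1, mul_inv_cancel]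
    have h4 : (orderOf x : ℤ) ∣ (a : ℤ) - 1 := orderOf_dvd_iff_zpow_eq_one.mpr h3
    have h5 : p ∣ orderOf x := by
      obtain ⟨k, hk⟩ := P.2 ⟨x, hx⟩
      have h6 : x ^ p ^ k = 1 := by simpa using congrArg Subtype.val hk
      obtain ⟨j, _, hj⟩ := (Nat.dvd_prime_pow hp.out).mp (orderOf_dvd_of_pow_eq_one h6)
      rcases Nat.eq_zero_or_pos j with h0 | h0
      · exfalso
        rw [h0, pow_zero, orderOf_eq_one_iff] at hj
        exact hx1 hj
      · rw [hj]; exact dvd_pow_self p h0.ne'
    exact (Int.natCast_dvd_natCast.mpr h5).trans h4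
  obtain ⟨j, hj⟩ := H72.CyclicSylow.exists_pow_mem_centralizer (P : Subgroup G) P.2 hall hdvd
  exact H72.CyclicSylow.mem_centralizer_of_pow P hPc hy hj

/-- if an element of the normalizer of `P` does not centralise `P` then `P = [P, y]` -/
theorem Hyp.le_of_commutator (h : Hyp p G) (P : Sylow p G) {y : G} (hy : y ∈ normalizer ((P : Subgroup G) : Set G))
    (hyc : y ∉ centralizer ((P : Subgroup G) : Set G)) (R : Subgroup G)
    (hR : ∀ x ∈ (P : Subgroup G), y * x * y⁻¹ * x⁻¹ ∈ R) : (P : Subgroup G) ≤ R := by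
  obtain ⟨g, hgP, a, hgen, hga, hall⟩ := H72.CyclicSylow.exists_pow_conj (P : Subgroup G) (h.cyc P) hy
  have hPc := H72.CyclicSylow.le_centralizer_of_isCyclic (P : Subgroup G) (h.cyc P)
  by_contra hnot
  apply hyc
  have h1 := hR g hgP
  rw [hga] at h1
  have h2 : g ^ ((a : ℤ) - 1) ∈ R := by rwa [zpow_sub, zpow_one, zpow_natCast]
  have hdvd := H72.CyclicSylow.dvd_of_pow_mem (P : Subgroup G) P.2 hgP hgen R hnot _ h2
  obtain ⟨j, hj⟩ := H72.CyclicSylow.exists_pow_mem_centralizer (P : Subgroup G) P.2 hall hdvd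
  exact H72.CyclicSylow.mem_centralizer_of_pow P hPc hy hj

/-- there is a `p'`-element normalising but not centralising `P` -/
theorem exists_pprime (P : Sylow p G) (hPc : (P : Subgroup G) ≤ centralizer ((P : Subgroup G) : Set G))
    (hn : ¬ normalizer ((P : Subgroup G) : Set G) ≤ centralizer ((P : Subgroup G) : Set G)) :
    ∃ y ∈ normalizer ((P : Subgroup G) : Set G), y ∉ centralizer ((P : Subgroup G) : Set G) ∧ ¬ p ∣ orderOf y := by
  obtain ⟨y, hy, hyc⟩ := SetLike.not_le_iff_exists.1 hn
  obtain ⟨i, j, hij, ⟨k, hk⟩, hj⟩ := H71.PCyc.exists_ppart p y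
  refine ⟨y ^ j, pow_mem hy _, ?_, ?_⟩
  · intro hc
    apply hyc
    rw [hij]
    refine mul_mem ?_ hc
    apply H72.CyclicSylow.mem_centralizer_of_pow P hPc (pow_mem hy _) (k := k)
    rw [← hk, pow_orderOf_eq_one]
    exact one_mem _
  · rw [← hp.out.coprime_iff_not_dvd]; exact hj.symm

/-- the `p`-solvable case -/
theorem Hyp.con_of_solvable (h : Hyp p G) (hs : Cfsg.IsPSolvable p G) : Con p G := by
  obtain ⟨P⟩ : Nonempty (Sylow p G) := inferInstance
  have hPc := H72.CyclicSylow.le_centralizer_of_isCyclic (P : Subgroup G) (h.cyc P)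
  by_cases hn : normalizer ((P : Subgroup G) : Set G) ≤ centralizer ((P : Subgroup G) : Set G)
  · exact Or.inl (H72.TpCount.hasNormalPComplement_of_normalizer_le P hn)
  right
  obtain ⟨y, hy, hyc, hyo⟩ := exists_pprime P hPc hn
  set K := Cfsg.pPrimeCore p G with hK
  haveI : K.Normal := by rw [hK]; infer_instance
  have hKc : ¬ p ∣ Nat.card K := by
    rw [← hp.out.coprime_iff_not_dvd]; exact (H1.Cores.coprime_card_pPrimeCore p).symm
  have hyK : y ∈ centralizer (K : Set G) := by
    rw [mem_centralizer_iff]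
    intro k hk
    exact (h.commute hKc (by rw [normalizer_eq_top_iff.2 inferInstance]; trivial) hyo hk).symm
  haveI : (centralizer (K : Set G)).Normal := inferInstance
  have hPK : (P : Subgroup G) ≤ centralizer (K : Set G) := by
    apply h.le_of_commutator P hy hyc
    intro x hx
    have h1 : x * y⁻¹ * x⁻¹ ∈ centralizer (K : Set G) :=
      Normal.conj_mem inferInstance _ (inv_mem hyK) x
    have h2 : y * x * y⁻¹ * x⁻¹ = y * (x * y⁻¹ * x⁻¹) := by group
    rw [h2]; exact mul_mem hyK h1
  -- the image of `P` in `G / K`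
  have hq := H37.PSolv.centralizer_pCore_le (H37.PSolv.quotient hs K) (H1.Cores.pPrimeCore_quotient_pPrimeCore p)
  have hPK2 : (P : Subgroup G).map (QuotientGroup.mk' K) = Cfsg.pCore p (G ⧸ K) := by
    have h1 := H1.Cores.pCore_le_sylow (P.mapSurjective (QuotientGroup.mk'_surjective K))
    rw [Sylow.coe_mapSurjective] at h1
    apply le_antisymm _ h1
    refine le_trans ?_ hq
    rintro _ ⟨x, hx, rfl⟩
    rw [mem_centralizer_iff]
    intro z hz
    obtain ⟨w, hw, rfl⟩ := h1 hz
    rw [← map_mul, ← map_mul]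
    congr 1
    exact (mem_centralizer_iff.1 (hPc hx) w hw)
  have hN : ((P : Subgroup G).map (QuotientGroup.mk' K)).Normal := by rw [hPK2]; infer_instance
  have hPn : (P : Subgroup G).Normal := by
    constructor
    intro x hx g
    have h1 : QuotientGroup.mk' K (g * x * g⁻¹) ∈ (P : Subgroup G).map (QuotientGroup.mk' K) := by
      rw [map_mul, map_mul, map_inv]
      exact hN.conj_mem _ ⟨x, hx, rfl⟩ _
    obtain ⟨z, hz, hzx⟩ := h1
    have h2 : z⁻¹ * (g * x * g⁻¹) ∈ K := by
      rw [← QuotientGroup.eq]; exact hzx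
    set k := z⁻¹ * (g * x * g⁻¹) with hk
    have h3 : g * x * g⁻¹ = z * k := by rw [hk]; group
    have hcomm : Commute z k := (mem_centralizer_iff.1 (hPK hz) k h2).symm
    -- `k = 1`
    have hk1 : k = 1 := by
      obtain ⟨n, hn⟩ := IsPGroup.iff_card.1 P.2
      have hz1 : z ^ p ^ n = 1 := by
        have : (⟨z, hz⟩ : (P : Subgroup G)) ^ Nat.card (P : Subgroup G) = 1 := pow_card_eq_one'
        rw [hn] at this
        exact congrArg Subtype.val this
      have hx1 : x ^ p ^ n = 1 := by
        have : (⟨x, hx⟩ : (P : Subgroup G)) ^ Nat.card (P : Subgroup G) = 1 := pow_card_eq_one'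
        rw [hn] at this
        exact congrArg Subtype.val this
      have h4 : k ^ p ^ n = 1 := by
        have h5 : (g * x * g⁻¹) ^ p ^ n = 1 := by rw [conj_pow, hx1]; group
        rw [h3, hcomm.mul_pow, hz1, one_mul] at h5
        exact h5
      have h6 : orderOf k ∣ p ^ n := orderOf_dvd_of_pow_eq_one h4
      have h7 : orderOf k ∣ Nat.card K := by
        have := orderOf_dvd_natCard (⟨k, h2⟩ : K)
        rwa [Subgroup.orderOf_mk] at this
      have h8 : Nat.Coprime (p ^ n) (Nat.card K) := Nat.Coprime.pow_left _ ((hp.out.coprime_iff_not_dvd).2 hKc)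
      have h9 : orderOf k ∣ 1 := by
        rw [← h8]
        exact Nat.dvd_gcd h6 h7
      exact orderOf_eq_one_iff.1 (Nat.dvd_one.1 h9)
    rw [h3, hk1, mul_one]
    exact hz
  intro Q
  have := Sylow.unique_of_normal P hPn
  have h1 : Q = P := Subsingleton.elim _ _
  rw [h1]; exact hPn

theorem Hyp.con_of_isSolvable (h : Hyp p G) (hs : Group.IsSolvable G) : Con p G :=
  h.con_of_solvable (H37.QuadCore.isPSolvable_of_isSolvable p _ G hs rfl)

end H38.CycAb
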