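import Cfsg.Agent.Lib.H38.CycAb1
import Cfsg.Agent.Lib.H21.SylowTools
import Cfsg.Agent.S0205

set_option autoImplicit false

/-! Groups with cyclic Sylow `p`-subgroups all of whose `p'`-subgroups are abelian: the simple case. -/

namespace H38.CycAb

open Subgroup H38.Basic

universe u

variable {p : ℕ} {G : Type u} [Group G] [Finite G] [hp : Fact p.Prime]

theorem mem_normalizer_of_conj {H : Subgroup G} {y : G} (h : ∀ x ∈ H, y * x * y⁻¹ ∈ H) :
    y ∈ normalizer (H : Set G) := by
  rw [Basic.mem_normalizer_iff']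
  apply Subgroup.eq_of_le_of_card_ge
  · rintro _ ⟨x, hx, rfl⟩; exact h x hx
  · rw [card_conj]

theorem conj_mem_of_normalizer {H : Subgroup G} {y : G} (hy : y ∈ normalizer (H : Set G)) {x : G} (hx : x ∈ H) :
    y * x * y⁻¹ ∈ H := (Subgroup.mem_set_normalizer_iff.1 hy x).1 hx

/-- an element of `p`-power order and of order prime to `p` is trivial -/
theorem eq_one_of_both {x : G} {n : ℕ} (h1 : x ^ p ^ n = 1) (h2 : ¬ p ∣ orderOf x) : x = 1 := by
  have h3 : orderOf x ∣ p ^ n := orderOf_dvd_of_pow_eq_one h1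
  obtain ⟨j, _, hj⟩ := (Nat.dvd_prime_pow hp.out).mp h3
  rcases Nat.eq_zero_or_pos j with h0 | h0
  · rwa [h0, pow_zero, orderOf_eq_one_iff] at hj
  · exact absurd (hj ▸ dvd_pow_self p h0.ne') h2

theorem pow_card_sylow (P : Sylow p G) : ∃ n : ℕ, Nat.card (P : Subgroup G) = p ^ n ∧ ∀ x ∈ (P : Subgroup G), x ^ p ^ n = 1 := by
  obtain ⟨n, hn⟩ := IsPGroup.iff_card.1 P.2
  refine ⟨n, hn, fun x hx => ?_⟩
  have : (⟨x, hx⟩ : (P : Subgroup G)) ^ Nat.card (P : Subgroup G) = 1 := pow_card_eq_one'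
  rw [hn] at this
  exact congrArg Subtype.val this

theorem exists_sylow_mem {x : G} {n : ℕ} (h : x ^ p ^ n = 1) : ∃ P : Sylow p G, x ∈ (P : Subgroup G) := by
  have h1 : IsPGroup p (zpowers x) := by
    apply IsPGroup.of_card (n := _) (p := p)
    swap
    · exact ((Nat.dvd_prime_pow hp.out).mp (orderOf_dvd_of_pow_eq_one h)).choose
    · rw [Nat.card_zpowers]
      exact ((Nat.dvd_prime_pow hp.out).mp (orderOf_dvd_of_pow_eq_one h)).choose_spec.2
  obtain ⟨P, hP⟩ := h1.exists_le_sylow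
  exact ⟨P, hP (mem_zpowers x)⟩

/-- the standing data of the simple case -/
structure Simp (p : ℕ) (G : Type u) [Group G] : Prop where
  simple : IsSimpleGroup G
  na : ¬ IsMulCommutative G
  hyp : Hyp p G
  con : ∀ K : Subgroup G, K ≠ ⊤ → Con p K

namespace Simp

variable (h : Simp p G)

include h

theorem dvd_card : p ∣ Nat.card G := by
  by_contra hc
  apply h.na
  refine ⟨⟨fun a b => ?_⟩⟩
  refine h.hyp.ab ⊤ ?_ a (mem_top a) b (mem_top b)
  rwa [Nat.card_congr Subgroup.topEquiv.toEquiv]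

theorem center_eq_bot : center G = ⊥ := by
  haveI := h.simple
  rcases IsSimpleGroup.eq_bot_or_eq_top_of_normal (center G) inferInstance with h1 | h1
  · exact h1
  · exfalso
    apply h.na
    refine ⟨⟨fun a b => ?_⟩⟩
    have : b ∈ center G := by rw [h1]; trivial
    exact mem_center_iff.1 this a

theorem centralizer_ne_top {x : G} (hx : x ≠ 1) : centralizer ({x} : Set G) ≠ ⊤ := by
  intro h1
  apply hx
  have h2 : x ∈ center G := by
    rw [mem_center_iff]
    intro g
    have : g ∈ centralizer ({x} : Set G) := by rw [h1]; trivial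
    exact (mem_centralizer_singleton_iff.1 this)
  rw [h.center_eq_bot] at h2
  exact h2

theorem le_centralizer (P : Sylow p G) : (P : Subgroup G) ≤ centralizer ((P : Subgroup G) : Set G) :=
  H72.CyclicSylow.le_centralizer_of_isCyclic (P : Subgroup G) (h.hyp.cyc P)

theorem not_le (P : Sylow p G) :
    ¬ normalizer ((P : Subgroup G) : Set G) ≤ centralizer ((P : Subgroup G) : Set G) := by
  haveI := h.simple
  exact H21.SylowTools.burnside_not_le h.na h.dvd_card P

theorem exists_y (P : Sylow p G) : ∃ y ∈ normalizer ((P : Subgroup G) : Set G),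
    y ∉ centralizer ((P : Subgroup G) : Set G) ∧ ¬ p ∣ orderOf y :=
  exists_pprime P (h.le_centralizer P) (h.not_le P)

/-- a proper subgroup containing `P` and an element normalising but not centralising `P` normalises `P` -/
theorem le_normalizer_of {K : Subgroup G} (hK : K ≠ ⊤) (P : Sylow p G) (hPK : (P : Subgroup G) ≤ K)
    {y : G} (hy : y ∈ normalizer ((P : Subgroup G) : Set G)) (hyK : y ∈ K)
    (hyc : y ∉ centralizer ((P : Subgroup G) : Set G)) : K ≤ normalizer ((P : Subgroup G) : Set G) := by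
  rcases h.con K hK with ⟨Q, M, hM, hMQ⟩ | hn
  · exfalso
    apply hyc
    rw [mem_centralizer_iff]
    intro x hx
    haveI := hM
    haveI := (h.hyp.subgroup K).cyc Q
    have hcomm : ∀ a b : K ⧸ M, a * b = b * a := by
      have hsurj : Function.Surjective ((QuotientGroup.mk' M).comp (Q : Subgroup K).subtype) := by
        intro q
        obtain ⟨g, rfl⟩ := QuotientGroup.mk'_surjective M q
        obtain ⟨⟨⟨n, hn⟩, ⟨x, hx⟩⟩, hnx⟩ := hMQ.2 g
        refine ⟨⟨x, hx⟩, ?_⟩
        have h1 : n * x = g := hnx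
        simp only [MonoidHom.coe_comp, Function.comp_apply, Subgroup.coe_subtype]
        rw [← h1, map_mul]
        have : (QuotientGroup.mk' M) n = 1 := (QuotientGroup.eq_one_iff n).2 hn
        rw [this, one_mul]
      haveI : IsCyclic (K ⧸ M) := isCyclic_of_surjective _ hsurj
      exact fun a b => (IsCyclic.isMulCommutative (α := K ⧸ M)).is_comm.comm a b
    let y' : K := ⟨y, hyK⟩
    let x' : K := ⟨x, hPK hx⟩
    have h1 : y' * x' * y'⁻¹ * x'⁻¹ ∈ M := by
      rw [← QuotientGroup.eq_one_iff, QuotientGroup.mk_mul, QuotientGroup.mk_mul, QuotientGroup.mk_mul,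
        QuotientGroup.mk_inv, QuotientGroup.mk_inv, hcomm (y' : K ⧸ M) x']
      group
    have h2 : y * x * y⁻¹ * x⁻¹ ∈ (P : Subgroup G) := mul_mem (conj_mem_of_normalizer hy hx) (inv_mem hx)
    obtain ⟨n, hn, hn'⟩ := pow_card_sylow P
    have h3 : y * x * y⁻¹ * x⁻¹ = 1 := by
      apply eq_one_of_both (hn' _ h2)
      intro hd
      have h4 : orderOf (y' * x' * y'⁻¹ * x'⁻¹) = orderOf (y * x * y⁻¹ * x⁻¹) := by
        rw [← Subgroup.orderOf_coe]; rfl
      have h5 : orderOf (y' * x' * y'⁻¹ * x'⁻¹) ∣ Nat.card M := by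
        have := orderOf_dvd_natCard (⟨_, h1⟩ : M)
        rwa [Subgroup.orderOf_mk] at this
      have h6 : ¬ p ∣ Nat.card M := by
        have h7 : (Q : Subgroup K).index = Nat.card M := hMQ.index_eq_card
        rw [← h7]; exact Q.not_dvd_index
      exact h6 (hd.trans (h4 ▸ h5))
    calc x * y = (y * x * y⁻¹ * x⁻¹)⁻¹ * (y * x) := by group
      _ = y * x := by rw [h3]; group
  · intro g hg
    apply mem_normalizer_of_conj
    intro x hx
    have h1 := hn (P.subtype hPK)
    rw [Sylow.coe_subtype] at h1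
    exact h1.conj_mem ⟨x, hPK hx⟩ hx ⟨g, hg⟩

theorem normalizer_zpowers_le (P : Sylow p G) {x : G} (hx : x ∈ (P : Subgroup G)) (hx1 : x ≠ 1) :
    normalizer ((zpowers x : Subgroup G) : Set G) ≤ normalizer ((P : Subgroup G) : Set G) := by
  haveI := h.simple
  obtain ⟨y, hy, hyc, -⟩ := h.exists_y P
  apply h.le_normalizer_of (y := y) _ P _ hy _ hyc
  · intro h1
    rw [Subgroup.normalizer_eq_top_iff] at h1
    rcases IsSimpleGroup.eq_bot_or_eq_top_of_normal _ h1 with h2 | h2
    · exact hx1 (zpowers_eq_bot.1 h2)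
    · apply h.na
      refine ⟨⟨fun a b => ?_⟩⟩
      obtain ⟨i, hi⟩ : a ∈ zpowers x := by rw [h2]; trivial
      obtain ⟨j, hj⟩ : b ∈ zpowers x := by rw [h2]; trivial
      have hi' : x ^ i = a := hi
      have hj' : x ^ j = b := hj
      rw [← hi', ← hj', ← zpow_add, ← zpow_add, add_comm]
  · intro z hz
    apply mem_normalizer_of_conj
    rintro w ⟨i, rfl⟩
    have h1 : x * z = z * x := (mem_centralizer_iff.1 (h.le_centralizer P hz) x hx)
    have h2 : z * x ^ i * z⁻¹ = x ^ i := by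
      rw [← conj_zpow, ← h1]; group
    show z * x ^ i * z⁻¹ ∈ _
    rw [h2]; exact ⟨i, rfl⟩
  · obtain ⟨g, hgP, a, hgen, hga, hall⟩ := H72.CyclicSylow.exists_pow_conj (P : Subgroup G) (h.hyp.cyc P) hy
    apply mem_normalizer_of_conj
    rintro w ⟨i, rfl⟩
    show y * x ^ i * y⁻¹ ∈ _
    rw [hall _ (zpow_mem hx i)]
    exact pow_mem (zpow_mem (mem_zpowers x) i) a

/-- centralizers of `p`-elements -/
theorem mem_centralizer (P : Sylow p G) {x g : G} (hx : x ∈ (P : Subgroup G)) (hx1 : x ≠ 1) (hg : g * x = x * g) :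
    g ∈ centralizer ((P : Subgroup G) : Set G) := by
  apply h.hyp.fix P _ hx hx1 hg
  apply h.normalizer_zpowers_le P hx hx1
  apply mem_normalizer_of_conj
  rintro w ⟨i, rfl⟩
  have h2 : g * x ^ i * g⁻¹ = x ^ i := by
    rw [← conj_zpow, hg]; group
  show g * x ^ i * g⁻¹ ∈ _
  rw [h2]; exact ⟨i, rfl⟩

omit h in
theorem mem_of_mem_normalizer (P : Sylow p G) {y : G} {n : ℕ} (hy : y ^ p ^ n = 1)
    (hyn : y ∈ normalizer ((P : Subgroup G) : Set G)) : y ∈ (P : Subgroup G) := by
  obtain ⟨Q, hQ⟩ := exists_sylow_mem hy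
  have h1 : IsPGroup p (zpowers y) := Q.2.to_le (by rwa [zpowers_le])
  have h2 := h1.inf_normalizer_sylow P
  have h3 : y ∈ zpowers y ⊓ normalizer ((P : Subgroup G) : Set G) := ⟨mem_zpowers y, hyn⟩
  have h4 : y ∈ zpowers y ⊓ (P : Subgroup G) := by rw [← h2]; exact h3
  exact h4.2

/-- distinct Sylow `p`-subgroups meet trivially -/
theorem eq_of_mem (P Q : Sylow p G) {x : G} (hx : x ∈ (P : Subgroup G)) (hxQ : x ∈ (Q : Subgroup G)) (hx1 : x ≠ 1) :
    P = Q := by
  obtain ⟨n, hn, hn'⟩ := pow_card_sylow P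
  have hle : (P : Subgroup G) ≤ Q := by
    intro z hz
    apply mem_of_mem_normalizer Q (hn' z hz)
    apply Subgroup.centralizer_le_normalizer
    apply h.mem_centralizer Q hxQ hx1
    exact (mem_centralizer_iff.1 (h.le_centralizer P hz) x hx).symm
  exact Sylow.ext (P.3 Q.2 hle).symm

theorem two_dvd : 2 ∣ Nat.card G := by
  haveI := h.simple
  by_contra hc
  have h1 : Odd (Nat.card G) := Nat.odd_iff.2 (Nat.two_dvd_ne_zero.1 hc)
  have h2 := Cfsg.Agent.S0205.result h1
  exact h.na ⟨⟨IsSimpleGroup.comm_iff_isSolvable.2 h2⟩⟩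

theorem p_ne_two : p ≠ 2 := by
  intro h2
  obtain ⟨P⟩ : Nonempty (Sylow p G) := inferInstance
  apply h.not_le P
  apply IsCyclic.normalizer_le_centralizer _ (h.hyp.cyc P)
  rw [h2]
  exact (Nat.minFac_eq_two_iff _).2 h.two_dvd

end Simp

end H38.CycAb
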