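import Cfsg.Agent.Lib.H38.CycAb2

set_option autoImplicit false

/-! Groups with cyclic Sylow `p`-subgroups all of whose `p'`-subgroups are abelian: the case of a
self-centralizing Sylow subgroup. -/

namespace H38.CycAb

open Subgroup H38.Basic

universe u

variable {p : ℕ} {G : Type u} [Group G] [Finite G] [hp : Fact p.Prime]

theorem dvd_ncard_of_free {T : Subgroup G} (hT : IsPGroup p T) (S : Set G)
    (hS : ∀ x ∈ T, ∀ s ∈ S, x * s * x⁻¹ ∈ S) (hfree : ∀ s ∈ S, ∃ x ∈ T, x * s ≠ s * x) : p ∣ S.ncard := by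
  letI : MulAction T S :=
    { smul := fun x s => ⟨x * s * (x : G)⁻¹, hS x x.2 s s.2⟩
      one_smul := fun s => Subtype.ext (by
        show ((1 : T) : G) * s * ((1 : T) : G)⁻¹ = s
        simp)
      mul_smul := fun x y s => Subtype.ext (by
        show ((x * y : T) : G) * s * ((x * y : T) : G)⁻¹ = x * (y * s * (y : G)⁻¹) * (x : G)⁻¹
        rw [Subgroup.coe_mul]; group) }
  have h1 := hT.card_modEq_card_fixedPoints S
  have h2 : Nat.card (MulAction.fixedPoints T S) = 0 := by
    rw [Nat.card_eq_zero]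
    left
    constructor
    rintro ⟨s, hs⟩
    obtain ⟨x, hx, hxs⟩ := hfree s s.2
    apply hxs
    have h3 : (⟨x, hx⟩ : T) • s = s := hs ⟨x, hx⟩
    have h4 : x * (s : G) * x⁻¹ = s := congrArg Subtype.val h3
    rw [mul_inv_eq_iff_eq_mul] at h4
    exact h4
  rw [h2] at h1
  have h3 : Nat.card S = S.ncard := Nat.card_coe_set_eq S
  rw [← h3]
  exact (Nat.modEq_zero_iff_dvd).1 h1

theorem inv_two {t : G} (ht : orderOf t = 2) : t⁻¹ = t ∧ t * t = 1 ∧ t ≠ 1 := by
  have h1 : t * t = 1 := by rw [← pow_two, ← ht]; exact pow_orderOf_eq_one t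
  refine ⟨inv_eq_of_mul_eq_one_left h1, h1, ?_⟩
  rintro rfl; simp at ht

theorem orderOf_two {t : G} (h1 : t * t = 1) (h2 : t ≠ 1) : orderOf t = 2 :=
  orderOf_eq_prime (by rw [pow_two, h1]) h2

theorem mem_smul_sylow {Q : Sylow p G} {g x : G} :
    x ∈ ((g • Q : Sylow p G) : Subgroup G) ↔ g⁻¹ * x * g ∈ (Q : Subgroup G) := by
  rw [Sylow.coe_subgroup_smul, Subgroup.mem_pointwise_smul_iff_inv_smul_mem]
  have : (MulAut.conj g)⁻¹ • x = g⁻¹ * x * g := by simp [MulAut.smul_def]
  rw [this]

namespace Simp

variable (h : Simp p G)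

include h

section caseA

variable (hA : ∀ P : Sylow p G, ∀ c ∈ centralizer ((P : Subgroup G) : Set G), ¬ p ∣ orderOf c → c = 1)

include hA

theorem A_comm {x c : G} {n : ℕ} (hx : x ^ p ^ n = 1) (hx1 : x ≠ 1) (hc : c * x = x * c) (hco : ¬ p ∣ orderOf c) :
    c = 1 := by
  obtain ⟨P, hP⟩ := exists_sylow_mem hx
  exact hA P c (h.mem_centralizer P hP hx1 hc) hco

theorem A_card {c : G} (hc1 : c ≠ 1) (hco : ¬ p ∣ orderOf c) : ¬ p ∣ Nat.card (centralizer ({c} : Set G)) := by
  intro hd
  obtain ⟨⟨x, hx⟩, hxo⟩ := exists_prime_orderOf_dvd_card' p hd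
  rw [Subgroup.orderOf_mk] at hxo
  apply hc1
  apply h.A_comm hA (x := x) (n := 1) _ _ _ hco
  · rw [pow_one, ← hxo]; exact pow_orderOf_eq_one x
  · rintro rfl; rw [orderOf_one] at hxo; exact hp.out.one_lt.ne hxo
  · exact mem_centralizer_singleton_iff.1 hx |>.symm

/-- the centralizer of a Sylow subgroup is contained in it -/
theorem A_le (P : Sylow p G) {c : G} (hc : c ∈ centralizer ((P : Subgroup G) : Set G)) : c ∈ (P : Subgroup G) := by
  obtain ⟨i, j, hij, ⟨k, hk⟩, hj⟩ := H71.PCyc.exists_ppart p c
  have h1 : c ^ j = 1 := by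
    apply hA P _ (pow_mem hc _)
    rw [← hp.out.coprime_iff_not_dvd]; exact hj.symm
  rw [hij, h1, mul_one]
  apply mem_of_mem_normalizer P (n := k)
  · rw [← hk]; exact pow_orderOf_eq_one _
  · exact Subgroup.centralizer_le_normalizer _ (pow_mem hc _)

/-- involutions normalising a Sylow subgroup invert it -/
theorem A_inv (Q : Sylow p G) {t : G} (ht : orderOf t = 2) (htQ : t ∈ normalizer ((Q : Subgroup G) : Set G))
    {u : G} (hu : u ∈ (Q : Subgroup G)) : t * u * t = u⁻¹ := by
  obtain ⟨hti, htt, ht1⟩ := inv_two ht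
  have h1 : t * u * t ∈ (Q : Subgroup G) := by
    have := conj_mem_of_normalizer htQ hu
    rwa [hti] at this
  have hcomm : ∀ a ∈ (Q : Subgroup G), ∀ b ∈ (Q : Subgroup G), a * b = b * a := fun a ha b hb =>
    (mem_centralizer_iff.1 (h.le_centralizer Q hb) a ha)
  set w := u * (t * u * t) with hw
  have hwQ : w ∈ (Q : Subgroup G) := mul_mem hu h1
  have h2 : t * w = w * t := by
    have e1 : t * w = (t * u * t) * u * t := by
      rw [hw]
      calc t * (u * (t * u * t)) = t * u * t * u * t := by group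
        _ = _ := rfl
    rw [e1, hcomm _ h1 _ hu]
  obtain ⟨n, hn, hn'⟩ := pow_card_sylow Q
  have h3 : w = 1 := by
    by_contra hw1
    apply ht1
    apply h.A_comm hA (hn' w hwQ) hw1 h2
    rw [ht]
    intro hd
    exact h.p_ne_two ((Nat.prime_dvd_prime_iff_eq hp.out Nat.prime_two).1 hd)
  exact eq_inv_of_mul_eq_one_right (by rw [← hw]; exact h3)

theorem not_A : False := by
  have hp2 := h.p_ne_two
  obtain ⟨t, ht⟩ := exists_prime_orderOf_dvd_card' 2 h.two_dvd
  obtain ⟨hti, htt, ht1⟩ := inv_two ht
  have hto : ¬ p ∣ orderOf t := by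
    rw [ht]
    intro hd
    exact hp2 ((Nat.prime_dvd_prime_iff_eq hp.out Nat.prime_two).1 hd)
  set A := centralizer ({t} : Set G) with hAdef
  have htA : t ∈ A := mem_centralizer_singleton_iff.2 rfl
  have hAp : ¬ p ∣ Nat.card A := h.A_card hA ht1 hto
  have hAc : ∀ a ∈ A, ∀ b ∈ A, a * b = b * a := h.hyp.ab A hAp
  have hcen : ∀ a ∈ A, a ≠ 1 → ∀ c : G, c * a = a * c → c ∈ A := by
    intro a ha ha1 c hc
    have hao : ¬ p ∣ orderOf a := by
      intro hd
      apply hAp
      have := orderOf_dvd_natCard (⟨a, ha⟩ : A)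
      rw [Subgroup.orderOf_mk] at this
      exact hd.trans this
    have h1 := h.hyp.ab _ (h.A_card hA ha1 hao) c (mem_centralizer_singleton_iff.2 hc) t
      (mem_centralizer_singleton_iff.2 (mem_centralizer_singleton_iff.1 ha).symm)
    exact mem_centralizer_singleton_iff.2 h1
  -- a `p`-element normalising `A`
  obtain ⟨y, k, hyA, hyk, hy1⟩ : ∃ (y : G) (k : ℕ), y ∈ normalizer (A : Set G) ∧ y ^ p ^ k = 1 ∧ y ≠ 1 := by
    haveI : Fact (Nat.Prime 2) := ⟨Nat.prime_two⟩
    haveI := h.simple
    obtain ⟨S, hS⟩ := exists_sylow_mem (p := 2) (x := t) (n := 1) (by rw [pow_one, pow_two, htt])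
    have hSp : ¬ p ∣ Nat.card (S : Subgroup G) := by
      obtain ⟨n, hn⟩ := IsPGroup.iff_card.1 S.2
      rw [hn]
      intro hd
      exact hp2 ((Nat.prime_dvd_prime_iff_eq hp.out Nat.prime_two).1 (hp.out.dvd_of_dvd_pow hd))
    have hSA : (S : Subgroup G) ≤ A := fun s hs =>
      mem_centralizer_singleton_iff.2 (h.hyp.ab _ hSp s hs t hS)
    obtain ⟨g, hg, hgc⟩ := SetLike.not_le_iff_exists.1 (H21.SylowTools.burnside_not_le h.na h.two_dvd S)
    have hgA : g ∈ normalizer (A : Set G) := by
      apply mem_normalizer_of_conj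
      intro a ha
      have h1 : g * t * g⁻¹ ∈ A := hSA (conj_mem_of_normalizer hg hS)
      apply hcen _ h1
      · intro h2
        apply ht1
        have : t = g⁻¹ * (g * t * g⁻¹) * g := by group
        rw [this, h2]; group
      · have h3 : a * t = t * a := hAc a ha t htA
        calc g * a * g⁻¹ * (g * t * g⁻¹) = g * (a * t) * g⁻¹ := by group
          _ = g * (t * a) * g⁻¹ := by rw [h3]
          _ = _ := by group
    obtain ⟨i, j, hij, ⟨k, hk⟩, hj⟩ := H71.PCyc.exists_ppart p g
    refine ⟨g ^ i, k, pow_mem hgA _, by rw [← hk]; exact pow_orderOf_eq_one _, ?_⟩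
    intro h1
    apply hgc
    rw [hij, h1, one_mul, mem_centralizer_iff]
    intro s hs
    exact (h.hyp.commute hAp (pow_mem hgA _) (by rw [← hp.out.coprime_iff_not_dvd]; exact hj.symm) (hSA hs)).symm
  -- the three sets
  set I : Set G := {s | orderOf s = 2} with hI
  set IA : Set G := I ∩ (A : Set G) with hIA
  set IN : Set G := I \ (A : Set G) with hIN
  have hIcard : IA.ncard + IN.ncard = I.ncard := Set.ncard_inter_add_ncard_sdiff_eq_ncard I (A : Set G) (Set.toFinite _)
  have hoc : ∀ (g s : G), orderOf (g * s * g⁻¹) = orderOf s := fun g s => (MulAut.conj g).orderOf_eq s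
  have hIp : p ∣ I.ncard := by
    obtain ⟨P⟩ : Nonempty (Sylow p G) := inferInstance
    obtain ⟨n, hn, hn'⟩ := pow_card_sylow P
    refine dvd_ncard_of_free P.2 I (fun x _ s hs => (hoc x s).trans hs) ?_
    intro s hs
    obtain ⟨x, hx, hx1⟩ : ∃ x ∈ (P : Subgroup G), x ≠ 1 := by
      have := P.ne_bot_of_dvd_card h.dvd_card
      exact (Subgroup.ne_bot_iff_exists_ne_one.1 this).elim fun x hx => ⟨x, x.2, fun h => hx (Subtype.ext h)⟩
    refine ⟨x, hx, fun hxs => ?_⟩
    have hs2 : orderOf s = 2 := hs
    apply (inv_two hs2).2.2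
    apply h.A_comm hA (hn' x hx) hx1 hxs.symm
    rw [hs2]
    intro hd
    exact hp2 ((Nat.prime_dvd_prime_iff_eq hp.out Nat.prime_two).1 hd)
  have hIAp : p ∣ IA.ncard := by
    obtain ⟨P, hP⟩ := exists_sylow_mem hyk
    have hyp : IsPGroup p (zpowers y) := P.2.to_le (by rwa [zpowers_le])
    refine dvd_ncard_of_free hyp IA (fun x hx s hs => ⟨(hoc x s).trans hs.1, ?_⟩) ?_
    · have hxN : x ∈ normalizer (A : Set G) := (zpowers_le.2 hyA) hx
      exact conj_mem_of_normalizer hxN hs.2
    · intro s hs
      refine ⟨y, mem_zpowers y, fun hxs => ?_⟩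
      have hs2 : orderOf s = 2 := hs.1
      apply (inv_two hs2).2.2
      apply h.A_comm hA hyk hy1 hxs.symm
      rw [hs2]
      intro hd
      exact hp2 ((Nat.prime_dvd_prime_iff_eq hp.out Nat.prime_two).1 hd)
  have hINp : p ∣ IN.ncard := by
    have := hIcard ▸ hIp
    exact (Nat.dvd_add_right hIAp).1 this
  -- the Sylow subgroups normalised by `t`
  let 𝒬 := {Q : Sylow p G // t ∈ normalizer ((Q : Subgroup G) : Set G)}
  have hmap : (fun s => t * s) '' IN = {u : G | ∃ Q : 𝒬, u ∈ (Q.1 : Subgroup G) ∧ u ≠ 1} := by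
    ext u
    constructor
    · rintro ⟨s, ⟨hs, hsA⟩, rfl⟩
      have hs2 : orderOf s = 2 := hs
      obtain ⟨hsi, hss, hs1⟩ := inv_two hs2
      set u := t * s with hu
      have hu1 : u ≠ 1 := by
        intro h1
        apply hsA
        have : s = t := by rw [← hti]; exact (eq_inv_of_mul_eq_one_right h1)
        rw [this]; exact htA
      have hinv : t * u * t⁻¹ = u⁻¹ := by
        rw [hu, mul_inv_rev, hsi, hti, ← mul_assoc, htt, one_mul]
      have htu : ¬ t * u = u * t := by
        intro h1
        apply hsA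
        refine mem_centralizer_singleton_iff.2 ?_
        have h2 : s = t * u := by rw [hu, ← mul_assoc, htt, one_mul]
        rw [h2, h1]
        calc u * t * t = t * u * t := by rw [h1]
          _ = t * (u * t) := by group
      by_cases hpu : p ∣ orderOf u
      · obtain ⟨i, j, hij, ⟨k', hk⟩, hj⟩ := H71.PCyc.exists_ppart p u
        have hui : u ^ i ≠ 1 := by
          intro h1
          rw [h1, one_mul] at hij
          rw [← hij] at hj
          exact ((hp.out.coprime_iff_not_dvd).1 hj.symm) hpu
        have huk : (u ^ i) ^ p ^ k' = 1 := by rw [← hk]; exact pow_orderOf_eq_one _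
        obtain ⟨Q, hQ⟩ := exists_sylow_mem huk
        refine ⟨⟨Q, ?_⟩, ?_, hu1⟩
        · apply h.normalizer_zpowers_le Q hQ hui
          apply mem_normalizer_of_conj
          rintro w ⟨l, rfl⟩
          show t * (u ^ i) ^ l * t⁻¹ ∈ _
          rw [← conj_zpow, ← conj_pow, hinv, inv_pow, inv_zpow]
          exact inv_mem (zpow_mem (mem_zpowers _) l)
        · apply h.A_le hA
          apply h.mem_centralizer Q hQ hui
          rw [← pow_succ, ← pow_succ']
      · exfalso
        apply htu
        have hB := h.A_card hA hu1 hpu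
        apply h.hyp.commute hB _ hto (mem_centralizer_singleton_iff.2 rfl)
        apply mem_normalizer_of_conj
        intro b hb
        have hb' := mem_centralizer_singleton_iff.1 hb
        refine mem_centralizer_singleton_iff.2 ?_
        have e1 : u = t * u⁻¹ * t⁻¹ := by
          have : t * u⁻¹ * t⁻¹ = (t * u * t⁻¹)⁻¹ := by group
          rw [this, hinv, inv_inv]
        have e2 : u⁻¹ * b = b * u⁻¹ := by
          have : Commute u b := hb'.symm
          exact this.inv_left
        symm
        calc u * (t * b * t⁻¹) = (t * u⁻¹ * t⁻¹) * (t * b * t⁻¹) := by rw [← e1]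
          _ = t * (u⁻¹ * b) * t⁻¹ := by group
          _ = t * (b * u⁻¹) * t⁻¹ := by rw [e2]
          _ = (t * b * t⁻¹) * (t * u⁻¹ * t⁻¹) := by group
          _ = (t * b * t⁻¹) * u := by rw [← e1]
    · rintro ⟨⟨Q, htQ⟩, hu, hu1⟩
      have hinv := h.A_inv hA Q ht htQ hu
      obtain ⟨n, hn, hn'⟩ := pow_card_sylow Q
      refine ⟨t * u, ⟨?_, ?_⟩, by show t * (t * u) = u; rw [← mul_assoc, htt, one_mul]⟩
      · apply orderOf_two
        · rw [← mul_assoc, hinv, inv_mul_cancel]
        · intro h1
          have h2 : u = t := by rw [← hti]; exact (eq_inv_of_mul_eq_one_right h1)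
          rw [h2] at hu
          exact ht1 (eq_one_of_both (hn' t hu) hto)
      · intro h1
        have h2 := mem_centralizer_singleton_iff.1 h1
        have h3 : u * t = t * u := by
          have : t * (u * t) = t * (t * u) := by rw [← h2]; group
          exact (mul_left_cancel this)
        have h4 : t = 1 := h.A_comm hA (hn' u hu) hu1 h3.symm hto
        exact ht1 h4
  obtain ⟨P⟩ : Nonempty (Sylow p G) := inferInstance
  obtain ⟨n, hn, hn'⟩ := pow_card_sylow P
  have hcardU : IN.ncard = Nat.card 𝒬 * (p ^ n - 1) := by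
    rw [← Set.ncard_image_of_injective IN (mul_right_injective t), hmap]
    have e : (Σ Q : 𝒬, {u : G // u ∈ (Q.1 : Subgroup G) ∧ u ≠ 1}) ≃ {u : G | ∃ Q : 𝒬, u ∈ (Q.1 : Subgroup G) ∧ u ≠ 1} := by
      refine Equiv.ofBijective (fun x => ⟨x.2.1, x.1, x.2.2⟩) ⟨?_, ?_⟩
      · rintro ⟨Q, u, hu, hu1⟩ ⟨Q', u', hu', hu1'⟩ hxy
        have h1 : u = u' := congrArg Subtype.val hxy
        subst h1
        have h2 : Q = Q' := Subtype.ext (h.eq_of_mem Q.1 Q'.1 hu hu' hu1)
        subst h2
        rfl
      · rintro ⟨u, Q, hu⟩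
        exact ⟨⟨Q, u, hu⟩, rfl⟩
    rw [← Nat.card_coe_set_eq, ← Nat.card_congr e]
    haveI : Fintype 𝒬 := Fintype.ofFinite _
    rw [Nat.card_sigma]
    have h1 : ∀ Q : 𝒬, Nat.card {u : G // u ∈ (Q.1 : Subgroup G) ∧ u ≠ 1} = p ^ n - 1 := by
      intro Q
      have h2 : Nat.card (Q.1 : Subgroup G) = p ^ n := by
        rw [← hn]; exact Nat.card_congr (Sylow.equiv Q.1 P).toEquiv
      have h3 : {u : G | u ∈ (Q.1 : Subgroup G) ∧ u ≠ 1} = ((Q.1 : Subgroup G) : Set G) \ {1} := rfl
      have h4 : Nat.card {u : G // u ∈ (Q.1 : Subgroup G) ∧ u ≠ 1} = (((Q.1 : Subgroup G) : Set G) \ {1}).ncard := by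
        rw [← h3]; exact Nat.card_coe_set_eq _
      rw [h4, Set.ncard_diff_singleton_of_mem (one_mem _), ← h2, ← Nat.card_coe_set_eq]
      rfl
    rw [Finset.sum_congr rfl (fun Q _ => h1 Q), Finset.sum_const, Finset.card_univ, ← Nat.card_eq_fintype_card,
      smul_eq_mul]
  -- `A` is transitive on `𝒬`
  have hQp : ¬ p ∣ Nat.card 𝒬 ∨ Nat.card 𝒬 = 0 := by
    by_cases hne : Nonempty 𝒬
    · left
      letI : MulAction A 𝒬 :=
        { smul := fun a Q => ⟨(a : G) • Q.1, by
            apply mem_normalizer_of_conj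
            intro x hx
            rw [mem_smul_sylow] at hx ⊢
            have hx' : (a : G)⁻¹ * x * a ∈ (Q.1 : Subgroup G) := hx
            have ha : (a : G) * t = t * a := (mem_centralizer_singleton_iff.1 a.2)
            have h1 := conj_mem_of_normalizer Q.2 hx'
            have h2 : t * ((a : G)⁻¹ * x * a) * t⁻¹ = (a : G)⁻¹ * (t * x * t⁻¹) * a := by
              have e1 : t * (a : G)⁻¹ = (a : G)⁻¹ * t := by
                have : Commute (a : G) t := ha
                exact (this.inv_left.eq).symm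
              have e2 : (a : G) * t⁻¹ = t⁻¹ * a := by
                have : Commute (a : G) t := ha
                exact this.inv_right.eq
              calc t * ((a : G)⁻¹ * x * a) * t⁻¹ = (t * (a : G)⁻¹) * x * (a * t⁻¹) := by group
                _ = ((a : G)⁻¹ * t) * x * (t⁻¹ * a) := by rw [e1, e2]
                _ = _ := by group
            rw [h2] at h1
            exact h1⟩
          one_smul := fun Q => Subtype.ext (one_smul G Q.1)
          mul_smul := fun a b Q => Subtype.ext (mul_smul (a : G) (b : G) Q.1) }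
      haveI : MulAction.IsPretransitive A 𝒬 := by
        constructor
        rintro ⟨Q, hQ⟩ ⟨Q', hQ'⟩
        obtain ⟨g, hg⟩ := MulAction.exists_smul_eq G Q Q'
        -- `g t g⁻¹` normalises `Q'`
        have h1 : g * t * g⁻¹ ∈ normalizer ((Q' : Subgroup G) : Set G) := by
          apply mem_normalizer_of_conj
          intro x hx
          rw [← hg] at hx ⊢
          rw [mem_smul_sylow] at hx ⊢
          have hx' : g⁻¹ * x * g ∈ (Q : Subgroup G) := hx
          have h2 := conj_mem_of_normalizer hQ hx'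
          have h3 : t * (g⁻¹ * x * g) * t⁻¹ = g⁻¹ * (g * t * g⁻¹ * x * (g * t * g⁻¹)⁻¹) * g := by group
          rw [h3] at h2
          exact h2
        set t' := g * t * g⁻¹ with ht'
        have ht'2 : orderOf t' = 2 := (hoc g t).trans ht
        obtain ⟨hti', htt', ht1'⟩ := inv_two ht'2
        -- `t * t'` centralises `Q'`
        have hw : t * t' ∈ (Q' : Subgroup G) := by
          apply h.A_le hA
          rw [mem_centralizer_iff]
          intro x hx
          have e1 := h.A_inv hA Q' ht hQ' hx
          have e2 := h.A_inv hA Q' ht'2 h1 (inv_mem hx)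
          have e3 : t' * x⁻¹ = x * t' := by
            calc t' * x⁻¹ = (t' * x⁻¹ * t') * t' := by rw [mul_assoc _ t' t', htt', mul_one]
              _ = x * t' := by rw [e2, inv_inv]
          have e4 : t * x = x⁻¹ * t := by
            calc t * x = (t * x * t) * t := by rw [mul_assoc _ t t, htt, mul_one]
              _ = _ := by rw [e1]
          have e5 : t * x⁻¹ = x * t := by
            have e6 := h.A_inv hA Q' ht hQ' (inv_mem hx)
            calc t * x⁻¹ = (t * x⁻¹ * t) * t := by rw [mul_assoc _ t t, htt, mul_one]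
              _ = _ := by rw [e6, inv_inv]
          have e7 : x⁻¹ * t' = t' * x := by
            have e8 := h.A_inv hA Q' ht'2 h1 hx
            calc x⁻¹ * t' = (t' * x * t') * t' := by rw [e8]
              _ = _ := by rw [mul_assoc _ t' t', htt', mul_one]
          calc x * (t * t') = (x * t) * t' := by group
            _ = (t * x⁻¹) * t' := by rw [e5]
            _ = t * (x⁻¹ * t') := by group
            _ = t * (t' * x) := by rw [e7]
            _ = t * t' * x := by group
        -- a square root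
        obtain ⟨m, hm, hm'⟩ := pow_card_sylow Q'
        have hodd : Odd (p ^ m) := (hp.out.odd_of_ne_two hp2).pow
        obtain ⟨l, hl⟩ := hodd
        set x := (t * t') ^ (l + 1) with hx
        have hxQ : x ∈ (Q' : Subgroup G) := pow_mem hw _
        have hxx : x * x = t * t' := by
          rw [hx, ← pow_add]
          have : l + 1 + (l + 1) = p ^ m + 1 := by omega
          rw [this, pow_succ, hm' _ hw, one_mul]
        -- `x⁻¹ * g` commutes with `t`
        have e1 := h.A_inv hA Q' ht hQ' hxQ
        have e4 : t * x = x⁻¹ * t := by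
          calc t * x = (t * x * t) * t := by rw [mul_assoc _ t t, htt, mul_one]
            _ = _ := by rw [e1]
        have e5 : t' = x⁻¹ * t * x := by
          have : t' = t * (t * t') := by rw [← mul_assoc, htt, one_mul]
          rw [this, ← hxx, ← mul_assoc, e4]
        have e6 : x * g * t = t * (x * g) := by
          have h2 : g * t = t' * g := by rw [ht']; group
          calc x * g * t = x * (g * t) := by group
            _ = x * (t' * g) := by rw [h2]
            _ = x * (x⁻¹ * t * x) * g := by rw [e5]; group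
            _ = t * (x * g) := by group
        refine ⟨⟨x * g, mem_centralizer_singleton_iff.2 e6⟩, Subtype.ext ?_⟩
        show (x * g) • Q = Q'
        rw [mul_smul, hg]
        apply Sylow.ext
        ext z
        rw [mem_smul_sylow]
        constructor
        · intro hz
          have : z = x * (x⁻¹ * z * x) * x⁻¹ := by group
          rw [this]; exact mul_mem (mul_mem hxQ hz) (inv_mem hxQ)
        · intro hz; exact mul_mem (mul_mem (inv_mem hxQ) hz) hxQ
      obtain ⟨Q0⟩ := hne
      intro hd
      apply hAp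
      have h1 := MulAction.index_stabilizer_of_transitive A Q0
      rw [← h1] at hd
      exact hd.trans (Subgroup.index_dvd_card _)
    · right
      rw [Nat.card_eq_zero]; left
      exact not_nonempty_iff.1 hne
  have hfin : Nat.card 𝒬 = 0 := by
    rcases hQp with h1 | h1
    · exfalso
      rw [hcardU] at hINp
      rcases hp.out.dvd_mul.1 hINp with h2 | h2
      · exact h1 h2
      · have hn1 : n ≠ 0 := by
          rintro rfl
          have := P.ne_bot_of_dvd_card h.dvd_card
          apply this
          rw [← Subgroup.card_eq_one, hn, pow_zero]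
        have h3 : 1 ≤ p ^ n := Nat.one_le_pow _ _ hp.out.pos
        have h4 : p ∣ 1 := by
          have := (Nat.dvd_sub_iff_right h3 (dvd_pow_self p hn1)).1 h2
          exact this
        exact hp.out.one_lt.ne' (Nat.dvd_one.1 h4)
    · exact h1
  -- then all involutions lie in `A`
  have hIN0 : IN = ∅ := by
    rw [hfin, zero_mul] at hcardU
    exact (Set.ncard_eq_zero (Set.toFinite _)).1 hcardU
  have hall : ∀ g : G, g * t * g⁻¹ ∈ A := by
    intro g
    by_contra hc
    have : g * t * g⁻¹ ∈ IN := ⟨(hoc g t).trans ht, hc⟩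
    rw [hIN0] at this
    exact this
  haveI := h.simple
  have hncl : normalClosure ({t} : Set G) ≤ A := by
    rw [normalClosure, closure_le]
    intro z hz
    rw [Group.mem_conjugatesOfSet_iff] at hz
    obtain ⟨a, ha, hza⟩ := hz
    obtain ⟨g, rfl⟩ := isConj_iff.1 hza
    rw [Set.mem_singleton_iff.1 ha]
    exact hall g
  rcases IsSimpleGroup.eq_bot_or_eq_top_of_normal (normalClosure ({t} : Set G)) inferInstance with h1 | h1
  · apply ht1
    have : t ∈ normalClosure ({t} : Set G) := subset_normalClosure rfl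
    rw [h1] at this; exact this
  · rw [h1] at hncl
    exact h.centralizer_ne_top ht1 (top_le_iff.1 hncl)

end caseA

end Simp

end H38.CycAb
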