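import Cfsg.Agent.Lib.H38.CycAb3
import Cfsg.Agent.S4018

set_option autoImplicit false

/-! Groups with cyclic Sylow `p`-subgroups all of whose `p'`-subgroups are abelian: the remaining case. -/

namespace H38.CycAb

open Subgroup H38.Basic

universe u

variable {p : ℕ} {G : Type u} [Group G] [Finite G] [hp : Fact p.Prime]

namespace Simp

variable (h : Simp p G)

include h

/-- the centralizer of a nontrivial `p'`-element of `C(P)` is `N(P)` -/
theorem centralizer_eq (P : Sylow p G) {z : G} (hz : z ∈ centralizer ((P : Subgroup G) : Set G)) (hz1 : z ≠ 1)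
    (hzo : ¬ p ∣ orderOf z) : centralizer ({z} : Set G) = normalizer ((P : Subgroup G) : Set G) := by
  set N := normalizer ((P : Subgroup G) : Set G) with hN
  have hPN : (P : Subgroup G) ≤ N := le_normalizer
  obtain ⟨n, hn, hn'⟩ := pow_card_sylow P
  have hPi : ¬ p ∣ ((P : Subgroup G).subgroupOf N).index := fun h2 =>
    P.not_dvd_index (h2.trans (Subgroup.relIndex_dvd_index_of_le hPN))
  have hcop : (Nat.card ((P : Subgroup G).subgroupOf N)).Coprime ((P : Subgroup G).subgroupOf N).index := by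
    have h1 : Nat.card ((P : Subgroup G).subgroupOf N) = Nat.card (P : Subgroup G) :=
      Nat.card_congr (subgroupOfEquivOfLe hPN).toEquiv
    rw [h1, hn]
    apply Nat.Coprime.pow_left
    rw [hp.out.coprime_iff_not_dvd]
    exact hPi
  obtain ⟨E, hE⟩ := Subgroup.exists_right_complement'_of_coprime hcop
  set EG := E.map N.subtype with hEG
  have hEp : ¬ p ∣ Nat.card EG := by
    rw [hEG, Nat.card_congr (E.equivMapOfInjective _ N.subtype_injective).toEquiv.symm, ← hE.symm.index_eq_card]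
    exact hPi
  have hdec : ∀ n ∈ N, ∃ x ∈ (P : Subgroup G), ∃ e ∈ EG, n = x * e := by
    intro n hn
    obtain ⟨⟨⟨t, ht⟩, e⟩, hte⟩ := hE.2 (⟨n, hn⟩ : N)
    exact ⟨t, ht, (e : N), ⟨e, e.2, rfl⟩, (congrArg Subtype.val hte).symm⟩
  -- `z` lies in the complement
  have hzE : z ∈ EG := by
    obtain ⟨x, hx, e, he, hxe⟩ := hdec z (centralizer_le_normalizer _ hz)
    have h1 : x * z = z * x := mem_centralizer_iff.1 hz x hx
    have hx2 : x = 1 := by
      apply eq_one_of_both (hn' x hx)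
      have h2 : x = z * e⁻¹ := by rw [hxe]; group
      have h3 : Commute z e⁻¹ := by
        apply Commute.inv_right
        have h4 : e = x⁻¹ * z := by rw [hxe]; group
        rw [h4]
        have h5 : Commute z x := h1.symm
        exact h5.inv_right.mul_right (Commute.refl z)
      intro hd
      have h6 : orderOf x ∣ orderOf z * orderOf e := by
        rw [h2, ← orderOf_inv e]
        exact h3.orderOf_mul_dvd_mul_orderOf
      rcases hp.out.dvd_mul.1 (hd.trans h6) with h7 | h7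
      · exact hzo h7
      · apply hEp
        have := orderOf_dvd_natCard (⟨e, he⟩ : EG)
        rw [Subgroup.orderOf_mk] at this
        exact h7.trans this
    rw [hxe, hx2, one_mul]; exact he
  obtain ⟨y, hyE, hyc⟩ : ∃ y ∈ EG, y ∉ centralizer ((P : Subgroup G) : Set G) := by
    by_contra hcon
    push Not at hcon
    apply h.not_le P
    intro n hn
    obtain ⟨x, hx, e, he, rfl⟩ := hdec n hn
    exact mul_mem (h.le_centralizer P hx) (hcon e he)
  have hyN : y ∈ N := (Subgroup.map_subtype_le E) hyE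
  apply le_antisymm
  · apply h.le_normalizer_of (h.centralizer_ne_top hz1) P _ hyN _ hyc
    · intro x hx
      exact mem_centralizer_singleton_iff.2 (mem_centralizer_iff.1 hz x hx)
    · exact mem_centralizer_singleton_iff.2 (h.hyp.ab EG hEp y hyE z hzE)
  · intro n hn
    obtain ⟨x, hx, e, he, rfl⟩ := hdec n hn
    exact mul_mem (mem_centralizer_singleton_iff.2 (mem_centralizer_iff.1 hz x hx))
      (mem_centralizer_singleton_iff.2 (h.hyp.ab EG hEp e he z hzE))

theorem mem_normalizer_of_two (P : Sylow p G) {g x : G} (hx1 : x ≠ 1) (hx : x ∈ centralizer ((P : Subgroup G) : Set G))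
    (hgx : g * x * g⁻¹ ∈ centralizer ((P : Subgroup G) : Set G)) : g ∈ normalizer ((P : Subgroup G) : Set G) := by
  obtain ⟨i, j, hij, ⟨k, hk⟩, hj⟩ := H71.PCyc.exists_ppart p x
  by_cases hi1 : x ^ i = 1
  · -- `x` is a `p'`-element
    have hxo : ¬ p ∣ orderOf x := by
      rw [hi1, one_mul] at hij
      rw [hij, ← hp.out.coprime_iff_not_dvd]; exact hj.symm
    have hgo : orderOf (g * x * g⁻¹) = orderOf x := (MulAut.conj g).orderOf_eq x
    have h1 := h.centralizer_eq P hx hx1 hxo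
    have h2 := h.centralizer_eq P hgx (fun h3 => hx1 (by
      have : x = g⁻¹ * (g * x * g⁻¹) * g := by group
      rw [this, h3]; group)) (by rwa [hgo])
    obtain ⟨n, hn, hn'⟩ := pow_card_sylow P
    apply mem_normalizer_of_conj
    intro w hw
    apply mem_of_mem_normalizer P (n := n)
    · rw [conj_pow, hn' w hw]; group
    · rw [← h2, mem_centralizer_singleton_iff]
      have h3 : w * x = x * w := (mem_centralizer_iff.1 hx w hw)
      calc g * w * g⁻¹ * (g * x * g⁻¹) = g * (w * x) * g⁻¹ := by group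
        _ = g * (x * w) * g⁻¹ := by rw [h3]
        _ = _ := by group
  · have hik : (x ^ i) ^ p ^ k = 1 := by rw [← hk]; exact pow_orderOf_eq_one _
    have h1 : x ^ i ∈ (P : Subgroup G) :=
      mem_of_mem_normalizer P hik (centralizer_le_normalizer _ (pow_mem hx _))
    have h2 : g * x ^ i * g⁻¹ ∈ (P : Subgroup G) := by
      apply mem_of_mem_normalizer P (n := k)
      · rw [conj_pow, hik]; group
      · apply centralizer_le_normalizer
        rw [← conj_pow]; exact pow_mem hgx _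
    have h3 : g * x ^ i * g⁻¹ ≠ 1 := fun h3 => hi1 (by
      have : x ^ i = g⁻¹ * (g * x ^ i * g⁻¹) * g := by group
      rw [this, h3]; group)
    have h4 : g • P = P := by
      apply h.eq_of_mem _ _ _ h2 h3
      rw [mem_smul_sylow]
      have : g⁻¹ * (g * x ^ i * g⁻¹) * g = x ^ i := by group
      rw [this]; exact h1
    apply mem_normalizer_of_conj
    intro w hw
    rw [← h4, mem_smul_sylow]
    have : g⁻¹ * (g * w * g⁻¹) * g = w := by group
    rw [this]; exact hw

theorem B4 (P : Sylow p G) {R : Subgroup G} (hR : ¬ p ∣ Nat.card R) (hRN : R ≤ normalizer ((P : Subgroup G) : Set G))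
    {y : G} (hy : y ∈ normalizer (R : Set G)) (hyc : y ∉ centralizer (R : Set G)) {k : ℕ} (hyk : y ^ p ^ k = 1)
    {w : G} (hw : w ∈ centralizer ((P : Subgroup G) : Set G)) (hw1 : w ≠ 1) :
    y * w * y⁻¹ ∉ centralizer ((P : Subgroup G) : Set G) := by
  intro hcon
  have hyN := h.mem_normalizer_of_two P hw1 hw hcon
  have hyP : y ∈ (P : Subgroup G) := mem_of_mem_normalizer P hyk hyN
  obtain ⟨n, hn, hn'⟩ := pow_card_sylow P
  apply hyc
  rw [mem_centralizer_iff]
  intro ρ hρ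
  have h1 : y * ρ * y⁻¹ * ρ⁻¹ ∈ R := mul_mem (conj_mem_of_normalizer hy hρ) (inv_mem hρ)
  have h2 : y * ρ * y⁻¹ * ρ⁻¹ ∈ (P : Subgroup G) := by
    have : y * ρ * y⁻¹ * ρ⁻¹ = y * (ρ * y⁻¹ * ρ⁻¹) := by group
    rw [this]
    exact mul_mem hyP (conj_mem_of_normalizer (hRN hρ) (inv_mem hyP))
  have h3 : y * ρ * y⁻¹ * ρ⁻¹ = 1 := by
    apply eq_one_of_both (hn' _ h2)
    intro hd
    apply hR
    have := orderOf_dvd_natCard (⟨_, h1⟩ : R)
    rw [Subgroup.orderOf_mk] at this
    exact hd.trans this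
  calc ρ * y = (y * ρ * y⁻¹ * ρ⁻¹)⁻¹ * (y * ρ) := by group
    _ = y * ρ := by rw [h3]; group

/-- the action on the subgroup of order `p` -/
theorem exists_hom (P : Sylow p G) : ∃ (X : Subgroup G) (f : normalizer ((P : Subgroup G) : Set G) →* MulAut X),
    IsCyclic (MulAut X) ∧ Nat.card (MulAut X) = p - 1 ∧ ∀ n, f n = 1 ↔ (n : G) ∈ centralizer ((P : Subgroup G) : Set G) := by
  obtain ⟨⟨x, hx⟩, hxo⟩ := exists_prime_orderOf_dvd_card' (G := (P : Subgroup G)) p (P.dvd_card_of_dvd_card h.dvd_card)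
  rw [Subgroup.orderOf_mk] at hxo
  have hx1 : x ≠ 1 := by rintro rfl; rw [orderOf_one] at hxo; exact hp.out.one_lt.ne hxo
  set X := zpowers x with hX
  have hXcard : Nat.card X = p := by rw [hX, Nat.card_zpowers, hxo]
  have hle : normalizer ((P : Subgroup G) : Set G) ≤ normalizer (X : Set G) := by
    intro y hy
    obtain ⟨g, hgP, a, hgen, hga, hall⟩ := H72.CyclicSylow.exists_pow_conj (P : Subgroup G) (h.hyp.cyc P) hy
    apply mem_normalizer_of_conj
    rintro w ⟨i, rfl⟩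
    show y * x ^ i * y⁻¹ ∈ _
    rw [hall _ (zpow_mem hx i)]
    exact pow_mem (zpow_mem (mem_zpowers x) i) a
  have hXc : IsCyclic X := by rw [hX]; infer_instance
  refine ⟨X, X.normalizerMonoidHom.comp (Subgroup.inclusion hle), ?_, ?_, ?_⟩
  · haveI : Fact (Nat.card X).Prime := ⟨by rw [hXcard]; exact hp.out⟩
    have e := IsCyclic.mulAutMulEquiv X
    exact isCyclic_of_surjective e.symm e.symm.surjective
  · rw [IsCyclic.card_mulAut, hXcard, Nat.totient_prime hp.out]
  · intro n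
    have h1 : (X.normalizerMonoidHom.comp (Subgroup.inclusion hle)) n = 1 ↔
        Subgroup.inclusion hle n ∈ X.normalizerMonoidHom.ker := Iff.rfl
    rw [h1, Subgroup.normalizerMonoidHom_ker, Subgroup.mem_subgroupOf]
    show (n : G) ∈ centralizer (X : Set G) ↔ _
    constructor
    · intro h2
      exact h.mem_centralizer P hx hx1 (mem_centralizer_iff.1 h2 x (mem_zpowers x)).symm
    · intro h2
      rw [mem_centralizer_iff]
      rintro w ⟨i, rfl⟩
      exact mem_centralizer_iff.1 h2 _ (zpow_mem hx i)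

theorem B2 (P : Sylow p G) {r : ℕ} (hr : r.Prime) (hrp : r ≠ p) {z : G}
    (hz : z ∈ centralizer ((P : Subgroup G) : Set G)) (hzo : orderOf z = r) :
    r = 2 ∧ p = 3 ∧ ∃ (R : Sylow 2 G) (y : G), (R : Subgroup G) ≤ normalizer ((P : Subgroup G) : Set G) ∧
      Nat.card (R : Subgroup G) = 4 ∧ ∀ s ∈ (R : Subgroup G), s ≠ 1 → ∃ i : ℕ, s = y ^ i * z * (y ^ i)⁻¹ := by
  haveI : Fact r.Prime := ⟨hr⟩
  haveI := h.simple
  have hz1 : z ≠ 1 := by rintro rfl; rw [orderOf_one] at hzo; exact hr.one_lt.ne hzo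
  have hzp : ¬ p ∣ orderOf z := by
    rw [hzo]; intro hd; exact hrp ((Nat.prime_dvd_prime_iff_eq hp.out hr).1 hd).symm
  obtain ⟨R, hzR⟩ := exists_sylow_mem (p := r) (x := z) (n := 1) (by rw [pow_one, ← hzo]; exact pow_orderOf_eq_one z)
  have hRp : ¬ p ∣ Nat.card (R : Subgroup G) := by
    obtain ⟨n, hn⟩ := IsPGroup.iff_card.1 R.2
    rw [hn]
    intro hd
    exact hrp ((Nat.prime_dvd_prime_iff_eq hp.out hr).1 (hp.out.dvd_of_dvd_pow hd)).symm
  have hRc := h.hyp.ab _ hRp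
  have hRN : (R : Subgroup G) ≤ normalizer ((P : Subgroup G) : Set G) := by
    rw [← h.centralizer_eq P hz hz1 hzp]
    intro ρ hρ
    exact mem_centralizer_singleton_iff.2 (hRc ρ hρ z hzR)
  have hrG : r ∣ Nat.card G := hzo ▸ orderOf_dvd_natCard z
  -- the element `y`
  obtain ⟨y, k, hyR, hyc, hyk⟩ : ∃ (y : G) (k : ℕ), y ∈ normalizer ((R : Subgroup G) : Set G) ∧
      y ∉ centralizer ((R : Subgroup G) : Set G) ∧ y ^ p ^ k = 1 := by
    obtain ⟨g, hg, hgc⟩ := SetLike.not_le_iff_exists.1 (H21.SylowTools.burnside_not_le h.na hrG R)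
    obtain ⟨i, j, hij, ⟨k, hk⟩, hj⟩ := H71.PCyc.exists_ppart p g
    refine ⟨g ^ i, k, pow_mem hg _, ?_, by rw [← hk]; exact pow_orderOf_eq_one _⟩
    intro h1
    apply hgc
    rw [hij]
    refine mul_mem h1 ?_
    rw [mem_centralizer_iff]
    intro s hs
    exact (h.hyp.commute hRp (pow_mem hg _) (by rw [← hp.out.coprime_iff_not_dvd]; exact hj.symm) hs).symm
  have hyiR : ∀ i : ℕ, y ^ i ∈ normalizer ((R : Subgroup G) : Set G) := fun i => pow_mem hyR i
  have hyi : ∀ i : ℕ, 0 < i → i < p → y ^ i ∉ centralizer ((R : Subgroup G) : Set G) := by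
    intro i hi0 hip hcon
    apply hyc
    have h1 : (orderOf y).Coprime i := by
      have h2 : orderOf y ∣ p ^ k := orderOf_dvd_of_pow_eq_one hyk
      apply Nat.Coprime.coprime_dvd_left h2
      apply Nat.Coprime.pow_left
      rw [hp.out.coprime_iff_not_dvd]
      exact Nat.not_dvd_of_pos_of_lt hi0 hip
    obtain ⟨m, hm⟩ := exists_pow_eq_self_of_coprime (n := i) (x := y) h1.symm
    rw [← hm]
    exact pow_mem hcon m
  have hB4 : ∀ i : ℕ, 0 < i → i < p → ∀ w ∈ centralizer ((P : Subgroup G) : Set G), w ≠ 1 →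
      y ^ i * w * (y ^ i)⁻¹ ∉ centralizer ((P : Subgroup G) : Set G) := by
    intro i hi0 hip w hw hw1
    exact h.B4 P hRp hRN (hyiR i) (hyi i hi0 hip) (k := k)
      (by rw [← pow_mul, mul_comm, pow_mul, hyk, one_pow]) hw hw1
  have hp2 : 1 < p := hp.out.one_lt
  have hB41 : ∀ w ∈ centralizer ((P : Subgroup G) : Set G), w ≠ 1 → y * w * y⁻¹ ∉ centralizer ((P : Subgroup G) : Set G) := by
    have := hB4 1 one_pos hp2
    rwa [pow_one] at this
  obtain ⟨X, f, hcycX, hcardX, hf⟩ := h.exists_hom P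
  -- the injection
  have hyinv : ∀ ρ ∈ (R : Subgroup G), y⁻¹ * ρ * y ∈ (R : Subgroup G) := by
    intro ρ hρ
    have := conj_mem_of_normalizer (inv_mem hyR) hρ
    rwa [inv_inv] at this
  let F : ↥(R : Subgroup G) → MulAut X × MulAut X := fun ρ =>
    (f ⟨ρ, hRN ρ.2⟩, f ⟨y⁻¹ * ρ * y, hRN (hyinv ρ ρ.2)⟩)
  have hF : Function.Injective F := by
    intro ρ ρ' hρ
    have h1 : f ⟨ρ, hRN ρ.2⟩ = f ⟨ρ', hRN ρ'.2⟩ := congrArg Prod.fst hρ
    have h2 : f ⟨y⁻¹ * ρ * y, hRN (hyinv ρ ρ.2)⟩ = f ⟨y⁻¹ * ρ' * y, hRN (hyinv ρ' ρ'.2)⟩ := congrArg Prod.snd hρ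
    have h3 : (ρ : G)⁻¹ * ρ' ∈ centralizer ((P : Subgroup G) : Set G) := by
      have h4 : f (⟨ρ, hRN ρ.2⟩⁻¹ * ⟨ρ', hRN ρ'.2⟩) = 1 := by rw [map_mul, map_inv, h1, inv_mul_cancel]
      exact (hf _).1 h4
    have h5 : y⁻¹ * ((ρ : G)⁻¹ * ρ') * y ∈ centralizer ((P : Subgroup G) : Set G) := by
      have h4 : f (⟨y⁻¹ * ρ * y, hRN (hyinv ρ ρ.2)⟩⁻¹ * ⟨y⁻¹ * ρ' * y, hRN (hyinv ρ' ρ'.2)⟩) = 1 := by
        rw [map_mul, map_inv, h2, inv_mul_cancel]
      have h6 := (hf _).1 h4
      have h7 : ((⟨y⁻¹ * ρ * y, hRN (hyinv ρ ρ.2)⟩⁻¹ * ⟨y⁻¹ * ρ' * y, hRN (hyinv ρ' ρ'.2)⟩ :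
          normalizer ((P : Subgroup G) : Set G)) : G) = y⁻¹ * ((ρ : G)⁻¹ * ρ') * y := by
        simp only [Subgroup.coe_mul, Subgroup.coe_inv]
        group
      rwa [h7] at h6
    by_contra hne
    have h8 : y⁻¹ * ((ρ : G)⁻¹ * ρ') * y ≠ 1 := by
      intro h9
      apply hne
      have : (ρ : G)⁻¹ * ρ' = y * (y⁻¹ * ((ρ : G)⁻¹ * ρ') * y) * y⁻¹ := by group
      rw [h9] at this
      have h10 : (ρ : G)⁻¹ * ρ' = 1 := by rw [this]; group
      exact Subtype.ext (inv_mul_eq_one.1 h10)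
    apply hB41 _ h5 h8
    have : y * (y⁻¹ * ((ρ : G)⁻¹ * ρ') * y) * y⁻¹ = (ρ : G)⁻¹ * ρ' := by group
    rw [this]; exact h3
  -- `Ω`
  classical
  haveI : Fintype (MulAut X) := Fintype.ofFinite _
  haveI : Fintype (R : Subgroup G) := Fintype.ofFinite _
  set Ω : Finset (R : Subgroup G) := Finset.univ.filter (fun ρ => ρ ^ r = 1) with hΩ
  have hμ : (Finset.univ.filter (fun τ : MulAut X => τ ^ r = 1)).card ≤ r := IsCyclic.card_pow_eq_one_le hr.pos
  have hΩcard : Ω.card ≤ r * r := by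
    have h1 : (Ω.image F) ⊆ (Finset.univ.filter (fun τ : MulAut X => τ ^ r = 1)) ×ˢ
        (Finset.univ.filter (fun τ : MulAut X => τ ^ r = 1)) := by
      intro τ hτ
      rw [Finset.mem_image] at hτ
      obtain ⟨ρ, hρ, rfl⟩ := hτ
      rw [hΩ, Finset.mem_filter] at hρ
      have hρr : (ρ : G) ^ r = 1 := by
        have := congrArg Subtype.val hρ.2
        simpa using this
      rw [Finset.mem_product, Finset.mem_filter, Finset.mem_filter]
      refine ⟨⟨Finset.mem_univ _, ?_⟩, ⟨Finset.mem_univ _, ?_⟩⟩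
      · show (f ⟨ρ, hRN ρ.2⟩) ^ r = 1
        rw [← map_pow]
        have : (⟨ρ, hRN ρ.2⟩ : normalizer ((P : Subgroup G) : Set G)) ^ r = 1 := Subtype.ext hρr
        rw [this, map_one]
      · show (f ⟨y⁻¹ * ρ * y, hRN (hyinv ρ ρ.2)⟩) ^ r = 1
        rw [← map_pow]
        have : (⟨y⁻¹ * ρ * y, hRN (hyinv ρ ρ.2)⟩ : normalizer ((P : Subgroup G) : Set G)) ^ r = 1 := by
          apply Subtype.ext
          show (y⁻¹ * ρ * y) ^ r = 1
          have h2 := conj_pow (i := r) (a := y⁻¹) (b := (ρ : G))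
          rw [inv_inv] at h2
          rw [h2, hρr]; group
        rw [this, map_one]
    calc Ω.card = (Ω.image F).card := (Finset.card_image_of_injective _ hF).symm
      _ ≤ _ := Finset.card_le_card h1
      _ ≤ r * r := by rw [Finset.card_product]; exact Nat.mul_le_mul hμ hμ
  -- the elements `y ^ i * z ^ j * y ^ -i`
  have hyconj : ∀ (i : ℕ), ∀ ρ ∈ (R : Subgroup G), y ^ i * ρ * (y ^ i)⁻¹ ∈ (R : Subgroup G) := fun i ρ hρ =>
    conj_mem_of_normalizer (hyiR i) hρ
  have hzj1 : ∀ j : ℕ, 0 < j → j < r → z ^ j ≠ 1 := by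
    intro j hj0 hjr h1
    have := orderOf_dvd_of_pow_eq_one h1
    rw [hzo] at this
    exact Nat.not_dvd_of_pos_of_lt hj0 hjr this
  let E : Fin p × Fin (r - 1) → (R : Subgroup G) := fun ij =>
    ⟨y ^ (ij.1 : ℕ) * z ^ ((ij.2 : ℕ) + 1) * (y ^ (ij.1 : ℕ))⁻¹, hyconj _ _ (pow_mem hzR _)⟩
  have hkey : ∀ (i i' j j' : ℕ), i < i' → i' < p → j + 1 < r → j' + 1 < r →
      y ^ i * z ^ (j + 1) * (y ^ i)⁻¹ ≠ y ^ i' * z ^ (j' + 1) * (y ^ i')⁻¹ := by
    intro i i' j j' hii hip hj hj' heq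
    obtain ⟨d, rfl⟩ := Nat.exists_eq_add_of_lt hii
    apply hB4 (d + 1) (Nat.succ_pos d) (by omega) (z ^ (j' + 1)) (pow_mem hz _) (hzj1 _ (Nat.succ_pos _) hj')
    have h1 : y ^ (d + 1) * z ^ (j' + 1) * (y ^ (d + 1))⁻¹ = z ^ (j + 1) := by
      have h2 : y ^ (i + d + 1) = y ^ i * y ^ (d + 1) := by rw [← pow_add]; congr 1
      rw [h2] at heq
      calc y ^ (d + 1) * z ^ (j' + 1) * (y ^ (d + 1))⁻¹
          = (y ^ i)⁻¹ * (y ^ i * y ^ (d + 1) * z ^ (j' + 1) * (y ^ i * y ^ (d + 1))⁻¹) * y ^ i := by group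
        _ = (y ^ i)⁻¹ * (y ^ i * z ^ (j + 1) * (y ^ i)⁻¹) * y ^ i := by rw [heq]
        _ = z ^ (j + 1) := by group
    rw [h1]
    exact pow_mem hz _
  have hEinj : Function.Injective E := by
    rintro ⟨i, j⟩ ⟨i', j'⟩ hE
    have h1 : y ^ (i : ℕ) * z ^ ((j : ℕ) + 1) * (y ^ (i : ℕ))⁻¹ = y ^ (i' : ℕ) * z ^ ((j' : ℕ) + 1) * (y ^ (i' : ℕ))⁻¹ :=
      congrArg Subtype.val hE
    have hj := j.2
    have hj' := j'.2
    have hr1 := hr.one_lt
    rcases lt_trichotomy (i : ℕ) i' with h2 | h2 | h2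
    · exact absurd h1 (hkey _ _ _ _ h2 i'.2 (by omega) (by omega))
    · have h3 : i = i' := Fin.ext h2
      subst h3
      have h4 : z ^ ((j : ℕ) + 1) = z ^ ((j' : ℕ) + 1) := mul_left_cancel (mul_right_cancel h1)
      have h5 := (pow_inj_mod (x := z)).1 h4
      rw [hzo, Nat.mod_eq_of_lt (by omega), Nat.mod_eq_of_lt (by omega)] at h5
      have h6 : j = j' := Fin.ext (by omega)
      rw [h6]
    · exact absurd h1.symm (hkey _ _ _ _ h2 i.2 (by omega) (by omega))
  have hEΩ : Finset.univ.image E ⊆ Ω.erase 1 := by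
    intro ρ hρ
    rw [Finset.mem_image] at hρ
    obtain ⟨⟨i, j⟩, -, rfl⟩ := hρ
    have hj := j.2
    rw [Finset.mem_erase]
    constructor
    · intro h1
      have h2 : y ^ (i : ℕ) * z ^ ((j : ℕ) + 1) * (y ^ (i : ℕ))⁻¹ = 1 := congrArg Subtype.val h1
      apply hzj1 ((j : ℕ) + 1) (Nat.succ_pos _) (by omega)
      calc z ^ ((j : ℕ) + 1) = (y ^ (i : ℕ))⁻¹ * (y ^ (i : ℕ) * z ^ ((j : ℕ) + 1) * (y ^ (i : ℕ))⁻¹) * y ^ (i : ℕ) := by group
        _ = 1 := by rw [h2]; group
    · rw [hΩ, Finset.mem_filter]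
      refine ⟨Finset.mem_univ _, Subtype.ext ?_⟩
      show (y ^ (i : ℕ) * z ^ ((j : ℕ) + 1) * (y ^ (i : ℕ))⁻¹) ^ r = 1
      have hzr : z ^ r = 1 := by rw [← hzo]; exact pow_orderOf_eq_one z
      rw [conj_pow, ← pow_mul, mul_comm, pow_mul, hzr]
      simp
  have hcount : p * (r - 1) ≤ Ω.card - 1 := by
    have h1 := Finset.card_le_card hEΩ
    rw [Finset.card_image_of_injective _ hEinj, Finset.card_univ, Fintype.card_prod, Fintype.card_fin,
      Fintype.card_fin, Finset.card_erase_of_mem (by rw [hΩ, Finset.mem_filter]; simp)] at h1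
    exact h1
  have hple : p ≤ r + 1 := by
    have h1 : p * (r - 1) ≤ r * r - 1 := hcount.trans (Nat.sub_le_sub_right hΩcard 1)
    obtain ⟨m, hm⟩ : ∃ m, r = m + 2 := ⟨r - 2, by have := hr.two_le; omega⟩
    subst hm
    have h2 : (m + 2) * (m + 2) - 1 = (m + 3) * (m + 1) := by
      have : (m + 2) * (m + 2) = (m + 3) * (m + 1) + 1 := by ring
      omega
    rw [h2] at h1
    have h3 : m + 2 - 1 = m + 1 := by omega
    rw [h3] at h1
    exact Nat.le_of_mul_le_mul_right h1 (Nat.succ_pos m)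
  -- `r ∣ p - 1`
  have hrp1 : r ∣ p - 1 := by
    rw [← hcardX]
    have hyz : y * z * y⁻¹ ∈ (R : Subgroup G) := by
      have := hyconj 1 z hzR
      rwa [pow_one] at this
    set τ := f ⟨y * z * y⁻¹, hRN hyz⟩ with hτ
    have h1 : τ ≠ 1 := fun h2 => hB41 z hz hz1 ((hf _).1 h2)
    have h2 : τ ^ r = 1 := by
      rw [hτ, ← map_pow]
      have : (⟨y * z * y⁻¹, hRN hyz⟩ : normalizer ((P : Subgroup G) : Set G)) ^ r = 1 := by
        apply Subtype.ext
        show (y * z * y⁻¹) ^ r = 1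
        rw [conj_pow, ← hzo, pow_orderOf_eq_one]; group
      rw [this, map_one]
    rw [← orderOf_eq_prime h2 h1]
    exact orderOf_dvd_natCard τ
  have hrle : r ≤ p - 1 := Nat.le_of_dvd (by omega) hrp1
  have hpr : p = r + 1 := by omega
  have hpne2 := h.p_ne_two
  have hpodd : Odd p := hp.out.odd_of_ne_two hpne2
  have hr2 : r = 2 := by
    rcases hr.eq_two_or_odd' with h1 | h1
    · exact h1
    · exfalso
      rw [hpr] at hpodd
      have := h1.add_one
      exact (Nat.not_odd_iff_even.2 this) hpodd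
  subst hr2
  refine ⟨rfl, hpr, R, y, hRN, ?_, ?_⟩
  · -- the order of `R`
    have h1 : Fintype.card (R : Subgroup G) ≤ 4 := by
      have h2 := Fintype.card_le_of_injective F hF
      rw [Fintype.card_prod, ← Nat.card_eq_fintype_card (α := MulAut X), hcardX, hpr] at h2
      exact h2
    rw [Nat.card_eq_fintype_card]
    obtain ⟨n, hn⟩ := IsPGroup.iff_card.1 R.2
    rw [Nat.card_eq_fintype_card] at hn
    have h3 : 4 ≤ Fintype.card (R : Subgroup G) := by
      have h4 : Ω.card ≤ Fintype.card (R : Subgroup G) := Finset.card_le_univ _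
      rw [hpr] at hcount
      omega
    omega
  · intro s hs hs1
    -- `Ω.erase 1` has at least three elements which are exactly the image of `E`
    have h1 : Fintype.card (R : Subgroup G) ≤ 4 := by
      have h2 := Fintype.card_le_of_injective F hF
      rw [Fintype.card_prod, ← Nat.card_eq_fintype_card (α := MulAut X), hcardX, hpr] at h2
      exact h2
    have h5 : Finset.univ.image E = Finset.univ.erase (1 : (R : Subgroup G)) := by
      apply Finset.eq_of_subset_of_card_le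
      · exact hEΩ.trans (Finset.erase_subset_erase _ (Finset.subset_univ _))
      · rw [Finset.card_image_of_injective _ hEinj, Finset.card_univ, Fintype.card_prod, Fintype.card_fin,
          Fintype.card_fin, Finset.card_erase_of_mem (Finset.mem_univ _), Finset.card_univ, hpr]
        omega
    have h6 : (⟨s, hs⟩ : (R : Subgroup G)) ∈ Finset.univ.image E := by
      rw [h5, Finset.mem_erase]
      exact ⟨fun h7 => hs1 (congrArg Subtype.val h7), Finset.mem_univ _⟩
    rw [Finset.mem_image] at h6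
    obtain ⟨⟨i, j⟩, -, hij⟩ := h6
    refine ⟨i, ?_⟩
    have h7 : y ^ (i : ℕ) * z ^ ((j : ℕ) + 1) * (y ^ (i : ℕ))⁻¹ = s := congrArg Subtype.val hij
    have h8 : (j : ℕ) = 0 := by have := j.2; omega
    rw [h8, zero_add, pow_one] at h7
    exact h7.symm

end Simp

end H38.CycAb
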