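import Cfsg.Agent.Lib.H38.CycAb4

set_option autoImplicit false

/-! Groups with cyclic Sylow `p`-subgroups all of whose `p'`-subgroups are abelian: conclusion. -/

namespace H38.CycAb

open Subgroup H38.Basic

universe u

variable {p : ℕ} {G : Type u} [Group G] [Finite G] [hp : Fact p.Prime]

namespace Simp

variable (h : Simp p G)

include h

theorem contra (P : Sylow p G) {z : G} (hz : z ∈ centralizer ((P : Subgroup G) : Set G)) (hz1 : z ≠ 1)
    (hzo : ¬ p ∣ orderOf z) : False := by
  haveI := h.simple
  -- an element of prime order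
  obtain ⟨r, hr, hrz⟩ := Nat.exists_prime_and_dvd (n := orderOf z) (fun h1 => hz1 (orderOf_eq_one_iff.1 h1))
  have hzc : z ^ (orderOf z / r) ∈ centralizer ((P : Subgroup G) : Set G) := pow_mem hz _
  have hzco : orderOf (z ^ (orderOf z / r)) = r := by
    rw [orderOf_pow_of_dvd (Nat.div_pos (Nat.le_of_dvd (orderOf_pos z) hrz) hr.pos).ne' (Nat.div_dvd_of_dvd hrz)]
    exact Nat.div_div_self hrz (orderOf_pos z).ne'
  have hrp : r ≠ p := by rintro rfl; exact hzo hrz
  obtain ⟨hr2, hp3, R, y, hRN, hR4, hRz⟩ := h.B2 P hr hrp hzc hzco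
  subst hr2
  subst hp3
  generalize z ^ (orderOf z / 2) = t at hzc hzco hRz
  clear hrz hr hzo hz1 hz
  rename' hzc => ht, hzco => hto
  clear z
  have ht1 : t ≠ 1 := (inv_two hto).2.2
  have hto3 : ¬ 3 ∣ orderOf t := by rw [hto]; decide
  have hCt : centralizer ({t} : Set G) = normalizer ((P : Subgroup G) : Set G) := h.centralizer_eq P ht ht1 hto3
  set N := normalizer ((P : Subgroup G) : Set G) with hN
  set C := centralizer ((P : Subgroup G) : Set G) with hC
  have hCN : C ≤ N := centralizer_le_normalizer _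
  have hPN : (P : Subgroup G) ≤ N := le_normalizer
  obtain ⟨n, hn, hn'⟩ := pow_card_sylow P
  obtain ⟨X, f, hcycX, hcardX, hf⟩ := h.exists_hom P
  -- the index of `C` in `N` is two
  have hker : f.ker = C.subgroupOf N := by
    ext w; exact hf w
  have hidx : (C.subgroupOf N).index = 2 := by
    have h1 : (C.subgroupOf N).index ∣ 2 := by
      rw [← hker, Subgroup.index_ker]
      have := Subgroup.card_subgroup_dvd_card f.range
      rwa [hcardX] at this
    have h2 : (C.subgroupOf N).index ≠ 1 := by
      intro h2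
      rw [Subgroup.index_eq_one, Subgroup.subgroupOf_eq_top] at h2
      exact h.not_le P h2
    exact ((Nat.dvd_prime Nat.prime_two).1 h1).resolve_left h2
  have hNC : Nat.card N = 2 * Nat.card C := by
    rw [← Subgroup.card_mul_index (C.subgroupOf N), hidx, mul_comm]
    congr 1
    exact Nat.card_congr (subgroupOfEquivOfLe hCN).toEquiv
  -- the order of `N`
  have hNcard : Nat.card N = 4 * Nat.card (P : Subgroup G) := by
    have hRi : ¬ 2 ∣ (R : Subgroup G).index := R.not_dvd_index
    have h1 : 4 ∣ Nat.card N := by rw [← hR4]; exact Subgroup.card_dvd_of_le hRN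
    have hP3 : ¬ 3 ∣ (P : Subgroup G).relIndex N := fun h2 =>
      P.not_dvd_index (h2.trans (Subgroup.relIndex_dvd_index_of_le hPN))
    have h2 : Nat.card N = Nat.card (P : Subgroup G) * (P : Subgroup G).relIndex N := by
      rw [← Subgroup.card_mul_index ((P : Subgroup G).subgroupOf N)]
      congr 1
      exact Nat.card_congr (subgroupOfEquivOfLe hPN).toEquiv
    have h3 : 4 ∣ (P : Subgroup G).relIndex N := by
      apply Nat.Coprime.dvd_of_dvd_mul_left (m := Nat.card (P : Subgroup G)) _ (h2 ▸ h1)
      rw [hn]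
      exact Nat.Coprime.pow_right _ (by decide)
    obtain ⟨m, hm⟩ := h3
    have hm1 : m = 1 := by
      by_contra hm1
      obtain ⟨q, hq, hqm⟩ := Nat.exists_prime_and_dvd hm1
      haveI : Fact q.Prime := ⟨hq⟩
      have hqN : q ∣ Nat.card N := by
        rw [h2, hm]
        exact Dvd.dvd.mul_left (Dvd.dvd.mul_left hqm _) _
      have hq3 : q ≠ 3 := by
        rintro rfl
        apply hP3
        rw [hm]; exact Dvd.dvd.mul_left hqm _
      have hq2 : q ≠ 2 := by
        rintro rfl
        obtain ⟨m', rfl⟩ := hqm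
        have h4 : 8 ∣ Nat.card G := by
          refine Dvd.dvd.trans ?_ (Subgroup.card_subgroup_dvd_card N)
          rw [h2, hm]
          exact ⟨Nat.card (P : Subgroup G) * m', by ring⟩
        rw [← Subgroup.card_mul_index (R : Subgroup G), hR4] at h4
        obtain ⟨c, hc⟩ := h4
        exact hRi ⟨c, by omega⟩
      obtain ⟨⟨w, hw⟩, hwo⟩ := exists_prime_orderOf_dvd_card' q hqN
      have hwo' : orderOf w = q := by rwa [Subgroup.orderOf_mk] at hwo
      have h5 : f ⟨w, hw⟩ = 1 := by
        have h6 : orderOf (f ⟨w, hw⟩) ∣ q := by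
          apply orderOf_dvd_of_pow_eq_one
          rw [← map_pow, ← hwo, pow_orderOf_eq_one, map_one]
        have h7 : orderOf (f ⟨w, hw⟩) ∣ 2 := by
          have := orderOf_dvd_natCard (f ⟨w, hw⟩)
          rwa [hcardX] at this
        have h8 : Nat.Coprime q 2 := (Nat.coprime_primes hq Nat.prime_two).2 hq2
        have h9 : orderOf (f ⟨w, hw⟩) ∣ 1 := by rw [← h8]; exact Nat.dvd_gcd h6 h7
        exact orderOf_eq_one_iff.1 (Nat.dvd_one.1 h9)
      have h6 := h.B2 P hq hq3 ((hf _).1 h5) hwo'
      exact hq2 h6.1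
    rw [h2, hm, hm1]; ring
  have hCcard : Nat.card C = 2 * Nat.card (P : Subgroup G) := by omega
  -- normalizers of the other Sylow subgroups
  have hNall : ∀ P' : Sylow 3 G, Nat.card (normalizer ((P' : Subgroup G) : Set G)) = 4 * Nat.card (P : Subgroup G) := by
    intro P'
    rw [← hNcard]
    have h1 := P.card_eq_index_normalizer
    have h2 := P'.card_eq_index_normalizer
    have h3 := Subgroup.card_mul_index (normalizer ((P' : Subgroup G) : Set G))
    have h4 := Subgroup.card_mul_index N
    have h1' : Nat.card (Sylow 3 G) = N.index := h1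
    have h2' : Nat.card (Sylow 3 G) = (normalizer ((P' : Subgroup G) : Set G)).index := h2
    rw [← h2', h1'] at h3
    exact Nat.eq_of_mul_eq_mul_right (Nat.pos_of_ne_zero Subgroup.index_ne_zero_of_finite) (h3.trans h4.symm)
  have hPall : ∀ P' : Sylow 3 G, Nat.card (P' : Subgroup G) = Nat.card (P : Subgroup G) := fun P' =>
    Nat.card_congr (Sylow.equiv P' P).toEquiv
  -- all involutions are conjugate
  have hinv : ∀ s : G, orderOf s = 2 → Nat.card (centralizer ({s} : Set G)) = 4 * Nat.card (P : Subgroup G) := by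
    intro s hs
    haveI : Fact (Nat.Prime 2) := ⟨Nat.prime_two⟩
    obtain ⟨R', hR'⟩ := exists_sylow_mem (p := 2) (x := s) (n := 1) (by rw [pow_one, ← hs]; exact pow_orderOf_eq_one s)
    obtain ⟨g, hg⟩ := MulAction.exists_smul_eq G R' R
    have h1 : g * s * g⁻¹ ∈ (R : Subgroup G) := by
      rw [← hg, mem_smul_sylow]
      have : g⁻¹ * (g * s * g⁻¹) * g = s := by group
      rw [this]; exact hR'
    have hs1 : s ≠ 1 := (inv_two hs).2.2
    have h2 : g * s * g⁻¹ ≠ 1 := fun h3 => hs1 (by
      have : s = g⁻¹ * (g * s * g⁻¹) * g := by group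
      rw [this, h3]; group)
    obtain ⟨i, hi⟩ := hRz _ h1 h2
    have h3 : s = (g⁻¹ * y ^ i) * t * (g⁻¹ * y ^ i)⁻¹ := by
      calc s = g⁻¹ * (g * s * g⁻¹) * g := by group
        _ = g⁻¹ * (y ^ i * t * (y ^ i)⁻¹) * g := by rw [hi]
        _ = _ := by group
    rw [← hNcard, ← hCt]
    set c := g⁻¹ * y ^ i with hc
    have h4 : centralizer ({s} : Set G) = (centralizer ({t} : Set G)).map (MulAut.conj c).toMonoidHom := by
      ext w
      rw [Basic.mem_conj, mem_centralizer_singleton_iff, mem_centralizer_singleton_iff, h3]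
      constructor
      · intro h5
        calc c⁻¹ * w * c * t = c⁻¹ * (w * (c * t * c⁻¹)) * c := by group
          _ = c⁻¹ * (c * t * c⁻¹ * w) * c := by rw [h5]
          _ = _ := by group
      · intro h5
        calc w * (c * t * c⁻¹) = c * (c⁻¹ * w * c * t) * c⁻¹ := by group
          _ = c * (t * (c⁻¹ * w * c)) * c⁻¹ := by rw [h5]
          _ = _ := by group
    rw [h4, card_conj]
  -- apply the numerical non-simplicity criterion
  refine Cfsg.Agent.S4018.result P ⟨⟨fun a b => Subtype.ext ?_⟩⟩ hNcard hCcard ?_ ?_ h.simple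
  · exact mem_centralizer_iff.1 (h.le_centralizer P b.2) a a.2
  · intro g hg x hx hgx
    by_contra hx1
    apply hg
    have hgN := h.mem_normalizer_of_two P hx1 hx hgx
    apply mem_normalizer_of_conj
    intro c hc
    rw [mem_centralizer_iff] at hc ⊢
    intro w hw
    have h1 : g⁻¹ * w * g ∈ (P : Subgroup G) := by
      have := conj_mem_of_normalizer (inv_mem hgN) hw
      rwa [inv_inv] at this
    have h2 := hc _ h1
    calc w * (g * c * g⁻¹) = g * (g⁻¹ * w * g * c) * g⁻¹ := by group
      _ = g * (c * (g⁻¹ * w * g)) * g⁻¹ := by rw [h2]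
      _ = _ := by group
  · intro K hK h2K
    rcases h.con K hK with ⟨Q, M, hM, hMQ⟩ | hn3
    · -- normal complement
      have hM3 : ¬ 3 ∣ Nat.card M := by
        rw [← hMQ.index_eq_card]; exact Q.not_dvd_index
      have hcardK : Nat.card K = Nat.card M * Nat.card (Q : Subgroup K) := hMQ.card_mul.symm
      obtain ⟨j, hj⟩ := IsPGroup.iff_card.1 Q.2
      have hQP : Nat.card (Q : Subgroup K) ∣ Nat.card (P : Subgroup G) := by
        obtain ⟨P', hP'⟩ := (Q.2.map K.subtype).exists_le_sylow
        rw [← hPall P', Nat.card_congr ((Q : Subgroup K).equivMapOfInjective _ K.subtype_injective).toEquiv]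
        exact Subgroup.card_dvd_of_le hP'
      have h2M : 2 ∣ Nat.card M := by
        rw [hcardK] at h2K
        apply Nat.Coprime.dvd_of_dvd_mul_right (n := Nat.card (Q : Subgroup K)) _ h2K
        rw [hj]
        exact Nat.Coprime.pow_right _ (by decide)
      haveI : Fact (Nat.Prime 2) := ⟨Nat.prime_two⟩
      obtain ⟨⟨⟨s, hsK⟩, hsM⟩, hso⟩ := exists_prime_orderOf_dvd_card' 2 h2M
      rw [Subgroup.orderOf_mk, Subgroup.orderOf_mk] at hso
      have hM' : ¬ 3 ∣ Nat.card (M.map K.subtype) := by
        rwa [Nat.card_congr (M.equivMapOfInjective _ K.subtype_injective).toEquiv.symm]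
      have h4 : M.map K.subtype ≤ centralizer ({s} : Set G) := by
        intro w hw
        exact mem_centralizer_singleton_iff.2 (h.hyp.ab _ hM' w hw s ⟨⟨s, hsK⟩, hsM, rfl⟩)
      have h5 : Nat.card M ∣ 4 := by
        have h6 := Subgroup.card_dvd_of_le h4
        rw [hinv s hso, Nat.card_congr (M.equivMapOfInjective _ K.subtype_injective).toEquiv.symm] at h6
        apply Nat.Coprime.dvd_of_dvd_mul_right (n := Nat.card (P : Subgroup G)) _ h6
        rw [hn]
        apply Nat.Coprime.pow_right
        exact ((Nat.Prime.coprime_iff_not_dvd Nat.prime_three).2 hM3).symm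
      rw [hcardK]
      exact mul_dvd_mul h5 hQP
    · obtain ⟨Q⟩ : Nonempty (Sylow 3 K) := inferInstance
      by_cases hQ : (Q : Subgroup K) = ⊥
      · -- `K` is a `3'`-group
        have hK3 : ¬ 3 ∣ Nat.card K := by
          intro h3
          exact Q.ne_bot_of_dvd_card h3 hQ
        haveI : Fact (Nat.Prime 2) := ⟨Nat.prime_two⟩
        obtain ⟨⟨s, hsK⟩, hso⟩ := exists_prime_orderOf_dvd_card' 2 h2K
        rw [Subgroup.orderOf_mk] at hso
        have h4 : K ≤ centralizer ({s} : Set G) := by
          intro w hw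
          exact mem_centralizer_singleton_iff.2 (h.hyp.ab _ hK3 w hw s hsK)
        rw [← hinv s hso]
        exact Subgroup.card_dvd_of_le h4
      · obtain ⟨⟨x, hx⟩, hx1'⟩ := Subgroup.ne_bot_iff_exists_ne_one.1 hQ
        have hx1 : (x : G) ≠ 1 := fun h1 => hx1' (Subtype.ext (Subtype.ext h1))
        obtain ⟨P', hP'⟩ := (Q.2.map K.subtype).exists_le_sylow
        rw [← hNall P']
        apply Subgroup.card_dvd_of_le
        intro g hg
        have hxP : (x : G) ∈ (P' : Subgroup G) := hP' ⟨x, hx, rfl⟩
        have hgx : g * x * g⁻¹ ∈ (P' : Subgroup G) := by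
          apply hP'
          exact ⟨⟨g, hg⟩ * x * ⟨g, hg⟩⁻¹, (hn3 Q).conj_mem x hx ⟨g, hg⟩, rfl⟩
        apply h.mem_normalizer_of_two P' hx1 (h.le_centralizer P' hxP) (h.le_centralizer P' hgx)

/-- there is no simple example -/
theorem false' : False := by
  apply h.not_A
  intro P c hc hco
  by_contra hc1
  exact h.contra P hc hc1 hco

end Simp

theorem main (m : ℕ) : ∀ (G : Type u) [Group G] [Finite G], Nat.card G = m → Hyp p G → Con p G := by
  induction m using Nat.strong_induction_on with
  | _ m ih =>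
    intro G _ _ hm hG
    by_contra hcon
    have hsub : ∀ K : Subgroup G, K ≠ ⊤ → Con p K := by
      intro K hK
      refine ih _ ?_ K rfl (hG.subgroup K)
      rw [← hm]
      exact lt_of_le_of_ne (Subgroup.card_le_card_group K) (fun h => hK (Subgroup.eq_top_of_card_eq K h))
    have hns : ∀ N : Subgroup G, N.Normal → N ≠ ⊥ → N = ⊤ := by
      intro N hN h1
      by_contra h2
      apply hcon
      apply hG.con_of_isSolvable
      have hs1 := (hsub N h2).isSolvable (hG.subgroup N)
      have hs2 : Group.IsSolvable (G ⧸ N) := by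
        have hc : Nat.card N * N.index = Nat.card G := Subgroup.card_mul_index N
        have hN1 : 1 < Nat.card N := (Subgroup.one_lt_card_iff_ne_bot N).2 h1
        refine (ih (Nat.card (G ⧸ N)) ?_ (G ⧸ N) rfl (hG.quotient N)).isSolvable (hG.quotient N)
        have : 0 < Nat.card (G ⧸ N) := Nat.card_pos
        have hc' : Nat.card N * Nat.card (G ⧸ N) = m := by rw [← hm]; exact hc
        nlinarith
      exact solvable_ext N hs1 hs2
    have hna : ¬ IsMulCommutative G := by
      intro hcm
      apply hcon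
      apply hG.con_of_isSolvable
      exact isSolvable_of_comm fun a b => hcm.is_comm.comm a b
    haveI : Nontrivial G := by
      by_contra hnt
      rw [not_nontrivial_iff_subsingleton] at hnt
      exact hna ⟨⟨fun a b => Subsingleton.elim _ _⟩⟩
    have hsimp : IsSimpleGroup G := ⟨fun N hN => by
      by_cases h1 : N = ⊥
      · exact Or.inl h1
      · exact Or.inr (hns N hN h1)⟩
    exact Simp.false' (p := p) ⟨hsimp, hna, hG, hsub⟩

end H38.CycAb
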