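import Cfsg.Agent.Lib.H38.DZ1
import Cfsg.Agent.Lib.H38.AbSol2
import Cfsg.Agent.Lib.H81.DegreeCount
import Cfsg.Agent.S0280
import Cfsg.Agent.Lib.H43.SLCount
import Cfsg.Agent.Lib.H82.Cliff
import Cfsg.Agent.Lib.H25.SL2Card
import Cfsg.Agent.Lib.H18.PGraph
import Cfsg.Agent.Lib.H24.SzIso

/-!
# Bender groups: orders and the principal series (S4745)
-/

set_option autoImplicit false
set_option linter.unusedSectionVars false
set_option linter.unusedVariables false
set_option linter.style.haveILetI false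

namespace H38.DZ

open Cfsg Subgroup

universe u v

theorem two_of_card {F : Type*} [Field F] [Fintype F] {n : ℕ} (hn : n ≠ 0) (hF : Fintype.card F = 2 ^ n) :
    (2 : F) = 0 := by
  have h1 : ((Fintype.card F : ℕ) : F) = 0 := FiniteField.cast_card_eq_zero F
  rw [hF] at h1
  push_cast at h1
  exact (pow_eq_zero_iff hn).1 h1

theorem exists_irr {L : Type u} [Group L] {F : Type} [Field F] [Fintype F] {n : ℕ} (hn : 2 ≤ n)
    (hF : Fintype.card F = 2 ^ n) (e : L ≃* Matrix.ProjectiveSpecialLinearGroup (Fin 2) F) :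
    ∃ θ : IrrCharacter L, charDegree (θ : L → ℂ) = Fintype.card F + 1 := by
  have h2 := two_of_card (by omega) hF
  haveI : CharP F 2 := CharTwo.of_one_ne_zero_of_two_eq_zero one_ne_zero h2
  have hbot := H25.SL2Card.center_SL2_char_two (K := F)
  have e3 : Matrix.ProjectiveSpecialLinearGroup (Fin 2) F ≃* Matrix.SpecialLinearGroup (Fin 2) F :=
    (QuotientGroup.quotientMulEquivOfEq hbot).trans QuotientGroup.quotientBot
  let f := (e.trans e3).toMonoidHom
  have hf : Function.Surjective f := (e.trans e3).surjective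
  obtain ⟨α, hα⟩ : ∃ α : MulChar F ℂ, α ^ 2 ≠ 1 := by
    by_contra hcon
    push Not at hcon
    have h3 := H43.GLIrr.card_mulChar (F := F)
    have h4 : Subsingleton (MulChar F ℂ) := ⟨fun a b => by
      rw [H43.SLCount.sq_one_even h2 (hcon a), H43.SLCount.sq_one_even h2 (hcon b)]⟩
    have h5 := Finite.card_le_one_iff_subsingleton.2 h4
    have h6 : 4 ≤ Fintype.card F := by
      rw [hF]
      calc 4 = 2 ^ 2 := by norm_num
        _ ≤ 2 ^ n := Nat.pow_le_pow_right (by norm_num) hn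
    omega
  letI : Fintype (Matrix.SpecialLinearGroup (Fin 2) F) := Fintype.ofFinite _
  let χ := H43.SLCount.psS (F := F) ⟨α, hα⟩
  have hχ : (χ : Matrix.SpecialLinearGroup (Fin 2) F → ℂ) 1 = (Fintype.card F : ℂ) + 1 :=
    H43.SLCount.psS_one ⟨χ, ⟨_, rfl⟩⟩
  refine ⟨⟨fun x => (χ : Matrix.SpecialLinearGroup (Fin 2) F → ℂ) (f x),
    H18.CharBasic.isIrrCharacter_comp f hf χ.2⟩, ?_⟩
  apply H81.DegreeCount.charDegree_natCast
  show (χ : Matrix.SpecialLinearGroup (Fin 2) F → ℂ) (f 1) = _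
  rw [map_one, hχ]
  push_cast
  ring

theorem concl_cases {L : Type u} [Group L] [Finite L] (h : H16.BS.Concl L) {N k p : ℕ}
    (hp : p.Prime) (hp2 : p ≠ 2) (hN : N = p ^ k) (hNL : N ∣ Nat.card L)
    (hS : ∀ m : ℕ, 2 ^ m ∣ Nat.card L → 2 ^ m + 1 ≤ N) :
    ∃ θ : IrrCharacter L, charDegree (θ : L → ℂ) = N := by
  rcases h with ⟨F, iF, iFf, ⟨n, hn, hF⟩, ⟨e⟩⟩ | ⟨F, iF, iFf, m, hm, hF, ⟨e⟩⟩ | ⟨F, iF, iFf, n, hn, hF, ⟨e⟩⟩
  · have h4 : 4 ≤ Fintype.card F := by
      rw [hF]
      calc 4 = 2 ^ 2 := by norm_num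
        _ ≤ 2 ^ n := Nat.pow_le_pow_right (by norm_num) hn
    have h2 := two_of_card (by omega) hF
    haveI : CharP F 2 := CharTwo.of_one_ne_zero_of_two_eq_zero one_ne_zero h2
    have hc : Nat.card L = Fintype.card F * (Fintype.card F ^ 2 - 1) := by
      rw [Nat.card_congr e.toEquiv, H25.SL2Card.card_PSL2_char_two]
    have h5 : N = Fintype.card F + 1 := by
      apply psl hp hp2 hN hF h4 (by rw [← hc]; exact hNL)
      have := hS n (by rw [hc, ← hF]; exact dvd_mul_right _ _)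
      rw [hF]; exact this
    rw [h5]
    exact exists_irr hn hF e
  · exfalso
    have hc : Nat.card L = (2 ^ (2 * m + 1)) ^ 2 * ((2 ^ (2 * m + 1)) ^ 2 + 1) * (2 ^ (2 * m + 1) - 1) := by
      rw [Nat.card_congr (e.trans (H24.SzIso.equiv hF hm).symm).toEquiv, H8.SuzGroup.card_Sz hm hF]
    apply sz hp hp2 hN rfl hm (by rw [← hc]; exact hNL)
    have := hS ((2 * m + 1) * 2) (by rw [hc, pow_mul, mul_assoc]; exact dvd_mul_right _ _)
    rw [pow_mul] at this
    exact this
  · exfalso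
    have h4 : 4 ≤ 2 ^ n := by
      calc 4 = 2 ^ 2 := by norm_num
        _ ≤ 2 ^ n := Nat.pow_le_pow_right (by norm_num) hn
    have h := Cfsg.Agent.S0280.result (F := F) (q := 2 ^ n) hF 3 (by norm_num)
    simp only [Finset.prod_range_succ, Finset.prod_range_zero] at h
    rw [if_pos (by decide), if_neg (by decide), if_pos (by decide)] at h
    rw [← Nat.card_congr e.toEquiv] at h
    have h' : Nat.gcd 3 (2 ^ n + 1) * ((2 ^ n + 1) * Nat.card L) =
        (2 ^ n) ^ 3 * ((2 ^ n + 1) * ((2 ^ n) ^ 2 - 1) * ((2 ^ n) ^ 3 + 1)) := by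
      rw [h]
      norm_num
    apply psu hp hp2 hN rfl h4 h' hNL
    have h6 : 2 ^ (n * 3) ∣ Nat.card L := by
      have h7 : 2 ^ (n * 3) ∣ Nat.gcd 3 (2 ^ n + 1) * ((2 ^ n + 1) * Nat.card L) := by
        rw [h', pow_mul]; exact dvd_mul_right _ _
      have hodd1 : Nat.Coprime (2 ^ (n * 3)) (2 ^ n + 1) := by
        apply Nat.Coprime.pow_left
        rw [Nat.coprime_two_left]
        have : Even (2 ^ n) := (Nat.even_pow.2 ⟨even_two, by omega⟩)
        exact this.add_one
      have hodd2 : Nat.Coprime (2 ^ (n * 3)) (Nat.gcd 3 (2 ^ n + 1)) :=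
        hodd1.coprime_dvd_right (Nat.gcd_dvd_right _ _)
      exact hodd1.dvd_of_dvd_mul_left (hodd2.dvd_of_dvd_mul_left h7)
    have := hS _ h6
    rw [pow_mul] at this
    exact this

end H38.DZ
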