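import Cfsg.Agent.Lib.H38.DZ2
import Cfsg.Agent.Lib.H38.DZ3
import Cfsg.Agent.Lib.H81.InvertMain
import Cfsg.Agent.Lib.H5.ZStar
import Cfsg.Agent.Lib.H5.Dihedral
import Cfsg.Agent.Lib.H37.QuadCore
import Cfsg.Agent.Lib.H38.BlkCyc6
import Cfsg.Agent.Lib.H1.Cores
import Cfsg.Agent.S0205

/-!
# Transitive groups of prime power degree in which centralizers of `p`-elements are odd (S4745)
-/

set_option autoImplicit false
set_option linter.unusedSectionVars false
set_option linter.unusedVariables false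
set_option linter.style.haveILetI false

namespace H38.DZ

open Cfsg Subgroup H81.DefectZero

universe u v

theorem concl_congr' {L : Type u} {G : Type v} [Group L] [Group G] (e : L ≃* G) (h : H16.BS.Concl L) :
    H16.BS.Concl G := by
  rcases h with ⟨F, iF, iFf, hn, ⟨f⟩⟩ | ⟨F, iF, iFf, m, hm, hc, ⟨f⟩⟩ | ⟨F, iF, iFf, n, hn, hc, ⟨f⟩⟩
  · exact Or.inl ⟨F, iF, iFf, hn, ⟨e.symm.trans f⟩⟩
  · exact Or.inr (Or.inl ⟨F, iF, iFf, m, hm, hc, ⟨e.symm.trans f⟩⟩)
  · exact Or.inr (Or.inr ⟨F, iF, iFf, n, hn, hc, ⟨e.symm.trans f⟩⟩)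

theorem exists_L {G : Type u} {Ω : Type v} [Group G] [Finite G] [MulAction G Ω] [FaithfulSMul G Ω]
    (B : H57.Bd.Bd G Ω) (hF : H16.BD.Four G) :
    ∃ L : Subgroup G, L.Normal ∧ Odd L.index ∧ H16.BS.Concl L := by
  have B' := H18.Bender.bender.{u, v} G Ω B hF
  obtain ⟨L, hL, hLo, hLc⟩ := H83.BdC.concl_of_beta H38.AbSol2.rankOne.{v, v} B'
  have hinj : Function.Injective (MulAction.toPermHom G Ω) := MulAction.toPerm_injective
  obtain ⟨e⟩ : Nonempty (G ≃* (MulAction.toPermHom G Ω).range) := ⟨MonoidHom.ofInjective hinj⟩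
  refine ⟨L.comap e.toMonoidHom, hL.comap _, ?_, ?_⟩
  · have h1 : (L.comap e.toMonoidHom).index = L.index := Subgroup.index_comap_of_surjective L e.surjective
    rw [h1]
    exact hLo
  · have e1 : L.comap e.toMonoidHom ≃* (L.comap e.toMonoidHom).map e.toMonoidHom := e.subgroupMap _
    have h1 : (L.comap e.toMonoidHom).map e.toMonoidHom = L :=
      Subgroup.map_comap_eq_self_of_surjective e.surjective L
    exact concl_congr' (e1.trans (MulEquiv.subgroupCongr h1)).symm hLc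

section

variable {G : Type u} [Group G] [Finite G] {p : ℕ} [hp : Fact p.Prime]

theorem dz_of_L (hp2 : p ≠ 2) (P : Sylow p G) {N : ℕ}
    (hcard : Nat.card (P : Subgroup G) = N)
    (hbd : ∀ S : Sylow 2 G, Nat.card (S : Subgroup G) + 1 ≤ N)
    {s : G} (hs2 : orderOf s = 2) (hs : ∀ x ∈ (P : Subgroup G), s * x * s⁻¹ = x⁻¹)
    {L : Subgroup G} (hL : L.Normal) (hLo : Odd L.index) (hLc : H16.BS.Concl L) : HasDZ p G := by
  haveI : Fact (Nat.Prime 2) := ⟨Nat.prime_two⟩
  have hsL : s ∈ L := by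
    rw [← QuotientGroup.eq_one_iff]
    have h1 : ((s : G ⧸ L)) ^ 2 = 1 := by
      rw [← QuotientGroup.mk_pow, ← hs2, pow_orderOf_eq_one, QuotientGroup.mk_one]
    have h2 : orderOf (s : G ⧸ L) ∣ 2 := orderOf_dvd_of_pow_eq_one h1
    have h3 : orderOf (s : G ⧸ L) ∣ L.index := orderOf_dvd_natCard _
    rcases (Nat.dvd_prime Nat.prime_two).1 h2 with h4 | h4
    · exact orderOf_eq_one_iff.1 h4
    · exfalso
      rw [h4, ← even_iff_two_dvd] at h3
      exact (Nat.not_even_iff_odd.2 hLo) h3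
  have hPL : (P : Subgroup G) ≤ L := by
    intro x hx
    obtain ⟨y, hy, hyx⟩ := exists_sqrt hp2 P hx
    have h1 : x = (y * s * y⁻¹) * s⁻¹ := by
      have h2 := hs y hy
      have h3 : y = (s * y * s⁻¹)⁻¹ := by rw [h2, inv_inv]
      rw [← hyx]
      nth_rw 2 [h3]
      group
    rw [h1]
    exact mul_mem (hL.conj_mem s hsL y) (inv_mem hsL)
  have hNL : N ∣ Nat.card L := by rw [← hcard]; exact Subgroup.card_dvd_of_le hPL
  have hN : N = p ^ (Nat.card G).factorization p := by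
    rw [← hcard]; exact P.card_eq_multiplicity
  obtain ⟨θ, hθ⟩ := concl_cases hLc hp.out hp2 hN hNL (by
    intro m hm
    have h1 : 2 ^ m ∣ Nat.card G := hm.trans (Subgroup.card_subgroup_dvd_card L)
    let S : Sylow 2 G := default
    have h2 := S.pow_dvd_card_of_pow_dvd_card h1
    have h3 := Nat.le_of_dvd Nat.card_pos h2
    have h4 := hbd S
    exact (Nat.add_le_add_right h3 1).trans h4)
  obtain ⟨χ, hχ⟩ := H82.Cliff.exists_liesOver L θ
  have h5 := H82.Cliff.degree_dvd_of_liesOver' L χ θ hχ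
  rw [hθ, hN] at h5
  exact hasDZ_of_dvd hp.out h5

theorem isoInv_of_not_four (hF : ¬ H16.BD.Four G) {s : G} (hs2 : orderOf s = 2) :
    H5.ZStar1.IsoInv s := by
  refine ⟨hs2, fun g => ?_⟩
  rw [← Nat.not_even_iff_odd]
  intro heven
  have ht2 : orderOf (g * s * g⁻¹) = 2 := by rw [H5.Dihedral.orderOf_conj]; exact hs2
  have hss := H5.Dihedral.mul_self hs2
  have htt := H5.Dihedral.mul_self ht2
  obtain ⟨h1, h2, h3⟩ := H5.Dihedral.central_pow hss htt (orderOf_pos _).ne' heven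
  by_cases h4 : (s * (g * s * g⁻¹)) ^ (orderOf (s * (g * s * g⁻¹)) / 2) = s
  · rw [h4] at h3
    apply hF
    refine ⟨s, g * s * g⁻¹, ?_, hs2, ht2, h3⟩
    intro h5
    rw [← h5, hss, orderOf_one] at heven
    exact absurd heven (by decide)
  · exact hF ⟨_, s, h4, h1, hs2, h2⟩

theorem pPrimeCore_eq_bot {Ω : Type v} [MulAction G Ω] [FaithfulSMul G Ω] [Finite Ω]
    (htr : MulAction.IsPretransitive G Ω) {r : ℕ} (hΩ : Nat.card Ω = p ^ r) :
    pPrimeCore p G = ⊥ := by
  set K := pPrimeCore p G with hK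
  have hc : (Nat.card K).Coprime p := H1.Cores.coprime_card_pPrimeCore p
  haveI : K.Normal := by
    haveI := H1.Cores.pPrimeCore_characteristic (G := G) p
    rw [hK]; infer_instance
  rw [eq_bot_iff]
  intro x hx
  rw [Subgroup.mem_bot]
  apply FaithfulSMul.eq_of_smul_eq_smul (α := Ω)
  intro a
  rw [one_smul]
  have hb : MulAction.IsBlock G (MulAction.orbit K a) := MulAction.IsBlock.orbit_of_normal a
  have h1 : (MulAction.orbit K a).ncard ∣ Nat.card Ω := hb.ncard_dvd_card ⟨a, MulAction.mem_orbit_self a⟩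
  have h2 : (MulAction.orbit K a).ncard ∣ Nat.card K := by
    rw [← MulAction.index_stabilizer]
    exact Subgroup.index_dvd_card _
  rw [hΩ] at h1
  have h3 : Nat.Coprime (Nat.card K) (p ^ r) := Nat.Coprime.pow_right r hc
  have h4 : (MulAction.orbit K a).ncard = 1 := Nat.eq_one_of_dvd_coprimes h3 h2 h1
  obtain ⟨b, hb'⟩ := Set.ncard_eq_one.1 h4
  have h5 : a ∈ MulAction.orbit K a := MulAction.mem_orbit_self a
  have h6 : x • a ∈ MulAction.orbit K a := ⟨⟨x, hx⟩, rfl⟩
  rw [hb'] at h5 h6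
  rw [Set.mem_singleton_iff] at h5 h6
  rw [h6, h5]

theorem psolv_of_not_four (hp2 : p ≠ 2) (P : Sylow p G) (hbot : pPrimeCore p G = ⊥)
    {s : G} (hs2 : orderOf s = 2) (hs : ∀ x ∈ (P : Subgroup G), s * x * s⁻¹ = x⁻¹)
    (hab : ∀ x ∈ (P : Subgroup G), ∀ y ∈ (P : Subgroup G), x * y = y * x)
    (hF : ¬ H16.BD.Four G) : IsPSolvable p G := by
  have hiso := isoInv_of_not_four hF hs2
  set N := pPrimeCore 2 G with hN
  haveI hNn : N.Normal := by
    haveI := H1.Cores.pPrimeCore_characteristic (G := G) 2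
    rw [hN]; infer_instance
  have hNo : Odd (Nat.card N) := by
    rw [← Nat.coprime_two_left, Nat.coprime_comm]
    exact H1.Cores.coprime_card_pPrimeCore 2
  have hsinv : s⁻¹ = s := H5.Dihedral.inv_eq_self hs2
  have hPN : (P : Subgroup G) ≤ N := by
    intro x hx
    obtain ⟨y, hy, hyx⟩ := exists_sqrt hp2 P hx
    have h1 := H5.ZStar.zstar hiso y
    have h2 : s * (y * s * y⁻¹) = x⁻¹ := by
      calc s * (y * s * y⁻¹) = (s * y * s⁻¹) * y⁻¹ := by rw [hsinv]; group
        _ = y⁻¹ * y⁻¹ := by rw [hs y hy]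
        _ = x⁻¹ := by rw [← hyx, mul_inv_rev]
    rw [h2] at h1
    exact (Subgroup.inv_mem_iff _).1 h1
  have hsol : Group.IsSolvable N := Cfsg.Agent.S0205.result hNo
  have hps : IsPSolvable p N := H37.QuadCore.isPSolvable_of_isSolvable p _ N hsol rfl
  have hbotN : pPrimeCore p N = ⊥ := by
    rw [← H1.Cores.subgroupOf_pPrimeCore, hbot, Subgroup.bot_subgroupOf]
  have hcent := H37.PSolv.centralizer_pCore_le hps hbotN
  have hPO : (P : Subgroup G) ≤ pCore p G := by
    intro x hx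
    have h1 : (⟨x, hPN hx⟩ : N) ∈ centralizer (pCore p N : Set N) := by
      rw [Subgroup.mem_centralizer_iff]
      intro z hz
      have h2 : (z : G) ∈ (pCore p N).map N.subtype := ⟨z, hz, rfl⟩
      rw [H1.Cores.map_subtype_pCore] at h2
      have h3 : (z : G) ∈ (P : Subgroup G) := H1.Cores.pCore_le_sylow P h2.2
      apply Subtype.ext
      exact hab _ h3 _ hx
    have h4 : x ∈ (pCore p N).map N.subtype := ⟨⟨x, hPN hx⟩, hcent h1, rfl⟩
    rw [H1.Cores.map_subtype_pCore] at h4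
    exact h4.2
  have heq : (P : Subgroup G) = pCore p G := le_antisymm hPO (H1.Cores.pCore_le_sylow P)
  apply H38.BlkCyc.isPSolvable_of_normal (pCore p G)
  · rw [← heq]
    exact IsPGroup.iff_card.1 P.2
  · rw [← heq, Nat.coprime_comm]
    exact (hp.out.coprime_iff_not_dvd).2 P.not_dvd_index

end

theorem main {G : Type u} {Ω : Type v} [Group G] [Finite G] [MulAction G Ω] [FaithfulSMul G Ω]
    [Finite Ω] (htr : MulAction.IsPretransitive G Ω) (p : ℕ) [hp : Fact p.Prime] (hp2 : p ≠ 2)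
    (h2G : 2 ∣ Nat.card G)
    (hC : ∀ g : G, g ≠ 1 → (∃ k : ℕ, orderOf g = p ^ k) →
      Odd (Nat.card ↥(Subgroup.centralizer ({g} : Set G))))
    (r : ℕ) (hr : 1 ≤ r) (hΩ : Nat.card Ω = p ^ r) (hno : ¬ HasDZ p G) : IsPSolvable p G := by
  haveI : Fact (Nat.Prime 2) := ⟨Nat.prime_two⟩
  have h1Ω : 1 < Nat.card Ω := by
    rw [hΩ]; exact Nat.one_lt_pow (by omega) hp.out.one_lt
  have hoddΩ : Odd (Nat.card Ω) := by
    rw [hΩ]; exact (hp.out.odd_of_ne_two hp2).pow
  haveI : Nontrivial Ω := Finite.one_lt_card_iff_nontrivial.1 h1Ω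
  obtain ⟨t, ht⟩ := exists_prime_orderOf_dvd_card' 2 h2G
  let P : Sylow p G := default
  obtain ⟨s, hst, hsP⟩ := H81.InvertMain.exists_conj_inverting hC hno ht P
  have hs2 : orderOf s = 2 := by
    obtain ⟨c, hc⟩ := isConj_iff.1 hst
    rw [← hc, H5.Dihedral.orderOf_conj]; exact ht
  have hsP' : ∀ x ∈ (P : Subgroup G), s * x * s⁻¹ = x⁻¹ := hsP
  have hcomm := H81.InvertMain.isMulCommutative_of_inverted (s := s) hsP'
  have hab : ∀ x ∈ (P : Subgroup G), ∀ y ∈ (P : Subgroup G), x * y = y * x := by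
    intro x hx y hy
    exact congrArg Subtype.val (hcomm.is_comm.comm (⟨x, hx⟩ : (P : Subgroup G)) ⟨y, hy⟩)
  have htrP := sylow_trans htr hΩ P
  have hfix : ∀ t : G, orderOf t = 2 → ∃ a : Ω, t • a = a ∧ ∀ b : Ω, t • b = b → b = a := by
    intro t' ht'
    obtain ⟨s', hst', hsP''⟩ := H81.InvertMain.exists_conj_inverting hC hno ht' P
    exact fix_conj hst' (fix_inv hp2 P htrP hab hsP'')
  have hcard := card_eq P htrP hab
  by_cases hF : H16.BD.Four G
  · exfalso
    have B : H57.Bd.Bd G Ω :=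
      { trans := fun a b => by
          obtain ⟨x, -, hx⟩ := htrP a b
          exact ⟨x, hx⟩
        uniq := hfix
        inv := ⟨t, ht⟩
        two := by
          obtain ⟨a, b, h⟩ := exists_pair_ne Ω
          exact ⟨a, b, h⟩ }
    obtain ⟨L, hL, hLo, hLc⟩ := exists_L B hF
    exact hno (dz_of_L hp2 P hcard (fun S => card_sylow_two hoddΩ h1Ω hfix S) hs2 hsP' hL hLo hLc)
  · exact psolv_of_not_four hp2 P (pPrimeCore_eq_bot htr hΩ) hs2 hsP' hab hF

end H38.DZ
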