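import Mathlib
import Cfsg.Prelude.Def_Solvable
import Cfsg.Agent.Lib.H1.Cores
import Cfsg.Agent.Lib.H1.Solv
import Cfsg.Agent.Lib.H4.Burnside

/-!
S5490, piece L (for helper35): a class of 3-transpositions without commuting pairs, order `2^a 3^b`.
-/

set_option autoImplicit false
set_option linter.unusedSectionVars false

open Cfsg Subgroup

namespace H38.F23L

theorem three_class {S : Type*} [Group S] [Finite S] {T : Set S} (hgen : Subgroup.closure T = ⊤)
    (hst : ∀ g : S, ∀ c ∈ T, g * c * g⁻¹ ∈ T) (h2 : ∀ c ∈ T, c * c = 1)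
    (hT : ∀ c ∈ T, ∀ d ∈ T, c ≠ d → (c * d) ^ 3 = 1 ∧ ¬ Commute c d) {a b : ℕ}
    (hS : Nat.card S = 2 ^ a * 3 ^ b) {d : S} (hd : d ∈ T) : ∀ c ∈ T, c * d ∈ Cfsg.pCore 3 S := by
  have f3 : Fact (Nat.Prime 3) := ⟨Nat.prime_three⟩
  set Q := pCore 3 S with hQ
  have hbot : pCore 3 (S ⧸ Q) = ⊥ := H1.Cores.pCore_quotient_pCore 3
  let π := QuotientGroup.mk' Q
  have hsolS : Group.IsSolvable S :=
    H4.Burnside.isSolvable_of_card_eq 2 3 Nat.prime_two Nat.prime_three _ S rfl ⟨a, b, hS⟩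
  have hsol : Group.IsSolvable (S ⧸ Q) := Group.isSolvable_of_surjective (f := π) (QuotientGroup.mk'_surjective Q)
  have cop : ∀ (x : S ⧸ Q) (k : ℕ), x ^ 3 = 1 → x ^ 2 ^ k = 1 → x = 1 := by
    intro x k h3 h4
    have h5 : orderOf x ∣ Nat.gcd (2 ^ k) 3 :=
      Nat.dvd_gcd (orderOf_dvd_of_pow_eq_one h4) (orderOf_dvd_of_pow_eq_one h3)
    have h6 : Nat.gcd (2 ^ k) 3 = 1 := Nat.Coprime.pow_left k (by norm_num)
    rw [h6] at h5
    exact orderOf_eq_one_iff.1 (Nat.dvd_one.1 h5)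
  -- T centralizes O_2
  have hA : ∀ v ∈ pCore 2 (S ⧸ Q), ∀ e ∈ T, π e * v = v * π e := by
    intro v hv e he
    obtain ⟨w, rfl⟩ := QuotientGroup.mk'_surjective Q v
    have he2 : π e * π e = 1 := by rw [← map_mul, h2 e he, map_one]
    have hei : (π e)⁻¹ = π e := inv_eq_of_mul_eq_one_left he2
    have hmem : π w * π e * (π w)⁻¹ * π e ∈ pCore 2 (S ⧸ Q) := by
      have h3 : π w * π e * (π w)⁻¹ * π e = π w * (π e * (π w)⁻¹ * (π e)⁻¹) := by
        rw [hei]; group
      rw [h3]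
      exact mul_mem hv (Subgroup.Normal.conj_mem inferInstance _ (inv_mem hv) _)
    have hone : π w * π e * (π w)⁻¹ * π e = 1 := by
      by_cases heq : w * e * w⁻¹ = e
      · have h3 : π w * π e * (π w)⁻¹ = π e := by
          rw [← map_inv, ← map_mul, ← map_mul, heq]
        rw [h3, he2]
      · have h3 := (hT _ (hst w e he) e he heq).1
        have h4 : (π w * π e * (π w)⁻¹ * π e) ^ 3 = 1 := by
          rw [← map_inv, ← map_mul, ← map_mul, ← map_mul, ← map_pow, h3, map_one]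
        obtain ⟨k, hk⟩ := H1.Cores.isPGroup_pCore 2 ⟨_, hmem⟩
        exact cop _ k h4 (congrArg Subtype.val hk)
    have h5 : π w * π e * (π w)⁻¹ = π e := by
      rw [mul_eq_one_iff_eq_inv, hei] at hone
      exact hone
    exact (mul_inv_eq_iff_eq_mul.1 h5).symm
  have hB : pCore 2 (S ⧸ Q) ≤ center (S ⧸ Q) := by
    intro v hv
    rw [Subgroup.mem_center_iff]
    intro g
    obtain ⟨x, rfl⟩ := QuotientGroup.mk'_surjective Q g
    have hle : Subgroup.closure T ≤ (centralizer ({v} : Set (S ⧸ Q))).comap π := by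
      rw [Subgroup.closure_le]
      intro e he
      exact Subgroup.mem_centralizer_singleton_iff.2 (hA v hv e he)
    have hx : x ∈ Subgroup.closure T := by rw [hgen]; exact Subgroup.mem_top x
    exact Subgroup.mem_centralizer_singleton_iff.1 (hle hx)
  have hcard : Nat.card (S ⧸ Q) ∣ 2 ^ a * 3 ^ b := by
    rw [← hS]
    exact Dvd.intro _ (Subgroup.card_eq_card_quotient_mul_card_subgroup Q).symm
  have hC : ∀ p : Nat.Primes, pCore (p : ℕ) (S ⧸ Q) ≤ center (S ⧸ Q) := by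
    intro p
    by_cases hp2 : (p : ℕ) = 2
    · rw [hp2]; exact hB
    by_cases hp3 : (p : ℕ) = 3
    · rw [hp3, hbot]; exact bot_le
    have hfp : Fact (p : ℕ).Prime := ⟨p.2⟩
    have h3 : pCore (p : ℕ) (S ⧸ Q) = ⊥ := by
      obtain ⟨n, hn⟩ := IsPGroup.iff_card.1 (H1.Cores.isPGroup_pCore (G := S ⧸ Q) (p : ℕ))
      have h4 : (p : ℕ) ^ n ∣ 2 ^ a * 3 ^ b := by
        rw [← hn]; exact (Subgroup.card_subgroup_dvd_card _).trans hcard
      have h5 : Nat.Coprime ((p : ℕ) ^ n) (2 ^ a * 3 ^ b) := by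
        apply Nat.Coprime.pow_left
        apply Nat.Coprime.mul_right
        · exact Nat.Coprime.pow_right _ ((Nat.coprime_primes p.2 Nat.prime_two).2 hp2)
        · exact Nat.Coprime.pow_right _ ((Nat.coprime_primes p.2 Nat.prime_three).2 hp3)
      have h6 : (p : ℕ) ^ n = 1 := Nat.eq_one_of_dvd_coprimes h5 dvd_rfl h4
      rw [h6] at hn
      exact Subgroup.card_eq_one.1 hn
    rw [h3]; exact bot_le
  have hF : fittingSubgroup (S ⧸ Q) ≤ center (S ⧸ Q) := by
    rw [H1.Cores.fittingSubgroup_eq_iSup_pCore]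
    exact iSup_le hC
  have hcent : centralizer (fittingSubgroup (S ⧸ Q) : Set (S ⧸ Q)) = ⊤ := by
    rw [eq_top_iff]
    intro g _
    rw [Subgroup.mem_centralizer_iff]
    intro x hx
    exact (Subgroup.mem_center_iff.1 (hF hx) g).symm
  have htop : ∀ g : S ⧸ Q, g ∈ center (S ⧸ Q) := by
    intro g
    apply hF
    apply H1.Solv.centralizer_fitting_le hsol
    rw [hcent]; exact Subgroup.mem_top g
  intro c hc
  by_cases hcd : c = d
  · rw [hcd, h2 d hd]; exact one_mem _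
  · have h3 := (hT c hc d hd hcd).1
    rw [← QuotientGroup.eq_one_iff (N := Q)]
    show π (c * d) = 1
    have h4 : π (c * d) ^ 3 = 1 := by rw [← map_pow, h3, map_one]
    have h5 : π (c * d) ^ 2 ^ 1 = 1 := by
      have h6 := Subgroup.mem_center_iff.1 (htop (π c)) (π d)
      rw [pow_one, map_mul, (show Commute (π c) (π d) from h6.symm).mul_pow, pow_two, pow_two,
        ← map_mul, ← map_mul, h2 c hc, h2 d hd, map_one, one_mul]
    exact cop _ 1 h4 h5

end H38.F23L
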