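import Mathlib.GroupTheory.Sylow
import Mathlib.GroupTheory.GroupAction.Basic
import Mathlib.GroupTheory.Perm.Cycle.Type
import Mathlib.GroupTheory.Subgroup.Centralizer
import Mathlib.GroupTheory.Index
import Mathlib.Tactic

set_option autoImplicit false

/-! Involutions with a unique fixed point. -/

namespace H38.Involution

open Function

/-- the parity of a finite set with an involution having exactly one fixed point -/
theorem odd_of_unique_fixed {α : Type*} [Finite α] (f : α → α) (hf : Involutive f) (a : α) (ha : f a = a)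
    (hu : ∀ b, f b = b → b = a) : Odd (Nat.card α) := by
  classical
  have := Fintype.ofFinite α
  have : Fact (Nat.Prime 2) := ⟨Nat.prime_two⟩
  let F : Function.End α := f
  have hF : F ^ 2 ^ 1 = 1 := by
    rw [pow_one, pow_two]; funext b; exact hf b
  have h2 := Equiv.Perm.card_fixedPoints_modEq (f := F) (p := 2) (n := 1) hF
  have h3 : Fintype.card (Function.fixedPoints f) = 1 := by
    rw [Fintype.card_eq_one_iff]
    exact ⟨⟨a, ha⟩, fun b => Subtype.ext (hu b.1 b.2)⟩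
  have h4 : Fintype.card α ≡ 1 [MOD 2] := by
    rw [← h3]
    refine h2.trans ?_
    convert Nat.ModEq.refl _
  rw [Nat.card_eq_fintype_card, Nat.odd_iff]
  exact h4

/-- two elements of odd order with the same square are equal -/
theorem eq_of_sq_eq {G : Type*} [Group G] {a b : G} (ha : Odd (orderOf a)) (hb : Odd (orderOf b))
    (h : a ^ 2 = b ^ 2) : a = b := by
  obtain ⟨k, hk⟩ := ha.mul hb
  have h1 : ∀ x : G, x ^ (orderOf a * orderOf b) = 1 → x = (x ^ 2) ^ (k + 1) := by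
    intro x hx
    rw [hk] at hx
    rw [← pow_mul, show 2 * (k + 1) = (2 * k + 1) + 1 from by ring, pow_succ, hx, one_mul]
  rw [h1 a (by rw [pow_mul, pow_orderOf_eq_one, one_pow]),
    h1 b (by rw [mul_comm, pow_mul, pow_orderOf_eq_one, one_pow]), h]

section dihedral
variable {G : Type*} [Group G] {x y r : G}

theorem inv_pow_mul (h : x * r * x⁻¹ = r⁻¹) (i : ℕ) : (r ^ i)⁻¹ * x = x * r ^ i := by
  have h1 : x * r ^ i * x⁻¹ = (r ^ i)⁻¹ := by rw [← conj_pow, h, inv_pow]
  rw [← h1]; group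

/-- the reflections `x r^(2i)` are conjugate to `x` -/
theorem isConj_even (h : x * r * x⁻¹ = r⁻¹) (i : ℕ) : IsConj x (x * r ^ (2 * i)) := by
  rw [isConj_iff]
  refine ⟨(r ^ i)⁻¹, ?_⟩
  rw [inv_inv, inv_pow_mul h, mul_assoc, ← pow_add, two_mul]

theorem inverts (hx : x * x = 1) (hy : y * y = 1) : x * (x * y) * x⁻¹ = (x * y)⁻¹ := by
  have hx' : x⁻¹ = x := inv_eq_of_mul_eq_one_left hx
  have hy' : y⁻¹ = y := inv_eq_of_mul_eq_one_left hy
  rw [mul_inv_rev, hx', hy', ← mul_assoc, hx, one_mul]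

theorem inverts' (hx : x * x = 1) (hy : y * y = 1) : y * (x * y) * y⁻¹ = (x * y)⁻¹ := by
  have hx' : x⁻¹ = x := inv_eq_of_mul_eq_one_left hx
  have hy' : y⁻¹ = y := inv_eq_of_mul_eq_one_left hy
  rw [mul_inv_rev, hx', hy', mul_assoc, mul_assoc, hy, mul_one]

/-- every reflection `x r^m` with `r = x y` is conjugate to `x` or to `y` -/
theorem isConj_or (hx : x * x = 1) (hy : y * y = 1) (m : ℕ) :
    IsConj x (x * (x * y) ^ m) ∨ IsConj y (x * (x * y) ^ m) := by
  rcases Nat.even_or_odd' m with ⟨k, rfl | rfl⟩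
  · exact Or.inl (isConj_even (inverts hx hy) k)
  · right
    have h1 : x * (x * y) ^ (2 * k + 1) = y * (x * y) ^ (2 * k) := by
      rw [pow_succ', ← mul_assoc, ← mul_assoc, hx, one_mul]
    rw [h1]
    exact isConj_even (inverts' hx hy) k
end dihedral

section main
variable {G Ω : Type*} [Group G] [MulAction G Ω] {z : G} {o : Ω}

theorem fixes_iff (h0 : ∀ ω : Ω, z • ω = ω ↔ ω = o) (g : G) (ω : Ω) : (g * z * g⁻¹) • ω = ω ↔ ω = g • o := by
  rw [mul_smul, mul_smul, smul_eq_iff_eq_inv_smul, h0, inv_smul_eq_iff]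

theorem uniq (h0 : ∀ ω : Ω, z • ω = ω ↔ ω = o) {x : G} (hx : IsConj z x) {ω ω' : Ω} (h : x • ω = ω)
    (h' : x • ω' = ω') : ω = ω' := by
  obtain ⟨g, rfl⟩ := isConj_iff.1 hx
  rw [fixes_iff h0] at h h'
  rw [h, h']

theorem exist (h0 : ∀ ω : Ω, z • ω = ω ↔ ω = o) {x : G} (hx : IsConj z x) : ∃ ω : Ω, x • ω = ω := by
  obtain ⟨g, rfl⟩ := isConj_iff.1 hx
  exact ⟨g • o, (fixes_iff h0 g _).2 rfl⟩

/-- the product condition for an arbitrary pair of distinct commuting conjugates -/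
theorem prod_uniq (h0 : ∀ ω : Ω, z • ω = ω ↔ ω = o)
    (h1 : ∀ t, IsConj z t → t ≠ z → t * z = z * t → ∀ ω : Ω, (z * t) • ω = ω → ω = o)
    {x y : G} (hx : IsConj z x) (hy : IsConj z y) (hxy : y ≠ x) (hc : y * x = x * y) {ω ω' : Ω}
    (h : (x * y) • ω = ω) (h' : (x * y) • ω' = ω') : ω = ω' := by
  obtain ⟨g, rfl⟩ := isConj_iff.1 hx
  have key : ∀ ω : Ω, (g * z * g⁻¹ * y) • ω = ω → ω = g • o := by
    intro ω hω
    have h2 := h1 (g⁻¹ * y * g) (hy.trans (isConj_iff.2 ⟨g⁻¹, by rw [inv_inv]⟩)) (by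
      intro h; apply hxy; rw [← h]; group) (by
      calc g⁻¹ * y * g * z = g⁻¹ * (y * (g * z * g⁻¹)) * g := by group
        _ = g⁻¹ * (g * z * g⁻¹ * y) * g := by rw [hc]
        _ = _ := by group) (g⁻¹ • ω) (by
      have e : z * (g⁻¹ * y * g) = g⁻¹ * (g * z * g⁻¹ * y) * g := by group
      rw [e, mul_smul, smul_inv_smul, mul_smul, hω])
    rw [← h2, smul_inv_smul]
  rw [key ω h, key ω' h']

theorem odd_order (hz : z * z = 1) (h0 : ∀ ω : Ω, z • ω = ω ↔ ω = o)
    (h1 : ∀ t, IsConj z t → t ≠ z → t * z = z * t → ∀ ω : Ω, (z * t) • ω = ω → ω = o)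
    {x y : G} (hfin : IsOfFinOrder (x * y)) (hx : IsConj z x) (hy : IsConj z y) {ω ω' : Ω}
    (h : x • ω = ω) (h' : y • ω' = ω') (hne : ω ≠ ω') : Odd (orderOf (x * y)) := by
  by_contra hodd
  rw [Nat.not_odd_iff_even] at hodd
  obtain ⟨m, hm⟩ := hodd
  have hx2 : x * x = 1 := by
    obtain ⟨g, rfl⟩ := isConj_iff.1 hx
    calc g * z * g⁻¹ * (g * z * g⁻¹) = g * (z * z) * g⁻¹ := by group
      _ = 1 := by rw [hz]; group
  have hy2 : y * y = 1 := by
    obtain ⟨g, rfl⟩ := isConj_iff.1 hy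
    calc g * z * g⁻¹ * (g * z * g⁻¹) = g * (z * z) * g⁻¹ := by group
      _ = 1 := by rw [hz]; group
  have hpos : 0 < orderOf (x * y) := hfin.orderOf_pos
  set v := (x * y) ^ m with hv
  have hv1 : v ≠ 1 := by
    intro hv1
    have := Nat.le_of_dvd (by omega) (orderOf_dvd_of_pow_eq_one hv1)
    omega
  have hv2 : v * v = 1 := by
    rw [hv, ← pow_add, ← hm, pow_orderOf_eq_one]
  have hvi : v⁻¹ = v := inv_eq_of_mul_eq_one_left hv2
  have hxv : v * x = x * v := by
    have := inv_pow_mul (inverts hx2 hy2) m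
    rw [← hv, hvi] at this
    exact this
  have hyv : v * y = y * v := by
    have := inv_pow_mul (inverts' hx2 hy2) m
    rw [← hv, hvi] at this
    exact this
  have hconj : IsConj z (x * v) := by
    rcases isConj_or hx2 hy2 m with h2 | h2
    · exact hx.trans h2
    · exact hy.trans h2
  have hv3 : x * (x * v) = v := by rw [← mul_assoc, hx2, one_mul]
  have key : ∀ ω ω' : Ω, v • ω = ω → v • ω' = ω' → ω = ω' := by
    intro a b ha hb
    refine prod_uniq h0 h1 hx hconj (fun h => hv1 ?_) (by rw [hv3, mul_assoc, hxv, ← mul_assoc, hx2, one_mul]) (ω := a) (ω' := b) ?_ ?_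
    · simpa using h
    · rw [hv3]; exact ha
    · rw [hv3]; exact hb
  apply hne
  apply key
  · apply uniq h0 hx _ h
    rw [← mul_smul, ← hxv, mul_smul, h]
  · apply uniq h0 hy _ h'
    rw [← mul_smul, ← hyv, mul_smul, h']

/-- the swapping conjugates between two points -/
theorem card_swap [Finite G] (hz : z * z = 1) (h0 : ∀ ω : Ω, z • ω = ω ↔ ω = o)
    (h1 : ∀ t, IsConj z t → t ≠ z → t * z = z * t → ∀ ω : Ω, (z * t) • ω = ω → ω = o)
    {a : Ω} (ha : a ≠ o) :
    Nat.card {j : G // IsConj z j ∧ j • o = a} = Nat.card {y : G // IsConj z y ∧ y • a = a} := by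
  have hsq : ∀ x : G, IsConj z x → x * x = 1 := by
    intro x hx
    obtain ⟨g, rfl⟩ := isConj_iff.1 hx
    calc g * z * g⁻¹ * (g * z * g⁻¹) = g * (z * z) * g⁻¹ := by group
      _ = 1 := by rw [hz]; group
  have hzo : z • o = o := (h0 o).2 rfl
  have hodd : ∀ y : G, IsConj z y → y • o ≠ o → Odd (orderOf (z * y)) := by
    intro y hy hyo
    obtain ⟨ω, hω⟩ := exist h0 hy
    refine odd_order hz h0 h1 (isOfFinOrder_of_finite _) (IsConj.refl z) hy hzo hω ?_
    rintro rfl; exact hyo hω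
  refine Nat.card_congr (Equiv.ofBijective (fun j => ⟨j.1 * z * j.1⁻¹, ⟨isConj_iff.2 ⟨j.1, rfl⟩, ?_⟩⟩) ⟨?_, ?_⟩)
  · rw [fixes_iff h0]; exact j.2.2.symm
  · rintro ⟨j, hj, hjo⟩ ⟨j', hj', hjo'⟩ h
    have h : j * z * j⁻¹ = j' * z * j'⁻¹ := congrArg Subtype.val h
    have ej : j⁻¹ = j := inv_eq_of_mul_eq_one_left (hsq j hj)
    have ej' : j'⁻¹ = j' := inv_eq_of_mul_eq_one_left (hsq j' hj')
    rw [ej, ej'] at h
    have h2 : z * j = z * j' := by
      apply eq_of_sq_eq
      · exact hodd j hj (by rw [hjo]; exact ha)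
      · exact hodd j' hj' (by rw [hjo']; exact ha)
      · rw [pow_two, pow_two]
        calc z * j * (z * j) = z * (j * z * j) := by group
          _ = z * (j' * z * j') := by rw [h]
          _ = _ := by group
    exact Subtype.ext (mul_left_cancel h2)
  · rintro ⟨y, hy, hya⟩
    have hyo : y • o ≠ o := fun h => ha (uniq h0 hy hya h)
    obtain ⟨k, hk⟩ := hodd y hy hyo
    have hr : (z * y) ^ (2 * k + 1) = 1 := by rw [← hk, pow_orderOf_eq_one]
    have hinv := inverts hz (hsq y hy)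
    set r := z * y with hrdef
    -- `j = z r^(k+1)`
    have hj : IsConj z (z * r ^ (k + 1)) := by
      have h2 : r ^ (k + 1) = r ^ (2 * ((k + 1) * (k + 1))) := by
        have : 2 * ((k + 1) * (k + 1)) = (2 * k + 1) * (k + 1) + (k + 1) := by ring
        conv_rhs => rw [this, pow_add, pow_mul, hr, one_pow, one_mul]
      rw [h2]
      exact isConj_even hinv _
    set j := z * r ^ (k + 1) with hjdef
    have hjj : j⁻¹ = j := inv_eq_of_mul_eq_one_left (hsq j hj)
    have hjzj : j * z * j⁻¹ = y := by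
      have e1 : z * (j * z * j) = z * y := by
        have h3 : z * (j * z * j) = (z * j) * (z * j) := by group
        have h4 : z * j = r ^ (k + 1) := by rw [hjdef, ← mul_assoc, hz, one_mul]
        rw [h3, h4, ← pow_add, show k + 1 + (k + 1) = (2 * k + 1) + 1 from by ring, pow_succ, hr, one_mul]
      rw [hjj]; exact mul_left_cancel e1
    refine ⟨⟨j, hj, ?_⟩, Subtype.ext hjzj⟩
    have h3 : (j * z * j⁻¹) • a = a := by rw [hjzj]; exact hya
    exact ((fixes_iff h0 j a).1 h3).symm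

theorem odd_swap [Finite G] (hz : z * z = 1) (h0 : ∀ ω : Ω, z • ω = ω ↔ ω = o)
    (h1 : ∀ t, IsConj z t → t ≠ z → t * z = z * t → ∀ ω : Ω, (z * t) • ω = ω → ω = o)
    {a : Ω} (ha : a ≠ o) (hne : ∃ j : G, IsConj z j ∧ j • o = a) :
    Odd (Nat.card {j : G // IsConj z j ∧ j • o = a}) := by
  have hsq : ∀ x : G, IsConj z x → x * x = 1 := by
    intro x hx
    obtain ⟨g, rfl⟩ := isConj_iff.1 hx
    calc g * z * g⁻¹ * (g * z * g⁻¹) = g * (z * z) * g⁻¹ := by group
      _ = 1 := by rw [hz]; group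
  obtain ⟨j, hj, hjo⟩ := hne
  have hjj : j * j = 1 := hsq j hj
  have hji : j⁻¹ = j := inv_eq_of_mul_eq_one_left hjj
  have hja : j • a = o := by rw [← hjo, ← mul_smul, hjj, one_smul]
  refine odd_of_unique_fixed (fun i => ⟨j * i.1 * j⁻¹, i.2.1.trans (isConj_iff.2 ⟨j, rfl⟩), ?_⟩) ?_ ⟨j, hj, hjo⟩ ?_ ?_
  · have hi : i.1 • a = o := by
      have h3 : i.1 • i.1 • o = o := by rw [← mul_smul, hsq i.1 i.2.1, one_smul]
      rw [i.2.2] at h3; exact h3
    rw [hji, mul_smul, mul_smul, hjo, hi, hjo]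
  · rintro ⟨i, hi⟩
    apply Subtype.ext
    show j * (j * i * j⁻¹) * j⁻¹ = i
    rw [hji]
    calc j * (j * i * j) * j = (j * j) * i * (j * j) := by group
      _ = i := by rw [hjj, one_mul, mul_one]
  · apply Subtype.ext
    show j * j * j⁻¹ = j
    group
  · rintro ⟨i, hi, hio⟩ h
    have h : j * i * j⁻¹ = i := congrArg Subtype.val h
    apply Subtype.ext
    show i = j
    by_contra hne
    have hc : i * j = j * i := by
      conv_lhs => rw [← h]
      group
    have hia : i • a = o := by rw [← hio, ← mul_smul, hsq i hi, one_smul]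
    apply ha
    refine (prod_uniq h0 h1 hj hi hne hc (ω := o) (ω' := a) ?_ ?_).symm
    · rw [mul_smul, hio, hja]
    · rw [mul_smul, hia, hjo]

/-- **Holt's lemma**: the conjugacy class of `z` has odd size -/
theorem odd_class [Finite G] [MulAction.IsPretransitive G Ω] [Finite Ω] (hz : z * z = 1)
    (h0 : ∀ ω : Ω, z • ω = ω ↔ ω = o)
    (h1 : ∀ t, IsConj z t → t ≠ z → t * z = z * t → ∀ ω : Ω, (z * t) • ω = ω → ω = o)
    (hΩ : ∃ a : Ω, a ≠ o) : Odd (Nat.card {y : G // ∃ g : G, g * z * g⁻¹ = y}) := by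
  classical
  have hzo : z • o = o := (h0 o).2 rfl
  have hsame : ∀ a : Ω, Nat.card {y : G // IsConj z y ∧ y • a = a} = Nat.card {y : G // IsConj z y ∧ y • o = o} := by
    intro a
    obtain ⟨g, rfl⟩ := MulAction.exists_smul_eq G o a
    have hp : ∀ y : {y : G // IsConj z y ∧ y • o = o}, IsConj z (g * y.1 * g⁻¹) ∧ (g * y.1 * g⁻¹) • g • o = g • o := by
      intro y
      refine ⟨y.2.1.trans (isConj_iff.2 ⟨g, rfl⟩), ?_⟩
      rw [mul_smul, mul_smul, inv_smul_smul, y.2.2]
    refine (Nat.card_congr (Equiv.ofBijective (fun y => ⟨g * y.1 * g⁻¹, hp y⟩) ⟨?_, ?_⟩)).symm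
    · rintro ⟨y, hy⟩ ⟨y', hy'⟩ h
      have h : g * y * g⁻¹ = g * y' * g⁻¹ := congrArg Subtype.val h
      apply Subtype.ext
      simpa using h
    · rintro ⟨y, hy, hyo⟩
      refine ⟨⟨g⁻¹ * y * g, hy.trans (isConj_iff.2 ⟨g⁻¹, by rw [inv_inv]⟩), ?_⟩, Subtype.ext ?_⟩
      · rw [mul_smul, mul_smul, hyo, inv_smul_smul]
      · show g * (g⁻¹ * y * g) * g⁻¹ = y
        group
  have hoddne : ∀ a : Ω, a ≠ o → Odd (Nat.card {j : G // IsConj z j ∧ j • o = a}) := by
    intro a ha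
    apply odd_swap hz h0 h1 ha
    have h2 : Nat.card {j : G // IsConj z j ∧ j • o = a} ≠ 0 := by
      rw [card_swap hz h0 h1 ha, hsame]
      have : Nonempty {y : G // IsConj z y ∧ y • o = o} := ⟨⟨z, IsConj.refl z, hzo⟩⟩
      exact Nat.card_pos.ne'
    by_contra hcon
    apply h2
    rw [Nat.card_eq_zero]
    left
    exact ⟨fun j => hcon ⟨j.1, j.2⟩⟩
  have hodd : ∀ a : Ω, Odd (Nat.card {j : G // IsConj z j ∧ j • o = a}) := by
    intro a
    by_cases ha : a = o
    · obtain ⟨b, hb⟩ := hΩ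
      rw [ha, ← hsame b, ← card_swap hz h0 h1 hb]
      exact hoddne b hb
    · exact hoddne a ha
  have hcard : Odd (Nat.card Ω) := by
    refine odd_of_unique_fixed (fun ω => z • ω) (fun ω => ?_) o hzo (fun b hb => (h0 b).1 hb)
    show z • z • ω = ω
    rw [← mul_smul, hz, one_smul]
  have := Fintype.ofFinite Ω
  have e : {y : G // ∃ g : G, g * z * g⁻¹ = y} ≃ Σ a : Ω, {j : G // IsConj z j ∧ j • o = a} :=
    { toFun := fun y => ⟨y.1 • o, y.1, isConj_iff.2 y.2, rfl⟩
      invFun := fun s => ⟨s.2.1, isConj_iff.1 s.2.2.1⟩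
      left_inv := fun y => rfl
      right_inv := by
        rintro ⟨a, y, hy, rfl⟩
        rfl }
  have hpar : ∀ s : Finset Ω, (∑ a ∈ s, Nat.card {j : G // IsConj z j ∧ j • o = a}) ≡ s.card [MOD 2] := by
    intro s
    rw [Finset.card_eq_sum_ones]
    induction s using Finset.induction_on with
    | empty => rfl
    | insert a s ha ih =>
      rw [Finset.sum_insert ha, Finset.sum_insert ha]
      exact Nat.ModEq.add (Nat.odd_iff.1 (hodd a)) ih
  rw [Nat.card_congr e, Nat.card_sigma, Nat.odd_iff]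
  have h3 := hpar Finset.univ
  rw [Finset.card_univ, ← Nat.card_eq_fintype_card] at h3
  have h4 : (∑ a ∈ Finset.univ, Nat.card {j : G // IsConj z j ∧ j • o = a}) % 2 = Nat.card Ω % 2 := h3
  rw [h4]
  exact Nat.odd_iff.1 hcard
end main

end H38.Involution
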