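import Mathlib
import Cfsg.Prelude.Def_HallClasses
import Cfsg.Agent.Lib.H42.SylowTwoPerm

/-!
# Pronormality of the subgroups of odd index

`IsPronormal` for subgroups containing a Sylow 2-subgroup, and a criterion (`absP`) for a finite group
to have a Sylow 2-subgroup `S` such that every element of odd order normalising `S` is central.
-/

set_option autoImplicit false

namespace H38.Pron

open scoped Pointwise
open Subgroup

universe u

section basic

variable {G : Type u} [Group G]

theorem map_conj_eq (g : G) (H : Subgroup G) : H.map (MulAut.conj g).toMonoidHom = MulAut.conj g • H := rfl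

theorem mem_cs {g x : G} {H : Subgroup G} : x ∈ MulAut.conj g • H ↔ g⁻¹ * x * g ∈ H := by
  rw [Subgroup.mem_pointwise_smul_iff_inv_smul_mem, ← map_inv, MulAut.smul_def, MulAut.conj_apply, inv_inv]

theorem isPronormal_iff {H : Subgroup G} : Cfsg.IsPronormal H ↔
    ∀ g : G, ∃ x ∈ H ⊔ MulAut.conj g • H, MulAut.conj g • H = MulAut.conj x • H := Iff.rfl

/-- pronormality is invariant under conjugation -/
theorem IsPronormal.conj {H : Subgroup G} (h : Cfsg.IsPronormal H) (y : G) :
    Cfsg.IsPronormal (MulAut.conj y • H) := by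
  rw [isPronormal_iff] at h ⊢
  intro g
  obtain ⟨x, hx, hxe⟩ := h (y⁻¹ * g * y)
  refine ⟨y * x * y⁻¹, ?_, ?_⟩
  · have h1 : MulAut.conj y • H ⊔ MulAut.conj g • MulAut.conj y • H =
        MulAut.conj y • (H ⊔ MulAut.conj (y⁻¹ * g * y) • H) := by
      rw [Subgroup.smul_sup, smul_smul, smul_smul, ← map_mul, ← map_mul]
      congr 3
      group
    rw [h1, mem_cs]
    have : y⁻¹ * (y * x * y⁻¹) * y = x := by group
    rw [this]; exact hx
  · rw [smul_smul, smul_smul, ← map_mul, ← map_mul]
    have h2 : g * y = y * (y⁻¹ * g * y) := by group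
    rw [h2, map_mul, mul_smul, hxe, smul_smul, ← map_mul]
    congr 2
    group

/-- a criterion for all subgroups of index prime to `p` to be pronormal -/
theorem pron_of_sylow {p : ℕ} [Fact p.Prime] [Finite G] (S : Sylow p G)
    (h : ∀ H : Subgroup G, (S : Subgroup G) ≤ H → ∀ g ∈ normalizer ((S : Subgroup G) : Set G),
      ∃ x ∈ H ⊔ MulAut.conj g • H, MulAut.conj g • H = MulAut.conj x • H)
    (H : Subgroup G) (hH : ¬ p ∣ H.index) : Cfsg.IsPronormal H := by
  classical
  -- H contains a Sylow
  obtain ⟨T⟩ : Nonempty (Sylow p H) := inferInstance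
  have hTp : IsPGroup p ((T : Subgroup H).map H.subtype) := T.isPGroup'.map _
  obtain ⟨Q, hQ⟩ := hTp.exists_le_sylow
  have hidx : ¬ p ∣ ((T : Subgroup H).map H.subtype).index := by
    rw [Subgroup.index_map_subtype]
    intro hd
    rcases (Fact.out : p.Prime).dvd_mul.mp hd with h1 | h1
    · exact T.not_dvd_index h1
    · exact hH h1
  have hTQ : (T : Subgroup H).map H.subtype = (Q : Subgroup G) := by
    have := hTp.toSylow hidx
    exact ((hTp.toSylow hidx).is_maximal' Q.isPGroup' hQ).symm
  have hQH : (Q : Subgroup G) ≤ H := by rw [← hTQ]; exact Subgroup.map_subtype_le _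
  obtain ⟨y, hy⟩ := MulAction.exists_smul_eq G S Q
  -- replace H by its conjugate containing S
  have hS : (S : Subgroup G) ≤ MulAut.conj y⁻¹ • H := by
    intro s hs
    rw [mem_cs, inv_inv]
    apply hQH
    have : y * s * y⁻¹ ∈ (y • S : Sylow p G) := by
      show y * s * y⁻¹ ∈ ((y • S : Sylow p G) : Subgroup G)
      rw [Sylow.coe_subgroup_smul, mem_cs]
      have : y⁻¹ * (y * s * y⁻¹) * y = s := by group
      rw [this]; exact hs
    rw [hy] at this
    exact this
  suffices hk : Cfsg.IsPronormal (MulAut.conj y⁻¹ • H) by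
    have := IsPronormal.conj hk y
    rwa [smul_smul, ← map_mul, mul_inv_cancel, map_one, one_smul] at this
  generalize MulAut.conj y⁻¹ • H = H0 at hS
  rw [isPronormal_iff]
  intro g
  set K := H0 ⊔ MulAut.conj g • H0 with hK
  have hSK : (S : Subgroup G) ≤ K := hS.trans le_sup_left
  have hSgK : ((g • S : Sylow p G) : Subgroup G) ≤ K := by
    rw [Sylow.coe_subgroup_smul]
    refine le_trans ?_ le_sup_right
    exact (Subgroup.pointwise_smul_le_pointwise_smul_iff).mpr hS
  obtain ⟨k, hk⟩ := MulAction.exists_smul_eq K ((g • S).subtype hSgK) (S.subtype hSK)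
  have key : ∀ x : K, (x : G) ∈ (S : Subgroup G) ↔ (k : G)⁻¹ * x * k ∈ MulAut.conj g • (S : Subgroup G) := by
    intro x
    have h0 : x ∈ ((k • (g • S).subtype hSgK : Sylow p K) : Subgroup K) ↔ x ∈ ((S.subtype hSK : Sylow p K) : Subgroup K) := by
      rw [hk]
    rw [Sylow.coe_subgroup_smul, mem_cs, Sylow.coe_subtype, Sylow.coe_subtype, Subgroup.mem_subgroupOf,
      Subgroup.mem_subgroupOf, Sylow.coe_subgroup_smul] at h0
    exact h0.symm
  have hk' : MulAut.conj ((k : G) * g) • (S : Subgroup G) = S := by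
    rw [map_mul, mul_smul]
    ext x
    rw [mem_cs]
    constructor
    · intro hx
      have h4 : (k : G)⁻¹ * x * k ∈ K := by
        apply hSgK
        rw [Sylow.coe_subgroup_smul]
        exact hx
      have h5 : x ∈ K := by
        have : x = (k : G) * ((k : G)⁻¹ * x * k) * (k : G)⁻¹ := by group
        rw [this]
        exact mul_mem (mul_mem k.2 h4) (inv_mem k.2)
      exact (key ⟨x, h5⟩).mpr hx
    · intro hx
      exact (key ⟨x, hSK hx⟩).mp hx
  have hn : ((k : G) * g) ∈ normalizer ((S : Subgroup G) : Set G) := by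
    rw [Subgroup.mem_normalizer_iff]
    intro x
    constructor
    · intro hx
      have : ((k : G) * g) * x * ((k : G) * g)⁻¹ ∈ MulAut.conj ((k : G) * g) • (S : Subgroup G) := by
        rw [mem_cs]
        have : ((k : G) * g)⁻¹ * (((k : G) * g) * x * ((k : G) * g)⁻¹) * ((k : G) * g) = x := by group
        rw [this]; exact hx
      rw [hk'] at this; exact this
    · intro hx
      have h1 : ((k : G) * g) * x * ((k : G) * g)⁻¹ ∈ MulAut.conj ((k : G) * g) • (S : Subgroup G) := by
        rw [hk']; exact hx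
      rw [mem_cs] at h1
      have : ((k : G) * g)⁻¹ * (((k : G) * g) * x * ((k : G) * g)⁻¹) * ((k : G) * g) = x := by group
      rw [this] at h1; exact h1
  obtain ⟨x, hx, hxe⟩ := h H0 hS _ hn
  refine ⟨(k : G)⁻¹ * x, ?_, ?_⟩
  · refine mul_mem (inv_mem k.2) ?_
    have hle : H0 ⊔ MulAut.conj ((k : G) * g) • H0 ≤ K := by
      refine sup_le le_sup_left ?_
      rw [map_mul, mul_smul]
      intro z hz
      rw [mem_cs] at hz
      have h4 : (k : G)⁻¹ * z * k ∈ K := (le_sup_right : MulAut.conj g • H0 ≤ K) hz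
      have : z = (k : G) * ((k : G)⁻¹ * z * k) * (k : G)⁻¹ := by group
      rw [this]
      exact mul_mem (mul_mem k.2 h4) (inv_mem k.2)
    exact hle hx
  · rw [map_mul, mul_smul, ← hxe, smul_smul, ← map_mul]
    congr 2
    group

/-- a `p`-element normalising a Sylow `p`-subgroup lies in it -/
theorem mem_sylow_of_normalizer {p : ℕ} [Fact p.Prime] [Finite G] (S : Sylow p G) {x : G}
    (hx : x ∈ normalizer ((S : Subgroup G) : Set G)) {k : ℕ} (hk : x ^ p ^ k = 1) : x ∈ S := by
  have h1 : IsPGroup p (zpowers x) := by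
    rw [IsPGroup.iff_card]
    obtain ⟨m, -, hm⟩ := (Nat.dvd_prime_pow (Fact.out : p.Prime)).mp (orderOf_dvd_of_pow_eq_one hk)
    exact ⟨m, by rw [Nat.card_zpowers, hm]⟩
  have h2 : zpowers x ≤ normalizer ((S : Subgroup G) : Set G) := by
    rwa [zpowers_le]
  have h3 : IsPGroup p ((S : Subgroup G) ⊔ zpowers x : Subgroup G) :=
    IsPGroup.to_sup_of_normal_left' S.isPGroup' h1 h2
  have h4 := S.is_maximal' h3 le_sup_left
  have : x ∈ ((S : Subgroup G) ⊔ zpowers x : Subgroup G) := (le_sup_right : zpowers x ≤ _) (mem_zpowers x)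
  rw [h4] at this
  exact this

/-- the condition on `G` -/
def P (G : Type u) [Group G] : Prop :=
  ∃ S : Sylow 2 G, ∀ x ∈ normalizer ((S : Subgroup G) : Set G), Odd (orderOf x) → x ∈ center G

theorem P.of_equiv {G H : Type*} [Group G] [Group H] [Finite G] [Finite H] (e : G ≃* H) (h : P G) : P H := by
  obtain ⟨S, hS⟩ := h
  have hsur : Function.Surjective (e : G →* H) := e.surjective
  refine ⟨S.mapSurjective hsur, ?_⟩
  intro x hx hodd
  obtain ⟨y, rfl⟩ := e.surjective x
  have hy : y ∈ normalizer ((S : Subgroup G) : Set G) := by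
    rw [Subgroup.mem_normalizer_iff] at hx ⊢
    intro s
    have := hx (e s)
    rw [← map_inv, ← map_mul, ← map_mul] at this
    have hm : ∀ z : G, e z ∈ (S.mapSurjective hsur : Subgroup H) ↔ z ∈ (S : Subgroup G) := by
      intro z
      rw [Sylow.coe_mapSurjective]
      constructor
      · rintro ⟨w, hw, hwe⟩
        have : w = z := e.injective hwe
        rwa [← this]
      · intro hz; exact ⟨z, hz, rfl⟩
    rw [hm, hm] at this
    exact this
  have h1 := hS y hy (by rwa [MulEquiv.orderOf_eq] at hodd)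
  rw [Subgroup.mem_center_iff] at h1 ⊢
  intro z
  obtain ⟨w, rfl⟩ := e.surjective z
  rw [← map_mul, ← map_mul, h1 w]

/-- Every subgroup of odd index of `G / Z(G)` is pronormal. -/
theorem P.pron [Finite G] (h : P G) (H : Subgroup (G ⧸ center G)) (hH : Odd H.index) :
    Cfsg.IsPronormal H := by
  obtain ⟨S, hS⟩ := h
  have hsur : Function.Surjective (QuotientGroup.mk' (center G)) := QuotientGroup.mk'_surjective _
  refine pron_of_sylow (S.mapSurjective hsur) ?_ H ?_
  swap
  · rw [← even_iff_two_dvd, Nat.not_even_iff_odd]; exact hH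
  intro K hK g hg
  suffices hgS : g ∈ (S.mapSurjective hsur : Subgroup (G ⧸ center G)) by
    refine ⟨1, one_mem _, ?_⟩
    rw [map_one, one_smul]
    ext x
    rw [mem_cs]
    have hgK := hK hgS
    constructor
    · intro hx
      have : x = g * (g⁻¹ * x * g) * g⁻¹ := by group
      rw [this]; exact mul_mem (mul_mem hgK hx) (inv_mem hgK)
    · intro hx; exact mul_mem (mul_mem (inv_mem hgK) hx) hgK
  obtain ⟨y, rfl⟩ := hsur g
  -- central 2-elements are in S
  have hcen : ∀ z ∈ center G, ∀ k : ℕ, z ^ 2 ^ k = 1 → z ∈ S := by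
    intro z hz k hk
    refine mem_sylow_of_normalizer S ?_ hk
    rw [Subgroup.mem_normalizer_iff]
    intro s
    have : z * s * z⁻¹ = s := by rw [← (Subgroup.mem_center_iff.mp hz s)]; group
    rw [this]
  have hy : y ∈ normalizer ((S : Subgroup G) : Set G) := by
    have key : ∀ y : G, (∀ s ∈ S, (QuotientGroup.mk' (center G)) (y * s * y⁻¹) ∈
        (S.mapSurjective hsur : Subgroup (G ⧸ center G))) → ∀ s ∈ S, y * s * y⁻¹ ∈ S := by
      intro y hh s hs
      have h1 := hh s hs
      rw [Sylow.coe_mapSurjective] at h1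
      obtain ⟨t, ht, hte⟩ := h1
      have h2 : t⁻¹ * (y * s * y⁻¹) ∈ center G := by
        rw [← QuotientGroup.eq]; exact hte
      obtain ⟨k, hk⟩ := S.isPGroup' ⟨s, hs⟩
      obtain ⟨l, hl⟩ := S.isPGroup' ⟨t, ht⟩
      have hk' : s ^ 2 ^ k = 1 := by simpa using congrArg Subtype.val hk
      have hl' : t ^ 2 ^ l = 1 := by simpa using congrArg Subtype.val hl
      set z := t⁻¹ * (y * s * y⁻¹) with hz
      have hyz : y * s * y⁻¹ = t * z := by rw [hz]; group
      have hcomm : Commute t z := (Subgroup.mem_center_iff.mp h2 t)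
      have h3 : (t * z) ^ 2 ^ (k + l) = 1 := by
        rw [← hyz, conj_pow, pow_add, pow_mul, hk', one_pow]; group
      have h4 : z ^ 2 ^ (k + l) = 1 := by
        rw [hcomm.mul_pow] at h3
        have : t ^ 2 ^ (k + l) = 1 := by rw [pow_add, mul_comm, pow_mul, hl', one_pow]
        rwa [this, one_mul] at h3
      rw [hyz]
      exact mul_mem ht (hcen z h2 _ h4)
    rw [Subgroup.mem_normalizer_iff] at hg
    have h1 : ∀ s ∈ S, y * s * y⁻¹ ∈ S := by
      apply key
      intro s hs
      rw [map_mul, map_mul, map_inv]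
      exact (hg _).mp (by rw [Sylow.coe_mapSurjective]; exact ⟨s, hs, rfl⟩)
    have h2 : ∀ s ∈ S, y⁻¹ * s * y⁻¹⁻¹ ∈ S := by
      apply key
      intro s hs
      have hinv : (QuotientGroup.mk' (center G)) (y⁻¹ * s * y⁻¹⁻¹) = (QuotientGroup.mk' (center G) y)⁻¹ *
          (QuotientGroup.mk' (center G)) s * (QuotientGroup.mk' (center G) y) := by
        rw [inv_inv, map_mul, map_mul, map_inv]
      rw [hinv]
      have := (hg ((QuotientGroup.mk' (center G) y)⁻¹ * (QuotientGroup.mk' (center G)) s *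
        (QuotientGroup.mk' (center G) y))).mpr (by
          have : (QuotientGroup.mk' (center G) y) * ((QuotientGroup.mk' (center G) y)⁻¹ *
            (QuotientGroup.mk' (center G)) s * (QuotientGroup.mk' (center G) y)) *
            (QuotientGroup.mk' (center G) y)⁻¹ = (QuotientGroup.mk' (center G)) s := by group
          rw [this, Sylow.coe_mapSurjective]; exact ⟨s, hs, rfl⟩)
      exact this
    rw [Subgroup.mem_normalizer_iff]
    intro s
    constructor
    · intro hs; exact h1 s hs
    · intro hs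
      have := h2 _ hs
      have he : y⁻¹ * (y * s * y⁻¹) * y⁻¹⁻¹ = s := by group
      rwa [he] at this
  -- split y into 2-part and odd part
  obtain ⟨k, m, hm, hkm⟩ := Nat.exists_eq_two_pow_mul_odd (n := orderOf y) (orderOf_pos y).ne'
  have hcop : Nat.Coprime (2 ^ k) m := Nat.Coprime.pow_left _ (Nat.coprime_two_left.mpr hm)
  -- Bezout
  obtain ⟨a, b, hab⟩ : ∃ a b : ℤ, (2 ^ k : ℤ) * a + m * b = 1 := by
    have := Int.isCoprime_iff_gcd_eq_one.mpr (by
      have : Int.gcd ((2 ^ k : ℕ) : ℤ) (m : ℤ) = Nat.gcd (2 ^ k) m := Int.gcd_natCast_natCast _ _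
      rw [this]; exact hcop)
    obtain ⟨a, b, hab⟩ := this
    refine ⟨a, b, ?_⟩
    push_cast at hab
    linarith
  have hsplit : y = (y ^ (2 ^ k)) ^ a * (y ^ m) ^ b := by
    conv_lhs => rw [← zpow_one y, ← hab]
    rw [zpow_add, zpow_mul, zpow_mul]
    norm_cast
  have hodd : (y ^ (2 ^ k)) ∈ center G := by
    apply hS _ (pow_mem hy _)
    have h1 : orderOf (y ^ 2 ^ k) ∣ m := by
      apply orderOf_dvd_of_pow_eq_one
      rw [← pow_mul, ← hkm, pow_orderOf_eq_one]
    exact hm.of_dvd_nat h1
  have htwo : (y ^ m) ∈ S := by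
    refine mem_sylow_of_normalizer S (pow_mem hy _) (k := k) ?_
    rw [← pow_mul, mul_comm m, ← hkm, pow_orderOf_eq_one]
  rw [Sylow.coe_mapSurjective]
  refine ⟨(y ^ m) ^ b, zpow_mem htwo _, ?_⟩
  conv_rhs => rw [hsplit]
  rw [map_mul]
  have : (QuotientGroup.mk' (center G)) ((y ^ 2 ^ k) ^ a) = 1 := by
    rw [← MonoidHom.mem_ker, QuotientGroup.ker_mk']
    exact zpow_mem hodd _
  rw [this, one_mul]

end basic

end H38.Pron
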