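import Mathlib
import Cfsg.Agent.Lib.H38.Pron

/-!
# The abstract criterion for `P`
-/

set_option autoImplicit false

namespace H38.Pron

open scoped Pointwise
open Subgroup

universe u

section abs

variable {G : Type u} [Group G] [Finite G]

omit [Finite G] in
theorem two_of_le {S : Sylow 2 G} {x : G} (hx : x ∈ S) : ∃ k, x ^ 2 ^ k = 1 := by
  obtain ⟨k, hk⟩ := S.isPGroup' ⟨x, hx⟩
  exact ⟨k, by simpa using congrArg Subtype.val hk⟩

/-- if `T` is a Sylow subgroup of `N = N_G(A)` and `N_G(T) ≤ N` then `T` is Sylow in `G`. -/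
theorem exists_sylow_of_normalizer {p : ℕ} [Fact p.Prime] (N : Subgroup G) (T : Sylow p N)
    (h : ∀ y : G, (∀ t : N, t ∈ T → ∃ t' : N, t' ∈ T ∧ y * t * y⁻¹ = t') → y ∈ N) :
    ∃ S : Sylow p G, (S : Subgroup G) = (T : Subgroup N).map N.subtype := by
  have hTp : IsPGroup p ((T : Subgroup N).map N.subtype) := T.isPGroup'.map _
  obtain ⟨S, hS⟩ := hTp.exists_le_sylow
  refine ⟨S, ?_⟩
  by_contra hne
  set T' := (T : Subgroup N).map N.subtype with hT'
  -- normalizer growth in S
  have : Group.IsNilpotent S := S.isPGroup'.isNilpotent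
  have hlt : T'.subgroupOf S < ⊤ := by
    rw [lt_top_iff_ne_top]
    intro htop
    rw [Subgroup.subgroupOf_eq_top] at htop
    exact hne (le_antisymm htop hS)
  have hnc := Group.normalizerCondition_of_isNilpotent (G := S) (T'.subgroupOf S) hlt
  obtain ⟨y, hy1, hy2⟩ := SetLike.exists_of_lt hnc
  rw [Subgroup.mem_normalizer_iff] at hy1
  apply hy2
  rw [Subgroup.mem_subgroupOf]
  have hyN : (y : G) ∈ N := by
    apply h
    intro t ht
    have htT' : (t : G) ∈ T' := ⟨t, ht, rfl⟩
    have := (hy1 ⟨t, hS htT'⟩).mp (by rw [Subgroup.mem_subgroupOf]; exact htT')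
    rw [Subgroup.mem_subgroupOf] at this
    obtain ⟨t', ht', hte⟩ := this
    exact ⟨t', ht', hte.symm⟩
  have hyn : (⟨y, hyN⟩ : N) ∈ normalizer ((T : Subgroup N) : Set N) := by
    rw [Subgroup.mem_normalizer_iff]
    intro t
    have hT'iff : ∀ z : N, (z : G) ∈ T' ↔ z ∈ (T : Subgroup N) := by
      intro z
      constructor
      · rintro ⟨w, hw, hwe⟩
        have : w = z := Subtype.ext hwe
        rwa [← this]
      · intro hz; exact ⟨z, hz, rfl⟩
    rw [← hT'iff, ← hT'iff]
    constructor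
    · intro ht
      have := (hy1 ⟨t, hS ht⟩).mp (by rw [Subgroup.mem_subgroupOf]; exact ht)
      rw [Subgroup.mem_subgroupOf] at this
      exact this
    · intro ht
      have ht2 : (y : G) * t * (y : G)⁻¹ ∈ T' := ht
      have htS : (t : G) ∈ (S : Subgroup G) := by
        have h3 := hS ht2
        have : (t : G) = (y : G)⁻¹ * ((y : G) * t * (y : G)⁻¹) * y := by group
        rw [this]
        exact mul_mem (mul_mem (inv_mem y.2) h3) y.2
      have := (hy1 ⟨t, htS⟩).mpr (by rw [Subgroup.mem_subgroupOf]; exact ht2)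
      rw [Subgroup.mem_subgroupOf] at this
      exact this
  obtain ⟨k, hk⟩ := S.isPGroup' y
  have hk' : (⟨y, hyN⟩ : N) ^ p ^ k = 1 := by
    apply Subtype.ext
    have := congrArg Subtype.val hk
    simpa using this
  have := mem_sylow_of_normalizer T hyn hk'
  exact ⟨⟨y, hyN⟩, this, rfl⟩

/-- The abstract criterion. -/
theorem absP (A N C : Subgroup G) (hN : N = normalizer (A : Set G)) (hCdef : C = centralizer (A : Set G))
    (hA2 : ∀ a ∈ A, ∃ k, a ^ 2 ^ k = 1)
    (hAc : ∀ a ∈ A, ∀ b ∈ A, a * b = b * a)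
    (h1 : ∀ x ∈ C, (∃ k, x ^ 2 ^ k = 1) → x ∈ A)
    (h2 : ∀ s ∈ N, s ∉ C → ∃ a ∈ A, ¬ Commute (a * s * a⁻¹ * s⁻¹) s)
    (hC : ∀ x ∈ C, ∀ y ∈ C, x * y = y * x)
    {I : Type} [Fintype I] [DecidableEq I] (θ : N →* Equiv.Perm I)
    (hθ : Function.Surjective θ)
    (h3 : ∀ x : N, Odd (orderOf x) → θ x = 1 → (x : G) ∈ C)
    (h4 : ∀ x ∈ C, ∀ T : Sylow 2 N, (∀ t : N, t ∈ T → Commute x (t : G)) → x ∈ center G) : P G := by
  classical
  obtain ⟨T⟩ : Nonempty (Sylow 2 N) := inferInstance
  have hAN : A ≤ N := by rw [hN]; exact Subgroup.le_normalizer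
  have hnorm : ∀ n ∈ N, ∀ a ∈ A, n * a * n⁻¹ ∈ A := fun n hn a ha =>
    (Subgroup.mem_normalizer_iff.mp (by rwa [hN] at hn) a).mp ha
  -- A ≤ T
  have hAT : ∀ a : G, ∀ ha : a ∈ A, (⟨a, hAN ha⟩ : N) ∈ T := by
    have hnA : (A.subgroupOf N).Normal := by
      constructor
      intro a ha n
      rw [Subgroup.mem_subgroupOf] at ha ⊢
      exact hnorm n n.2 _ ha
    have hpA : IsPGroup 2 (A.subgroupOf N) := by
      rintro ⟨a, ha⟩
      obtain ⟨k, hk⟩ := hA2 a ha
      exact ⟨k, by apply Subtype.ext; apply Subtype.ext; simpa using hk⟩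
    have hle : A.subgroupOf N ≤ (T : Subgroup N) := by
      have h5 : IsPGroup 2 ((T : Subgroup N) ⊔ A.subgroupOf N : Subgroup N) :=
        IsPGroup.to_sup_of_normal_right' T.isPGroup' hpA (by
          rw [Subgroup.normalizer_eq_top_iff.mpr hnA]; exact le_top)
      have h6 := T.is_maximal' h5 le_sup_left
      rw [← h6]; exact le_sup_right
    intro a ha
    exact hle (by rw [Subgroup.mem_subgroupOf]; exact ha)
  have hkey : ∀ y : G, (∀ t : N, t ∈ T → ∃ t' : N, t' ∈ T ∧ y * t * y⁻¹ = t') → y ∈ N := by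
    intro y hy
    -- inverse direction too
    have hyinv : ∀ t : N, t ∈ T → ∃ t' : N, t' ∈ T ∧ y⁻¹ * t * y = t' := by
      -- the map t ↦ y t y⁻¹ on T is injective hence surjective
      choose f hf1 hf2 using hy
      let φ : ↥(T : Subgroup N) → ↥(T : Subgroup N) := fun t => ⟨f t t.2, hf1 t t.2⟩
      have hinj : Function.Injective φ := by
        intro a b hab
        have h5 : f a a.2 = f b b.2 := congrArg Subtype.val hab
        have h6 : y * (a : N) * y⁻¹ = y * (b : N) * y⁻¹ := by rw [hf2 a a.2, hf2 b b.2, h5]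
        have h7 : ((a : N) : G) = ((b : N) : G) := by
          have := mul_right_cancel h6
          exact mul_left_cancel this
        exact Subtype.ext (Subtype.ext h7)
      have hsur := Finite.surjective_of_injective hinj
      intro t ht
      obtain ⟨s, hs⟩ := hsur ⟨t, ht⟩
      refine ⟨s, s.2, ?_⟩
      have h5 : f s s.2 = t := congrArg Subtype.val hs
      have h6 := hf2 s s.2
      rw [h5] at h6
      rw [← h6]; group
    have hyA : ∀ a ∈ A, y * a * y⁻¹ ∈ A := by
      intro a1 ha1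
      obtain ⟨x1, hx1T, hx1⟩ := hy ⟨a1, hAN ha1⟩ (hAT a1 ha1)
      have hx1' : y * a1 * y⁻¹ = (x1 : G) := hx1
      have hx2 : ∃ k, (x1 : G) ^ 2 ^ k = 1 := by
        obtain ⟨k, hk⟩ := hA2 a1 ha1
        exact ⟨k, by rw [← hx1', conj_pow, hk]; group⟩
      rw [hx1']
      apply h1 _ _ hx2
      by_contra hx3
      obtain ⟨a, ha, hnc⟩ := h2 _ x1.2 hx3
      apply hnc
      -- y⁻¹ a y ∈ T ≤ N
      obtain ⟨a', ha'T, ha'⟩ := hyinv ⟨a, hAN ha⟩ (hAT a ha)
      have ha'' : y⁻¹ * a * y = (a' : G) := ha'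
      have h5 : (a' : G) * a1 * (a' : G)⁻¹ ∈ A := hnorm _ a'.2 _ ha1
      -- b = a x1 a⁻¹ x1⁻¹ is a conjugate by y of an element of A
      have h6 : a * x1 * a⁻¹ * (x1 : G)⁻¹ = y * (((a' : G) * a1 * (a' : G)⁻¹) * a1⁻¹) * y⁻¹ := by
        rw [← ha'', ← hx1']; group
      have h7 : Commute (((a' : G) * a1 * (a' : G)⁻¹) * a1⁻¹) a1 := hAc _ (mul_mem h5 (inv_mem ha1)) _ ha1
      rw [h6, ← hx1']
      have := h7.map (MulAut.conj y).toMonoidHom
      simpa [MulAut.conj_apply] using this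
    rw [hN, Subgroup.mem_normalizer_iff]
    intro a
    refine ⟨hyA a, ?_⟩
    intro ha
    -- finiteness
    have hinj : Function.Injective (fun a : A => (⟨y * a * y⁻¹, hyA a a.2⟩ : A)) := by
      intro a b hab
      have h5 : y * (a : G) * y⁻¹ = y * (b : G) * y⁻¹ := congrArg Subtype.val hab
      exact Subtype.ext (mul_left_cancel (mul_right_cancel h5))
    obtain ⟨b, hb⟩ := (Finite.surjective_of_injective hinj) ⟨_, ha⟩
    have h5 : y * (b : G) * y⁻¹ = y * a * y⁻¹ := congrArg Subtype.val hb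
    have : (b : G) = a := mul_left_cancel (mul_right_cancel h5)
    rw [← this]; exact b.2
  obtain ⟨S, hS⟩ := exists_sylow_of_normalizer N T hkey
  refine ⟨S, ?_⟩
  intro x hx hodd
  have hmemS : ∀ z : N, (z : G) ∈ (S : Subgroup G) ↔ z ∈ (T : Subgroup N) := by
    intro z
    rw [hS]
    constructor
    · rintro ⟨w, hw, hwe⟩
      have : w = z := Subtype.ext hwe
      rwa [← this]
    · intro hz; exact ⟨z, hz, rfl⟩
  have hSN : (S : Subgroup G) ≤ N := by rw [hS]; exact Subgroup.map_subtype_le _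
  have hxN : x ∈ N := by
    apply hkey
    intro t ht
    have h5 := (Subgroup.mem_normalizer_iff.mp hx (t : G)).mp ((hmemS t).mpr ht)
    exact ⟨⟨_, hSN h5⟩, (hmemS ⟨_, hSN h5⟩).mp h5, rfl⟩
  set x' : N := ⟨x, hxN⟩ with hx'
  have hodd' : Odd (orderOf x') := by
    have : orderOf x' = orderOf x := by rw [← Subgroup.orderOf_coe]
    rwa [this]
  -- θ x' = 1
  have hθx : θ x' = 1 := by
    have h5 : θ x' ∈ T.mapSurjective hθ := by
      apply H42.SylowTwoPerm.selfNorm
      intro g hg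
      have hg' : g ∈ ((T.mapSurjective hθ : Sylow 2 (Equiv.Perm I)) : Subgroup (Equiv.Perm I)) := hg
      rw [Sylow.coe_mapSurjective] at hg'
      obtain ⟨t, ht, rfl⟩ := hg'
      show _ ∈ ((T.mapSurjective hθ : Sylow 2 (Equiv.Perm I)) : Subgroup (Equiv.Perm I))
      rw [Sylow.coe_mapSurjective]
      refine ⟨x' * t * x'⁻¹, ?_, by rw [map_mul, map_mul, map_inv]⟩
      exact (hmemS _).mp ((Subgroup.mem_normalizer_iff.mp hx (t : G)).mp ((hmemS t).mpr ht))
    obtain ⟨k, hk'⟩ := two_of_le h5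
    have h6 : orderOf (θ x') ∣ 2 ^ k := orderOf_dvd_of_pow_eq_one hk'
    have h7 : orderOf (θ x') ∣ orderOf x' := orderOf_map_dvd θ x'
    have h8 : Nat.Coprime (2 ^ k) (orderOf x') := Nat.Coprime.pow_left _ (Nat.coprime_two_left.mpr hodd')
    have h9 : orderOf (θ x') = 1 := Nat.eq_one_of_dvd_coprimes h8 h6 h7
    rwa [orderOf_eq_one_iff] at h9
  have hxC : x ∈ C := h3 x' hodd' hθx
  refine h4 x hxC T ?_
  intro t ht
  -- the commutator
  have hcC : (t : G) * x⁻¹ * (t : G)⁻¹ ∈ C := by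
    have hCN : ∀ n ∈ N, ∀ c ∈ C, n * c * n⁻¹ ∈ C := by
      intro n hn c hc
      rw [hCdef, Subgroup.mem_centralizer_iff] at hc ⊢
      intro a ha
      have h5 : n⁻¹ * a * n ∈ A := by
        have := hnorm n⁻¹ (inv_mem hn) a ha
        rwa [inv_inv] at this
      have h6 := hc _ h5
      have : a * (n * c * n⁻¹) = n * ((n⁻¹ * a * n) * c) * n⁻¹ := by group
      rw [this, h6]; group
    exact hCN t t.2 _ (inv_mem hxC)
  have hcomm : Commute x ((t : G) * x⁻¹ * (t : G)⁻¹) := hC _ hxC _ hcC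
  set c := x * ((t : G) * x⁻¹ * (t : G)⁻¹) with hc
  have hc1 : c ^ (orderOf x) = 1 := by
    rw [hc, hcomm.mul_pow, pow_orderOf_eq_one, one_mul, conj_pow, inv_pow, pow_orderOf_eq_one]
    group
  have hcS : c ∈ S := by
    have h5 := (Subgroup.mem_normalizer_iff.mp hx (t : G)).mp ((hmemS t).mpr ht)
    have : c = (x * t * x⁻¹) * (t : G)⁻¹ := by rw [hc]; group
    rw [this]
    exact mul_mem h5 (inv_mem ((hmemS t).mpr ht))
  obtain ⟨k, hk⟩ := two_of_le hcS
  have h8 : Nat.Coprime (2 ^ k) (orderOf x) := Nat.Coprime.pow_left _ (Nat.coprime_two_left.mpr hodd)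
  have h9 : orderOf c = 1 := Nat.eq_one_of_dvd_coprimes h8 (orderOf_dvd_of_pow_eq_one hk)
    (orderOf_dvd_of_pow_eq_one hc1)
  rw [orderOf_eq_one_iff] at h9
  have h10 : x * t * x⁻¹ * (t : G)⁻¹ = 1 := by rw [← h9, hc]; group
  have h11 : x * t * x⁻¹ = t := by
    have := mul_inv_eq_one.mp h10
    exact this
  show x * t = t * x
  calc x * t = (x * t * x⁻¹) * x := by group
    _ = t * x := by rw [h11]

/-- A Sylow `p`-subgroup of a group acting transitively on a set of `p`-power cardinality is transitive. -/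
theorem sylow_transitive {p : ℕ} [Fact p.Prime] {N : Type*} [Group N] [Finite N] {J : Type*} [MulAction N J]
    {w : ℕ} (hJ : Nat.card J = p ^ w) (htr : ∀ i j : J, ∃ n : N, n • i = j) (T : Sylow p N) (i j : J) :
    ∃ t ∈ T, t • i = j := by
  classical
  have hfin : Finite J := Nat.finite_of_card_ne_zero (by rw [hJ]; exact pow_ne_zero _ (Fact.out : p.Prime).ne_zero)
  -- orbit of N
  have horb : MulAction.orbit N i = Set.univ := by
    ext k; simp only [Set.mem_univ, iff_true]
    exact htr i k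
  have h1 : (MulAction.stabilizer N i).index = p ^ w := by
    rw [MulAction.index_stabilizer, horb, Set.ncard_univ, hJ]
  have h2 : (MulAction.stabilizer (T : Subgroup N) i).index = p ^ w := by
    -- index of T ∩ N_i in T
    have h3 : (MulAction.stabilizer (T : Subgroup N) i).index = (MulAction.stabilizer N i).relIndex (T : Subgroup N) := by
      rw [Subgroup.relIndex]
      congr 1
    rw [h3]
    have h4 : (MulAction.stabilizer N i).relIndex (T : Subgroup N) * (T : Subgroup N).index =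
        (T : Subgroup N).relIndex (MulAction.stabilizer N i) * (MulAction.stabilizer N i).index := by
      rw [← Subgroup.inf_relIndex_right, Subgroup.relIndex_mul_index inf_le_right,
        ← Subgroup.inf_relIndex_right (T : Subgroup N), inf_comm, Subgroup.relIndex_mul_index inf_le_right]
    rw [h1] at h4
    have h5 : Nat.Coprime (p ^ w) ((T : Subgroup N).index) :=
      Nat.Coprime.pow_left _ ((Nat.Prime.coprime_iff_not_dvd (Fact.out : p.Prime)).mpr T.not_dvd_index)
    have h6 : p ^ w ∣ (MulAction.stabilizer N i).relIndex (T : Subgroup N) :=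
      h5.dvd_of_dvd_mul_right (by rw [h4]; exact dvd_mul_left _ _)
    have h7 : (MulAction.stabilizer N i).relIndex (T : Subgroup N) ≤ p ^ w := by
      rw [← h1]
      have h71 := Subgroup.relIndex_le_of_le_right (H := MulAction.stabilizer N i) (le_top : (T : Subgroup N) ≤ ⊤)
        (by rw [Subgroup.relIndex_top_right, h1]; exact pow_ne_zero _ (Fact.out : p.Prime).ne_zero)
      rwa [Subgroup.relIndex_top_right] at h71
    have h8 : 0 < (MulAction.stabilizer N i).relIndex (T : Subgroup N) := by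
      rw [Nat.pos_iff_ne_zero]
      exact Subgroup.index_ne_zero_of_finite
    exact le_antisymm h7 (Nat.le_of_dvd h8 h6)
  have h9 : MulAction.orbit (T : Subgroup N) i = Set.univ := by
    rw [MulAction.index_stabilizer] at h2
    rw [← Set.ncard_univ] at hJ
    exact Set.eq_of_subset_of_ncard_le (Set.subset_univ _) (by rw [hJ, h2])
  have hj : j ∈ MulAction.orbit (T : Subgroup N) i := by rw [h9]; trivial
  obtain ⟨t, ht⟩ := hj
  exact ⟨t, t.2, ht⟩

end abs

end H38.Pron
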