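import Cfsg.Agent.Lib.H38.Pron2
import Cfsg.Agent.Lib.H58.PSL2V4
import Cfsg.Agent.Lib.H6.SL2Tor
import Cfsg.Agent.S0205
import Cfsg.Agent.S2431

/-!
# Pronormality of the subgroups of odd index of `PSL₂(q)`, `q ≡ 3, 5 mod 8`
-/

set_option autoImplicit false

namespace H38.Pron

open scoped Pointwise
open Subgroup
open Matrix (SpecialLinearGroup ProjectiveSpecialLinearGroup)

/-- a nontrivial solvable normal subgroup contains a nontrivial abelian normal subgroup -/
theorem exists_abelian_normal {G : Type*} [Group G] [Finite G] (n : ℕ) :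
    ∀ (N : Subgroup G) [N.Normal], Nat.card N = n → N ≠ ⊥ → Group.IsSolvable N →
    ∃ A : Subgroup G, A.Normal ∧ A ≤ N ∧ A ≠ ⊥ ∧ ∀ x ∈ A, ∀ y ∈ A, x * y = y * x := by
  induction n using Nat.strong_induction_on with
  | _ n ih =>
  intro N _ hn hN hs
  by_cases hc : ⁅N, N⁆ = ⊥
  · refine ⟨N, inferInstance, le_rfl, hN, ?_⟩
    intro x hx y hy
    rw [Subgroup.commutator_eq_bot_iff_le_centralizer] at hc
    exact (Subgroup.mem_centralizer_iff.1 (hc hx) y hy).symm
  · have hle : ⁅N, N⁆ ≤ N := Subgroup.commutator_le_right N N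
    have hlt : ⁅N, N⁆ < N := by
      refine lt_of_le_of_ne hle ?_
      intro h
      have hnt : Nontrivial N := (Subgroup.nontrivial_iff_ne_bot N).2 hN
      have h1 := Group.IsSolvable.commutator_lt_top_of_nontrivial N
      have h3 : commutator N = ⊤ := by
        rw [eq_top_iff]
        intro x _
        have h5 : (⁅N, N⁆ : Subgroup G) = (commutator N).map N.subtype := by
          rw [commutator_def, Subgroup.map_commutator, ← MonoidHom.range_eq_map, Subgroup.range_subtype]
        have h6 : (x : G) ∈ (commutator N).map N.subtype := by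
          rw [← h5, h]
          exact x.2
        obtain ⟨y, hy, hxy⟩ := Subgroup.mem_map.1 h6
        have : y = x := Subtype.ext hxy
        rwa [← this]
      exact h1.ne h3
    have hcard : Nat.card (⁅N, N⁆ : Subgroup G) < n := by
      rw [← hn]
      have := Set.ncard_lt_ncard (show ((⁅N, N⁆ : Subgroup G) : Set G) ⊂ N from hlt) (Set.toFinite _)
      rw [← Nat.card_coe_set_eq, ← Nat.card_coe_set_eq] at this
      exact this
    have hsol : Group.IsSolvable (⁅N, N⁆ : Subgroup G) :=
      Group.isSolvable_of_isSolvable_injective (Subgroup.inclusion_injective hle)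
    obtain ⟨A, h1, h2, h3, h4⟩ := ih _ hcard _ rfl hc hsol
    exact ⟨A, h1, h2.trans hle, h3, h4⟩

section sl2

variable {F : Type*} [Field F]

/-- commuting is transitive on nonscalar elements of `SL₂` -/
theorem sl2_comm_trans {x y z : SpecialLinearGroup (Fin 2) F} (hy : y ∉ center (SpecialLinearGroup (Fin 2) F))
    (h1 : x * y = y * x) (h2 : y * z = z * y) : x * z = z * x := by
  have hy' : ¬ (y.1 0 1 = 0 ∧ y.1 1 0 = 0 ∧ y.1 0 0 = y.1 1 1) := by
    rintro ⟨h3, h4, h5⟩
    exact hy ((H45.SL2.mem_center_iff y).2 (H45.SL2.scalar_iff h3 h4 h5))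
  have a00 : (x * y).1 0 0 = (y * x).1 0 0 := by rw [h1]
  have a01 : (x * y).1 0 1 = (y * x).1 0 1 := by rw [h1]
  have a10 : (x * y).1 1 0 = (y * x).1 1 0 := by rw [h1]
  have b00 : (y * z).1 0 0 = (z * y).1 0 0 := by rw [h2]
  have b01 : (y * z).1 0 1 = (z * y).1 0 1 := by rw [h2]
  have b10 : (y * z).1 1 0 = (z * y).1 1 0 := by rw [h2]
  rw [H45.SL2.mul_00, H45.SL2.mul_00] at a00 b00
  rw [H45.SL2.mul_01, H45.SL2.mul_01] at a01 b01
  rw [H45.SL2.mul_10, H45.SL2.mul_10] at a10 b10
  generalize y.1 0 1 = q at *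
  generalize y.1 1 0 = r at *
  generalize y.1 0 0 = p at *
  generalize y.1 1 1 = s at *
  -- the vectors (x01, x10, x00 - x11) and (z01, z10, z00 - z11) are both multiples of (q, r, p - s)
  have key : x.1 0 1 * z.1 1 0 = x.1 1 0 * z.1 0 1 ∧
      x.1 0 1 * (z.1 0 0 - z.1 1 1) = (x.1 0 0 - x.1 1 1) * z.1 0 1 ∧
      x.1 1 0 * (z.1 0 0 - z.1 1 1) = (x.1 0 0 - x.1 1 1) * z.1 1 0 := by
    generalize x.1 0 1 = x1 at *
    generalize x.1 1 0 = x2 at *
    generalize x.1 0 0 = x0 at *
    generalize x.1 1 1 = x3 at *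
    generalize z.1 0 1 = z1 at *
    generalize z.1 1 0 = z2 at *
    generalize z.1 0 0 = z0 at *
    generalize z.1 1 1 = z3 at *
    by_cases hq : q = 0
    · by_cases hr : r = 0
      · have hps : p - s ≠ 0 := by
          intro h
          exact hy' ⟨hq, hr, sub_eq_zero.1 h⟩
        subst hq; subst hr
        have e1 : x1 = 0 := by
          have : (p - s) * x1 = 0 := by linear_combination -a01
          exact (mul_eq_zero.1 this).resolve_left hps
        have e2 : x2 = 0 := by
          have : (p - s) * x2 = 0 := by linear_combination a10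
          exact (mul_eq_zero.1 this).resolve_left hps
        have e3 : z1 = 0 := by
          have : (p - s) * z1 = 0 := by linear_combination b01
          exact (mul_eq_zero.1 this).resolve_left hps
        have e4 : z2 = 0 := by
          have : (p - s) * z2 = 0 := by linear_combination -b10
          exact (mul_eq_zero.1 this).resolve_left hps
        subst e1; subst e2; subst e3; subst e4
        refine ⟨by ring, by ring, by ring⟩
      · subst hq
        refine ⟨?_, ?_, ?_⟩
        · apply mul_left_cancel₀ hr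
          have e1 : r * x1 = 0 := by linear_combination a00
          have e2 : r * z1 = 0 := by linear_combination -b00
          linear_combination z2 * e1 - x2 * e2
        · apply mul_left_cancel₀ hr
          have e1 : r * x1 = 0 := by linear_combination a00
          have e2 : r * z1 = 0 := by linear_combination -b00
          linear_combination (z0 - z3) * e1 - (x0 - x3) * e2
        · apply mul_left_cancel₀ hr
          linear_combination x2 * b10 + z2 * a10
    · have k1 : x1 * z2 = x2 * z1 := by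
        apply mul_left_cancel₀ hq
        linear_combination x1 * b00 + z1 * a00
      refine ⟨k1, ?_, ?_⟩
      · apply mul_left_cancel₀ hq
        linear_combination -x1 * b01 - z1 * a01
      · apply mul_left_cancel₀ hq
        linear_combination -(p - s) * k1 - x2 * b01 - z2 * a01
  obtain ⟨k1, k2, k3⟩ := key
  apply H45.SL2.ext4
  · rw [H45.SL2.mul_00, H45.SL2.mul_00]; linear_combination k1
  · rw [H45.SL2.mul_01, H45.SL2.mul_01]; linear_combination -k2
  · rw [H45.SL2.mul_10, H45.SL2.mul_10]; linear_combination k3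
  · rw [H45.SL2.mul_11, H45.SL2.mul_11]; linear_combination -k1

theorem mk_eq_one (x : SpecialLinearGroup (Fin 2) F) :
    QuotientGroup.mk' (center (SpecialLinearGroup (Fin 2) F)) x = 1 ↔ x = 1 ∨ x = -1 := by
  rw [← H45.SL2.mem_center_iff]
  exact QuotientGroup.eq_one_iff _

variable [Fintype F] (h2 : (2 : F) ≠ 0)
include h2

theorem lift_inv {s : ProjectiveSpecialLinearGroup (Fin 2) F} (hs : s * s = 1) (hs1 : s ≠ 1) :
    ∃ t : SpecialLinearGroup (Fin 2) F, QuotientGroup.mk' (center (SpecialLinearGroup (Fin 2) F)) t = s ∧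
      t * t = -1 := by
  obtain ⟨t, rfl⟩ := QuotientGroup.mk'_surjective _ s
  refine ⟨t, rfl, ?_⟩
  have h3 : QuotientGroup.mk' (center (SpecialLinearGroup (Fin 2) F)) (t * t) = 1 := by
    rw [map_mul]; exact hs
  rcases (mk_eq_one _).1 h3 with h | h
  · exfalso
    apply hs1
    exact (mk_eq_one _).2 (H6.SL2Tor.eq_one_or_neg_one h2 (by rw [pow_two]; exact h))
  · exact h

theorem lift_odd {x : ProjectiveSpecialLinearGroup (Fin 2) F} {m : ℕ} (hm : Odd m) (hx : x ^ m = 1) :
    ∃ t : SpecialLinearGroup (Fin 2) F, QuotientGroup.mk' (center (SpecialLinearGroup (Fin 2) F)) t = x ∧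
      t ^ m = 1 := by
  obtain ⟨t, rfl⟩ := QuotientGroup.mk'_surjective _ x
  have h3 : QuotientGroup.mk' (center (SpecialLinearGroup (Fin 2) F)) (t ^ m) = 1 := by
    rw [map_pow]; exact hx
  rcases (mk_eq_one _).1 h3 with h | h
  · exact ⟨t, rfl, h⟩
  · refine ⟨-t, ?_, ?_⟩
    · have h4 : (QuotientGroup.mk' (center (SpecialLinearGroup (Fin 2) F))) (-1) = 1 :=
        (mk_eq_one _).2 (Or.inr rfl)
      rw [← neg_one_mul t, map_mul, h4, one_mul]
    · rw [hm.neg_pow, h, neg_neg]

theorem comm_lift {t x : SpecialLinearGroup (Fin 2) F} {m : ℕ} (hm : Odd m) (hx : x ^ m = 1)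
    (h : QuotientGroup.mk' (center (SpecialLinearGroup (Fin 2) F)) t *
        QuotientGroup.mk' (center (SpecialLinearGroup (Fin 2) F)) x =
      QuotientGroup.mk' (center (SpecialLinearGroup (Fin 2) F)) x *
        QuotientGroup.mk' (center (SpecialLinearGroup (Fin 2) F)) t) : t * x = x * t := by
  rcases H58.PSL2V4.sg_of_mk t x h with h3 | h3
  · exact mul_inv_eq_iff_eq_mul.1 h3
  · exfalso
    have h4 : (t * x * t⁻¹) ^ m = 1 := by rw [conj_pow, hx, mul_one, mul_inv_cancel]
    rw [h3, hm.neg_pow, hx] at h4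
    exact H58.SL2Prod.neg_one_ne_one h2 h4

/-- if the involution `s` commutes with `x ≠ 1` of odd order and `kxk⁻¹` commutes with `x`, then `k` commutes
with `s` -/
theorem cent {s x k : ProjectiveSpecialLinearGroup (Fin 2) F} (hs : s * s = 1) (hs1 : s ≠ 1) {m : ℕ} (hm : Odd m)
    (hx : x ^ m = 1) (hx1 : x ≠ 1) (hsx : s * x = x * s) (hkx : (k * x * k⁻¹) * x = x * (k * x * k⁻¹)) :
    k * s = s * k := by
  obtain ⟨t, rfl, ht⟩ := lift_inv h2 hs hs1
  obtain ⟨y, rfl, hy⟩ := lift_odd h2 hm hx
  obtain ⟨l, rfl⟩ := QuotientGroup.mk'_surjective _ k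
  have e1 : t * y = y * t := comm_lift h2 hm hy hsx
  have e2 : (l * y * l⁻¹) * y = y * (l * y * l⁻¹) := by
    apply comm_lift h2 hm hy
    rw [map_mul, map_mul, map_inv]; exact hkx
  have hyc : y ∉ center (SpecialLinearGroup (Fin 2) F) := by
    intro h; exact hx1 ((QuotientGroup.eq_one_iff _).2 h)
  have hlyc : l * y * l⁻¹ ∉ center (SpecialLinearGroup (Fin 2) F) := by
    intro h
    apply hyc
    have := (inferInstance : (center (SpecialLinearGroup (Fin 2) F)).Normal).conj_mem _ h l⁻¹
    have he : l⁻¹ * (l * y * l⁻¹) * l⁻¹⁻¹ = y := by group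
    rwa [he] at this
  have e3 : t * (l * y * l⁻¹) = (l * y * l⁻¹) * t := sl2_comm_trans hyc e1 e2.symm
  have e4 : (l * y * l⁻¹) * (l * t * l⁻¹) = (l * t * l⁻¹) * (l * y * l⁻¹) := by
    have : l * (y * t) * l⁻¹ = l * (t * y) * l⁻¹ := by rw [e1]
    calc (l * y * l⁻¹) * (l * t * l⁻¹) = l * (y * t) * l⁻¹ := by group
      _ = l * (t * y) * l⁻¹ := this
      _ = _ := by group
  have e5 : t * (l * t * l⁻¹) = (l * t * l⁻¹) * t := sl2_comm_trans hlyc e3 e4
  have e6 : (l * t * l⁻¹) * (l * t * l⁻¹) = -1 := by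
    have : (l * t * l⁻¹) * (l * t * l⁻¹) = l * (t * t) * l⁻¹ := by group
    rw [this, ht, mul_neg_one, neg_mul, mul_inv_cancel]
  have e7 : (t * (l * t * l⁻¹)) ^ 2 = 1 := by
    rw [pow_two]
    calc t * (l * t * l⁻¹) * (t * (l * t * l⁻¹)) = t * ((l * t * l⁻¹) * t) * (l * t * l⁻¹) := by
          group
      _ = (t * t) * ((l * t * l⁻¹) * (l * t * l⁻¹)) := by rw [← e5]; group
      _ = 1 := by rw [ht, e6]; simp
  have e8 : QuotientGroup.mk' (center (SpecialLinearGroup (Fin 2) F)) (t * (l * t * l⁻¹)) = 1 :=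
    (mk_eq_one _).2 (H6.SL2Tor.eq_one_or_neg_one h2 e7)
  rw [map_mul, map_mul, map_mul, map_inv] at e8
  generalize QuotientGroup.mk' (center (SpecialLinearGroup (Fin 2) F)) t = s at *
  generalize QuotientGroup.mk' (center (SpecialLinearGroup (Fin 2) F)) l = k at *
  have h5 : k * s * k⁻¹ = s := by
    have : k * s * k⁻¹ = s * (s * (k * s * k⁻¹)) := by rw [← mul_assoc s s, hs, one_mul]
    rw [this, e8, mul_one]
  exact mul_inv_eq_iff_eq_mul.1 h5

end sl2

/-- the abstract argument for a self-centralizing Klein four Sylow 2-subgroup -/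
theorem klein_pron {G : Type*} [Group G] [Finite G] (S : Sylow 2 G) (a w : G) (haa : a * a = 1) (hww : w * w = 1)
    (ha1 : a ≠ 1) (hw1 : w ≠ 1) (haw : a ≠ w) (hcom : a * w = w * a)
    (hS : ∀ x, x ∈ (S : Subgroup G) ↔ x = 1 ∨ x = a ∨ x = w ∨ x = a * w)
    (hc : ∀ g : G, g * a = a * g → g * w = w * g → g ∈ (S : Subgroup G))
    (hcent : ∀ s x k : G, s * s = 1 → s ≠ 1 → ∀ m, Odd m → x ^ m = 1 → x ≠ 1 → s * x = x * s →
      (k * x * k⁻¹) * x = x * (k * x * k⁻¹) → k * s = s * k)
    (H : Subgroup G) (hH : Odd H.index) : Cfsg.IsPronormal H := by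
  have hp : Fact (Nat.Prime 2) := ⟨Nat.prime_two⟩
  have haw1 : a * w ≠ 1 := by
    intro h
    apply haw
    rw [mul_eq_one_iff_eq_inv, inv_eq_of_mul_eq_one_left hww] at h
    exact h
  have hawa : a * w ≠ a := fun h => hw1 (by simpa using h)
  have haww : a * w ≠ w := fun h => ha1 (by simpa using h)
  have haw2 : (a * w) * (a * w) = 1 := by
    calc (a * w) * (a * w) = a * (w * a) * w := by group
      _ = a * (a * w) * w := by rw [hcom]
      _ = (a * a) * (w * w) := by group
      _ = 1 := by rw [haa, hww, one_mul]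
  have hai : a⁻¹ = a := inv_eq_of_mul_eq_one_left haa
  have hwi : w⁻¹ = w := inv_eq_of_mul_eq_one_left hww
  have haS : a ∈ (S : Subgroup G) := (hS a).2 (by tauto)
  have hwS : w ∈ (S : Subgroup G) := (hS w).2 (by tauto)
  refine pron_of_sylow S ?_ H (by rw [← even_iff_two_dvd, Nat.not_even_iff_odd]; exact hH)
  clear hH H
  intro H hSH g hg
  generalize hK : H ⊔ MulAut.conj g • H = K
  have hSK : (S : Subgroup G) ≤ K := by rw [← hK]; exact hSH.trans le_sup_left
  have hHK : H ≤ K := by rw [← hK]; exact le_sup_left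
  by_cases hgK : g ∈ K
  · exact ⟨g, hgK, rfl⟩
  have hgS : g ∉ (S : Subgroup G) := fun h => hgK (hSK h)
  have typ : ∀ n ∈ normalizer ((S : Subgroup G) : Set G), n ∉ (S : Subgroup G) →
      (n * a * n⁻¹ = w ∧ n * w * n⁻¹ = a * w) ∨ (n * a * n⁻¹ = a * w ∧ n * w * n⁻¹ = a) := by
    intro n hn hnS
    rw [Subgroup.mem_normalizer_iff] at hn
    have h1 := (hS _).1 ((hn a).1 haS)
    have h2 := (hS _).1 ((hn w).1 hwS)
    have hinj : ∀ x y : G, n * x * n⁻¹ = n * y * n⁻¹ → x = y := by
      intro x y h
      exact mul_left_cancel (mul_right_cancel h)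
    have h1' : n * a * n⁻¹ ≠ 1 := by
      intro h; apply ha1; apply hinj; rw [h]; group
    have h2' : n * w * n⁻¹ ≠ 1 := by
      intro h; apply hw1; apply hinj; rw [h]; group
    have hmul : n * (a * w) * n⁻¹ = (n * a * n⁻¹) * (n * w * n⁻¹) := by group
    -- squares
    have hsq : n * n ∈ (S : Subgroup G) → False := by
      intro h
      apply hnS
      refine mem_sylow_of_normalizer S (k := 2) ?_ ?_
      · rw [Subgroup.mem_normalizer_iff]; exact hn
      · have h5 : ∀ y ∈ (S : Subgroup G), y * y = 1 := by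
          intro y hy
          rcases (hS y).1 hy with rfl | rfl | rfl | rfl
          · simp
          · exact haa
          · exact hww
          · exact haw2
        have : n ^ 2 ^ 2 = (n * n) * (n * n) := by
          rw [show (2:ℕ) ^ 2 = 2 * 2 by norm_num, pow_mul, pow_two, pow_two]
        rw [this, h5 _ h]
    rcases h1 with h1 | h1 | h1 | h1
    · exact absurd h1 h1'
    · exfalso
      rcases h2 with h2 | h2 | h2 | h2
      · exact h2' h2
      · exact haw (hinj _ _ (h1.trans h2.symm))
      · exact hnS (hc n (mul_inv_eq_iff_eq_mul.1 h1) (mul_inv_eq_iff_eq_mul.1 h2))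
      · apply hsq
        apply hc
        · have : n * n * a = n * (n * a * n⁻¹) * n⁻¹ * (n * n) := by group
          rw [this, h1, h1]
        · have : n * n * w = n * (n * w * n⁻¹) * n⁻¹ * (n * n) := by group
          rw [this, h2, hmul, h1, h2, ← mul_assoc a a w, haa, one_mul]
    · rcases h2 with h2 | h2 | h2 | h2
      · exact absurd h2 h2'
      · exfalso
        apply hsq
        apply hc
        · have : n * n * a = n * (n * a * n⁻¹) * n⁻¹ * (n * n) := by group
          rw [this, h1, h2]
        · have : n * n * w = n * (n * w * n⁻¹) * n⁻¹ * (n * n) := by group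
          rw [this, h2, h1]
      · exact absurd (hinj _ _ (h1.trans h2.symm)) haw
      · exact Or.inl ⟨h1, h2⟩
    · rcases h2 with h2 | h2 | h2 | h2
      · exact absurd h2 h2'
      · exact Or.inr ⟨h1, h2⟩
      · exfalso
        apply hsq
        apply hc
        · have : n * n * a = n * (n * a * n⁻¹) * n⁻¹ * (n * n) := by group
          rw [this, h1, hmul, h1, h2, mul_assoc a w w, hww, mul_one]
        · have : n * n * w = n * (n * w * n⁻¹) * n⁻¹ * (n * n) := by group
          rw [this, h2, h2]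
      · exact absurd (hinj _ _ (h1.trans h2.symm)) haw
  have hNK : ∀ k ∈ K, k ∈ normalizer ((S : Subgroup G) : Set G) → k ∈ (S : Subgroup G) := by
    intro k hk hkn
    by_contra hkS
    have cmul : ∀ n x y z : G, n * x * n⁻¹ = y → n⁻¹ * y * n = x := by
      intro n x y z h; rw [← h]; group
    have c1 : (k⁻¹ * g) ∈ (S : Subgroup G) → False := by
      intro h
      apply hgK
      have : g = k * (k⁻¹ * g) := by group
      rw [this]; exact mul_mem hk (hSK h)
    have c2 : (k * g) ∈ (S : Subgroup G) → False := by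
      intro h
      apply hgK
      have : g = k⁻¹ * (k * g) := by group
      rw [this]; exact mul_mem (inv_mem hk) (hSK h)
    have d1 : ∀ x y : G, g * x * g⁻¹ = y → k * x * k⁻¹ = y → (k⁻¹ * g) * x = x * (k⁻¹ * g) := by
      intro x y h h'
      have e1 : k⁻¹ * y * k = x := by rw [← h']; group
      calc (k⁻¹ * g) * x = k⁻¹ * (g * x * g⁻¹) * k * (k⁻¹ * g) := by group
        _ = x * (k⁻¹ * g) := by rw [h, e1]
    have d2 : ∀ x y : G, g * x * g⁻¹ = y → k * y * k⁻¹ = x → (k * g) * x = x * (k * g) := by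
      intro x y h h'
      calc (k * g) * x = k * (g * x * g⁻¹) * k⁻¹ * (k * g) := by group
        _ = x * (k * g) := by rw [h, h']
    have hmul : ∀ n : G, n * (a * w) * n⁻¹ = (n * a * n⁻¹) * (n * w * n⁻¹) := by intro n; group
    rcases typ g hg hgS with ⟨g1, g2⟩ | ⟨g1, g2⟩ <;> rcases typ k hkn hkS with ⟨k1, k2⟩ | ⟨k1, k2⟩
    · exact c1 (hc _ (d1 _ _ g1 k1) (d1 _ _ g2 k2))
    · refine c2 (hc _ (d2 _ _ g1 k2) (d2 _ _ g2 ?_))
      rw [hmul, k1, k2, hcom, mul_assoc, haa, mul_one]
    · refine c2 (hc _ (d2 _ _ g1 ?_) (d2 _ _ g2 k1))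
      rw [hmul, k1, k2, hcom, ← mul_assoc, hww, one_mul]
    · exact c1 (hc _ (d1 _ _ g1 k1) (d1 _ _ g2 k2))
  -- if `H = S` we are done
  have done : H ≤ (S : Subgroup G) → ∃ x ∈ K, MulAut.conj g • H = MulAut.conj x • H := by
    intro h
    have hHS : H = S := le_antisymm h hSH
    refine ⟨1, one_mem _, ?_⟩
    rw [map_one, one_smul, hHS]
    ext x
    rw [mem_cs]
    rw [Subgroup.mem_normalizer_iff] at hg
    rw [hg (g⁻¹ * x * g)]
    have : g * (g⁻¹ * x * g) * g⁻¹ = x := by group
    rw [this]
  have hcommS : ∀ x ∈ (S : Subgroup G), ∀ y ∈ (S : Subgroup G), x * y = y * x := by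
    have h0 : ∀ y ∈ (S : Subgroup G), y * y = 1 := by
      intro y hy
      rcases (hS y).1 hy with rfl | rfl | rfl | rfl
      · simp
      · exact haa
      · exact hww
      · exact haw2
    intro x hx y hy
    have h1 := h0 _ (mul_mem hx hy)
    have h2 : (x * y)⁻¹ = x * y := inv_eq_of_mul_eq_one_left h1
    rw [← h2, mul_inv_rev, inv_eq_of_mul_eq_one_left (h0 x hx), inv_eq_of_mul_eq_one_left (h0 y hy)]
  -- Burnside
  have hP : normalizer ((S.subtype hSK : Subgroup K) : Set K) ≤ centralizer ((S.subtype hSK : Subgroup K) : Set K) := by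
    intro k hk
    have hk' : (k : G) ∈ normalizer ((S : Subgroup G) : Set G) := by
      rw [Subgroup.mem_normalizer_iff] at hk ⊢
      intro x
      by_cases hx : x ∈ K
      · have := hk ⟨x, hx⟩
        rw [Sylow.coe_subtype, Subgroup.mem_subgroupOf, Subgroup.mem_subgroupOf] at this
        exact this
      · constructor
        · intro h; exact absurd (hSK h) hx
        · intro h
          exfalso
          apply hx
          have h1 := hSK h
          have : x = (k : G)⁻¹ * (k * x * (k : G)⁻¹) * k := by group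
          rw [this]
          exact mul_mem (mul_mem (inv_mem k.2) h1) k.2
    have h1 := hNK k k.2 hk'
    rw [Subgroup.mem_centralizer_iff]
    intro x hx
    apply Subtype.ext
    have hx' : (x : G) ∈ (S : Subgroup G) := by
      have : x ∈ (S.subtype hSK : Subgroup K) := hx
      rwa [Sylow.coe_subtype, Subgroup.mem_subgroupOf] at this
    exact hcommS _ hx' _ h1
  have hcompl := MonoidHom.ker_transferSylow_isComplement' (S.subtype hSK) hP
  generalize hO : (MonoidHom.transferSylow (S.subtype hSK) hP).ker = O at hcompl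
  have hOn : O.Normal := by rw [← hO]; infer_instance
  by_cases hO1 : O = ⊥
  · apply done
    intro h hh
    rw [hO1, Subgroup.isComplement'_bot_left] at hcompl
    have : (⟨h, hHK hh⟩ : K) ∈ (S.subtype hSK : Subgroup K) := by rw [hcompl]; trivial
    rwa [Sylow.coe_subtype, Subgroup.mem_subgroupOf] at this
  have hOodd : Odd (Nat.card O) := by
    have h1 : Nat.card O = (S.subtype hSK : Subgroup K).index := by
      have := hcompl.index_eq_card
      exact this.symm
    rw [h1, ← Nat.not_even_iff_odd, even_iff_two_dvd]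
    exact (S.subtype hSK).not_dvd_index
  obtain ⟨R, hRn, hRO, hR1, hRc⟩ := exists_abelian_normal _ O rfl hO1 (Cfsg.Agent.S0205.result hOodd)
  have hRodd : ∀ x ∈ R, x ^ Nat.card O = 1 := by
    intro x hx
    have : (⟨x, hRO hx⟩ : O) ^ Nat.card O = 1 := pow_card_eq_one'
    exact congrArg Subtype.val this
  -- fixed points
  obtain ⟨z, hzR, hz1⟩ := (Subgroup.bot_or_exists_ne_one R).resolve_left hR1
  have key : ∃ s ∈ (S : Subgroup G), s ≠ 1 ∧ ∃ x ∈ R, x ≠ 1 ∧ s * (x : G) = (x : G) * s := by
    have inv : ∀ s (hs : s ∈ (S : Subgroup G)), s * s = 1 → (∀ x ∈ R, s * (x : G) = (x : G) * s → x = 1) →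
        ∀ x ∈ R, s * (x : G) * s = (x : G)⁻¹ := by
      intro s hs hss hfix x hx
      have h1 : (⟨s, hSK hs⟩ : K) * x * (⟨s, hSK hs⟩ : K)⁻¹ ∈ R := hRn.conj_mem _ hx _
      have hsi : s⁻¹ = s := inv_eq_of_mul_eq_one_left hss
      have h2 := hfix _ (mul_mem hx h1) (by
        have hc1 := congrArg (Subtype.val) (hRc _ hx _ h1)
        simp only [Subgroup.coe_mul, Subgroup.coe_inv, hsi] at hc1 ⊢
        calc s * ((x : G) * (s * x * s)) = (s * x * s * x) * s := by group
          _ = (x * (s * x * s)) * s := by rw [← hc1])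
      have h3 := congrArg (Subtype.val) h2
      simp only [Subgroup.coe_mul, Subgroup.coe_inv, hsi, Subgroup.coe_one] at h3
      exact eq_inv_of_mul_eq_one_right h3
    by_contra hcon
    push Not at hcon
    have h1 := inv a haS haa (fun x hx hh => by
      by_contra hx1
      exact hcon a haS ha1 x hx hx1 hh) z hzR
    have h2 := inv w hwS hww (fun x hx hh => by
      by_contra hx1
      exact hcon w hwS hw1 x hx hx1 hh) z hzR
    refine hcon (a * w) (mul_mem haS hwS) haw1 z hzR hz1 ?_
    have h3 : a * (z : G)⁻¹ * a = z := by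
      have : a * (z : G)⁻¹ * a = (a⁻¹ * z * a⁻¹)⁻¹ := by group
      rw [this, hai, h1, inv_inv]
    have h4 : (a * w) * (z : G) * (w * a) = z := by
      calc (a * w) * (z : G) * (w * a) = a * (w * z * w) * a := by group
        _ = z := by rw [h2, h3]
    have h5 : (w * a) * (a * w) = 1 := by
      calc (w * a) * (a * w) = w * (a * a) * w := by group
        _ = 1 := by rw [haa, mul_one, hww]
    calc a * w * (z : G) = (a * w) * z * ((w * a) * (a * w)) := by rw [h5, mul_one]
      _ = ((a * w) * z * (w * a)) * (a * w) := by group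
      _ = z * (a * w) := by rw [h4]
  obtain ⟨s, hsS, hs1, x, hxR, hx1, hsx⟩ := key
  have hss : s * s = 1 := by
    rcases (hS s).1 hsS with rfl | rfl | rfl | rfl
    · simp
    · exact haa
    · exact hww
    · exact haw2
  have hKs : ∀ k ∈ K, k * s = s * k := by
    intro k hk
    refine hcent s x k hss hs1 (Nat.card O) hOodd ?_ ?_ hsx ?_
    · have := congrArg Subtype.val (hRodd x hxR)
      simpa using this
    · intro h; exact hx1 (Subtype.ext h)
    · have h1 : (⟨k, hk⟩ : K) * x * (⟨k, hk⟩ : K)⁻¹ ∈ R := hRn.conj_mem _ hxR _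
      have := congrArg Subtype.val (hRc _ h1 _ hxR)
      simpa using this
  apply done
  -- the other involution
  have hs' : g⁻¹ * s * g ∈ (S : Subgroup G) := by
    rw [Subgroup.mem_normalizer_iff] at hg
    rw [hg]
    have : g * (g⁻¹ * s * g) * g⁻¹ = s := by group
    rw [this]; exact hsS
  have hHs' : ∀ h ∈ H, h * (g⁻¹ * s * g) = (g⁻¹ * s * g) * h := by
    intro h hh
    have h1 : g * h * g⁻¹ ∈ K := by
      rw [← hK]
      apply (le_sup_right : MulAut.conj g • H ≤ _)
      rw [mem_cs]
      have : g⁻¹ * (g * h * g⁻¹) * g = h := by group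
      rw [this]; exact hh
    have h2 := hKs _ h1
    calc h * (g⁻¹ * s * g) = g⁻¹ * ((g * h * g⁻¹) * s) * g := by group
      _ = g⁻¹ * (s * (g * h * g⁻¹)) * g := by rw [h2]
      _ = _ := by group
  have hne : g⁻¹ * s * g ≠ s := by
    intro h
    have h1 : g * s * g⁻¹ = s := by
      calc g * s * g⁻¹ = g * (g⁻¹ * s * g) * g⁻¹ := by rw [h]
        _ = s := by group
    have hmul : g * (a * w) * g⁻¹ = (g * a * g⁻¹) * (g * w * g⁻¹) := by group
    rcases typ g hg hgS with ⟨g1, g2⟩ | ⟨g1, g2⟩ <;> rcases (hS s).1 hsS with rfl | rfl | rfl | rfl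
    · exact hs1 rfl
    · exact haw (h1.symm.trans g1)
    · exact haww (g2.symm.trans h1)
    · rw [hmul, g1, g2, hcom, ← mul_assoc, hww, one_mul] at h1
      rw [← hcom] at h1
      exact hawa h1.symm
    · exact hs1 rfl
    · exact hawa (g1.symm.trans h1)
    · exact haw (g2.symm.trans h1)
    · rw [hmul, g1, g2, hcom, mul_assoc, haa, mul_one] at h1
      rw [← hcom] at h1
      exact haww h1.symm
  have hne1 : g⁻¹ * s * g ≠ 1 := by
    intro h
    apply hs1
    have : s = g * (g⁻¹ * s * g) * g⁻¹ := by group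
    rw [this, h]; group
  intro h hh
  have e1 := hKs h (hHK hh)
  have e2 := hHs' h hh
  generalize g⁻¹ * s * g = s' at *
  -- from commuting with two distinct involutions
  have e3 : h * (s * s') = (s * s') * h := by rw [← mul_assoc, e1, mul_assoc, e2, mul_assoc]
  have all : ∀ y ∈ (S : Subgroup G), h * y = y * h := by
    intro y hy
    have : y = 1 ∨ y = s ∨ y = s' ∨ y = s * s' := by
      rcases (hS s).1 hsS with rfl | rfl | rfl | rfl <;> rcases (hS s').1 hs' with rfl | rfl | rfl | rfl <;>
        first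
        | exact absurd rfl hs1
        | exact absurd rfl hne1
        | exact absurd rfl hne
        | skip
      all_goals rcases (hS y).1 hy with rfl | rfl | rfl | rfl
      all_goals first
        | (left; rfl)
        | (right; left; rfl)
        | (right; right; left; rfl)
        | skip
      all_goals right; right; right
      all_goals first
        | rfl
        | exact hcom
        | (rw [← mul_assoc, haa, one_mul])
        | (rw [hcom, mul_assoc, haa, mul_one])
        | (rw [mul_assoc, hww, mul_one])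
        | (rw [hcom, ← mul_assoc, hww, one_mul])
    rcases this with rfl | rfl | rfl | rfl
    · simp
    · exact e1
    · exact e2
    · exact e3
  exact hc h (all a haS) (all w hwS)

theorem pron_two {F : Type*} [Field F] [Fintype F] (hq : Fintype.card F % 8 = 3 ∨ Fintype.card F % 8 = 5)
    (H : Subgroup (ProjectiveSpecialLinearGroup (Fin 2) F)) (hH : Odd H.index) : Cfsg.IsPronormal H := by
  classical
  have hp : Fact (Nat.Prime 2) := ⟨Nat.prime_two⟩
  have h2 : (2 : F) ≠ 0 := H6.SL2Tor.two_ne_zero_of_odd (Nat.odd_iff.2 (by omega))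
  obtain ⟨a, w, haa, hww, ha1, hw1, haw, hcom, hc⟩ := H58.PSL2V4.exists_v4 (F := F) h2
  have hai : a⁻¹ = a := inv_eq_of_mul_eq_one_left haa
  have hwi : w⁻¹ = w := inv_eq_of_mul_eq_one_left hww
  have haw1 : a * w ≠ 1 := by
    intro h
    apply haw
    rw [mul_eq_one_iff_eq_inv, hwi] at h
    exact h
  have hawa : a * w ≠ a := fun h => hw1 (by simpa using h)
  have haww : a * w ≠ w := fun h => ha1 (by simpa using h)
  have haw2 : (a * w) * (a * w) = 1 := by
    calc (a * w) * (a * w) = a * (w * a) * w := by group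
      _ = a * (a * w) * w := by rw [hcom]
      _ = (a * a) * (w * w) := by group
      _ = 1 := by rw [haa, hww, one_mul]
  -- the four-group
  obtain ⟨V, hV⟩ : ∃ V : Subgroup (ProjectiveSpecialLinearGroup (Fin 2) F),
      ∀ x, x ∈ V ↔ x = 1 ∨ x = a ∨ x = w ∨ x = a * w := by
    refine ⟨centralizer {a, w}, ?_⟩
    intro x
    rw [Subgroup.mem_centralizer_iff]
    constructor
    · intro h
      exact hc x (h a (by simp)).symm (h w (by simp)).symm
    · intro h y hy
      rcases hy with rfl | hy
      · rcases h with rfl | rfl | rfl | rfl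
        · simp
        · rfl
        · exact hcom
        · calc y * (y * w) = y * (w * y) := by rw [hcom]
            _ = (y * w) * y := by group
      · have hy : y = w := hy
        subst hy
        rcases h with rfl | rfl | rfl | rfl
        · simp
        · exact hcom.symm
        · rfl
        · calc y * (a * y) = (y * a) * y := by group
            _ = (a * y) * y := by rw [hcom]
  have hVcard : Nat.card V = 4 := by
    have h1 : Nat.card V = Nat.card ({1, a, w, a * w} : Finset (ProjectiveSpecialLinearGroup (Fin 2) F)) := by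
      refine Nat.card_congr (Equiv.subtypeEquivRight ?_)
      intro x
      rw [hV]
      simp
    rw [h1, Nat.card_eq_fintype_card, Fintype.card_coe, Finset.card_insert_of_notMem, Finset.card_insert_of_notMem,
      Finset.card_insert_of_notMem, Finset.card_singleton]
    · simpa using haww.symm
    · simp only [Finset.mem_insert, Finset.mem_singleton, not_or]
      exact ⟨haw, hawa.symm⟩
    · simp only [Finset.mem_insert, Finset.mem_singleton, not_or]
      exact ⟨ha1.symm, hw1.symm, haw1.symm⟩
  obtain ⟨P⟩ : Nonempty (Sylow 2 (ProjectiveSpecialLinearGroup (Fin 2) F)) := inferInstance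
  have hPk := H6.SL2Tor.psl2_klein rfl hq P
  have hPc : Nat.card (P : Subgroup (ProjectiveSpecialLinearGroup (Fin 2) F)) = 4 := hPk.card_four
  have hPV : Nat.card V = 2 ^ (Nat.card (ProjectiveSpecialLinearGroup (Fin 2) F)).factorization 2 := by
    rw [hVcard, ← hPc]
    exact P.card_eq_multiplicity
  refine klein_pron (Sylow.ofCard V hPV) a w haa hww ha1 hw1 haw hcom ?_ ?_ ?_ H hH
  · intro x
    exact hV x
  · intro g h3 h4
    exact (hV g).2 (hc g h3 h4)
  · intro s x k h3 h4 m hm h5 h6 h7 h8
    exact cent h2 h3 h4 hm h5 h6 h7 h8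

/-- `PSL₂(q)`, `q` odd -/
theorem pron_two_of_odd {F : Type*} [Field F] [Fintype F] (hodd : Odd (Fintype.card F))
    (H : Subgroup (ProjectiveSpecialLinearGroup (Fin 2) F)) (hH : Odd H.index) : Cfsg.IsPronormal H := by
  by_cases hq : Fintype.card F % 8 = 3 ∨ Fintype.card F % 8 = 5
  · exact pron_two hq H hH
  · have hq' : Fintype.card F % 8 = 1 ∨ Fintype.card F % 8 = 7 := by
      have := Nat.odd_iff.1 hodd
      omega
    have hp : Fact (Nat.Prime 2) := ⟨Nat.prime_two⟩
    obtain ⟨S⟩ : Nonempty (Sylow 2 (SpecialLinearGroup (Fin 2) F)) := inferInstance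
    have h1 := (Cfsg.Agent.S2431.result hodd S).2.1 hq'
    refine P.pron ⟨S, ?_⟩ H hH
    intro x hx ho
    rw [h1] at hx
    have h2 : x = 1 := by
      obtain ⟨k, hk⟩ := S.isPGroup' ⟨x, hx⟩
      have hk' : x ^ 2 ^ k = 1 := by simpa using congrArg Subtype.val hk
      have h3 : orderOf x ∣ 2 ^ k := orderOf_dvd_of_pow_eq_one hk'
      have h4 : Nat.Coprime (orderOf x) (2 ^ k) := Nat.Coprime.pow_right _ (Nat.coprime_two_right.mpr ho)
      exact orderOf_eq_one_iff.1 (Nat.Coprime.eq_one_of_dvd h4 h3)
    rw [h2]; exact one_mem _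

end H38.Pron
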