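import Mathlib
import Cfsg.Agent.Lib.H67.IrrCyc
import Cfsg.Agent.Lib.H16.Forms

/-!
Finite fields generated by a root of unity of prime order.
-/

set_option autoImplicit false

namespace H38.Sch

section gen

variable {K : Type*} [Field K] [Fintype K] {p q : ℕ} [hp : Fact p.Prime] [hq : Fact q.Prime]

omit hq in
theorem order_pos (hpq : p ≠ q) [Fact q.Prime] : 0 < orderOf (p : ZMod q) := by
  have hqu : IsUnit (p : ZMod q) := by
    rw [ZMod.isUnit_iff_coprime]
    exact (Nat.coprime_primes hp.out (Fact.out : q.Prime)).2 hpq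
  exact orderOf_pos_iff.2 (isOfFinOrder_iff_isUnit.2 hqu)

theorem dvd_iff (n : ℕ) : q ∣ p ^ n - 1 ↔ orderOf (p : ZMod q) ∣ n := by
  rw [orderOf_dvd_iff_pow_eq_one, ← ZMod.natCast_eq_zero_iff, Nat.cast_sub (Nat.one_le_pow _ _ hp.out.pos)]
  push_cast
  rw [sub_eq_zero]

theorem exists_root (hK : Fintype.card K = p ^ orderOf (p : ZMod q)) : ∃ ζ : K, orderOf ζ = q := by
  have h1 : q ∣ Nat.card Kˣ := by
    rw [Nat.card_units, Nat.card_eq_fintype_card, hK]
    exact (dvd_iff _).2 dvd_rfl
  obtain ⟨u, hu⟩ := exists_prime_orderOf_dvd_card' q h1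
  exact ⟨u, by rw [orderOf_units]; exact hu⟩

/-- a root of unity of order `q` generates -/
theorem closure_root (hpq : p ≠ q) (hK : Fintype.card K = p ^ orderOf (p : ZMod q)) {ζ : K} (hζ : orderOf ζ = q) :
    Subring.closure {ζ} = ⊤ := by
  classical
  set R := Subring.closure {ζ} with hR
  have hfin : Finite R := inferInstance
  have hmem : ζ ∈ R := Subring.subset_closure rfl
  have hζ0 : ζ ≠ 0 := by
    rintro rfl
    have h1 := pow_orderOf_eq_one (0 : K)
    rw [hζ, zero_pow (Fact.out : q.Prime).ne_zero] at h1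
    exact zero_ne_one h1
  obtain ⟨b, hb, hcard⟩ : ∃ b ≤ orderOf (p : ZMod q), Nat.card R = p ^ b := by
    have h1 : Nat.card R.toAddSubgroup ∣ Nat.card K := AddSubgroup.card_addSubgroup_dvd_card _
    rw [Nat.card_eq_fintype_card (α := K), hK] at h1
    obtain ⟨b, hb, h2⟩ := (Nat.dvd_prime_pow hp.out).1 h1
    exact ⟨b, hb, h2⟩
  have hfield : IsField R := Finite.isField_of_domain R
  letI := hfield.toField
  have h2 : Nat.card Rˣ = Nat.card R - 1 := Nat.card_units R
  have hz : (⟨ζ, hmem⟩ : R) ≠ 0 := by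
    intro h
    exact hζ0 (congrArg Subtype.val h)
  have h3 : orderOf (Units.mk0 (⟨ζ, hmem⟩ : R) hz) = q := by
    rw [← orderOf_units, Units.val_mk0, ← orderOf_injective (R.subtype : R →* K) Subtype.val_injective]
    exact hζ
  have h4 : q ∣ p ^ b - 1 := by
    rw [← hcard, ← h2, ← h3]
    exact orderOf_dvd_natCard _
  rw [dvd_iff] at h4
  have h5 : b = orderOf (p : ZMod q) := by
    rcases Nat.eq_zero_or_pos b with h | h
    · exfalso
      rw [h, pow_zero] at hcard
      have : Nontrivial R := inferInstance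
      exact absurd hcard (Finite.one_lt_card (α := R)).ne'
    · exact le_antisymm hb (Nat.le_of_dvd h h4)
  have h6 : Nat.card R = Nat.card K := by rw [hcard, h5, Nat.card_eq_fintype_card, hK]
  have h7 : (R : Set K) = Set.univ := by
    apply Set.eq_of_subset_of_ncard_le (Set.subset_univ _) _ (Set.toFinite _)
    rw [Set.ncard_univ]
    change _ ≤ Nat.card (R : Set K)
    exact h6.ge
  rw [eq_top_iff]
  intro x _
  have : x ∈ (R : Set K) := by rw [h7]; trivial
  exact this

omit [Fintype K] hp hq in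
/-- additive subgroups stable under a generator are everything -/
theorem add_top {ζ : K} (h : Subring.closure {ζ} = ⊤) (S : AddSubgroup K) (hS : ∀ s ∈ S, ζ * s ∈ S)
    (u : K) (hu : u ∈ S) (t : K) : t * u ∈ S := by
  have h1 : ∀ t ∈ Subring.closure {ζ}, ∀ s ∈ S, t * s ∈ S := by
    intro t ht
    induction ht using Subring.closure_induction with
    | mem x hx =>
      intro s hs
      rw [Set.mem_singleton_iff.1 hx]
      exact hS s hs
    | zero => intro s _; rw [zero_mul]; exact S.zero_mem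
    | one => intro s hs; rwa [one_mul]
    | add x y _ _ hx hy => intro s hs; rw [add_mul]; exact S.add_mem (hx s hs) (hy s hs)
    | neg x _ hx => intro s hs; rw [neg_mul]; exact S.neg_mem (hx s hs)
    | mul x y _ _ hx hy => intro s hs; rw [mul_assoc]; exact hx _ (hy s hs)
  exact h1 t (by rw [h]; trivial) u hu

omit [Fintype K] hp hq in
theorem add_top' {ζ : K} (h : Subring.closure {ζ} = ⊤) (S : AddSubgroup K) (hS : ∀ s ∈ S, ζ * s ∈ S)
    (hne : S ≠ ⊥) : S = ⊤ := by
  obtain ⟨u, hu0⟩ := AddSubgroup.ne_bot_iff_exists_ne_zero.1 hne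
  have hu : (u : K) ∈ S := u.2
  rw [eq_top_iff]
  intro x _
  have hu0' : (u : K) ≠ 0 := fun h => hu0 (Subtype.ext h)
  have := add_top h S hS u hu (x / u)
  rwa [div_mul_cancel₀ _ hu0'] at this

/-- the bar involution when the order of `p` modulo `q` is even -/
theorem exists_bar (hpq : p ≠ q) (hK : Fintype.card K = p ^ orderOf (p : ZMod q)) (hev : Even (orderOf (p : ZMod q)))
    {ζ : K} (hζ : orderOf ζ = q) :
    ∃ σ : K →+* K, (∀ x, σ (σ x) = x) ∧ σ ζ * ζ = 1 ∧ σ ≠ RingHom.id K := by
  obtain ⟨n, hn⟩ := hev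
  have hpos := order_pos (p := p) (q := q) hpq
  have hn0 : 0 < n := by omega
  have hchar : CharP K p := by
    obtain ⟨p', hp'⟩ := CharP.exists K
    obtain ⟨k, hp'prime, hk⟩ := FiniteField.card K p'
    rw [hK] at hk
    have h1 : p' = p := by
      have h2 : p' ∣ p ^ orderOf (p : ZMod q) := by
        rw [hk]; exact dvd_pow_self _ k.ne_zero
      exact (Nat.prime_dvd_prime_iff_eq hp'prime hp.out).1 (hp'prime.dvd_of_dvd_pow h2)
    rwa [h1] at hp'
  have hexp : ExpChar K p := ExpChar.prime hp.out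
  refine ⟨iterateFrobenius K p n, ?_, ?_, ?_⟩
  · intro x
    rw [iterateFrobenius_def, iterateFrobenius_def, ← pow_mul, ← pow_add, ← hn, ← hK, FiniteField.pow_card]
  · rw [iterateFrobenius_def, ← pow_succ, ← orderOf_dvd_iff_pow_eq_one, hζ]
    have h1 : q ∣ p ^ (n + n) - 1 := (dvd_iff _).2 (by rw [hn])
    have h2 : ¬ q ∣ p ^ n - 1 := by
      rw [dvd_iff]
      intro h
      have := Nat.le_of_dvd hn0 h
      omega
    have h3 : p ^ (n + n) - 1 = (p ^ n + 1) * (p ^ n - 1) := by
      rw [pow_add]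
      have h5 := Nat.sq_sub_sq (p ^ n) 1
      simpa [sq] using h5
    rw [h3] at h1
    exact ((Fact.out : q.Prime).dvd_mul.1 h1).resolve_right h2
  · intro h
    have h1 := congrArg (fun f => f ζ) h
    simp only [iterateFrobenius_def, RingHom.id_apply] at h1
    have hζ0 : ζ ≠ 0 := by
      rintro rfl
      have h1 := pow_orderOf_eq_one (0 : K)
      rw [hζ, zero_pow (Fact.out : q.Prime).ne_zero] at h1
      exact zero_ne_one h1
    have h2 : ζ ^ (p ^ n - 1) = 1 := by
      have h3 : ζ ^ (p ^ n - 1) * ζ = 1 * ζ := by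
        rw [← pow_succ, Nat.sub_add_cancel (Nat.one_le_pow _ _ hp.out.pos), h1, one_mul]
      exact mul_right_cancel₀ hζ0 h3
    rw [← orderOf_dvd_iff_pow_eq_one, hζ, dvd_iff] at h2
    have := Nat.le_of_dvd hn0 h2
    omega

/-- conversely, a bar involution forces the order to be even, or `q = 2` -/
theorem even_of_bar (hpq : p ≠ q) (hK : Fintype.card K = p ^ orderOf (p : ZMod q)) {ζ : K} (hζ : orderOf ζ = q)
    (σ : K →+* K) (hσ : ∀ x, σ (σ x) = x) (h1 : σ ≠ RingHom.id K) : Even (orderOf (p : ZMod q)) := by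
  have hchar : CharP K p := by
    obtain ⟨p', hp'⟩ := CharP.exists K
    obtain ⟨k, hp'prime, hk⟩ := FiniteField.card K p'
    rw [hK] at hk
    have h1 : p' = p := by
      have h2 : p' ∣ p ^ orderOf (p : ZMod q) := by
        rw [hk]; exact dvd_pow_self _ k.ne_zero
      exact (Nat.prime_dvd_prime_iff_eq hp'prime hp.out).1 (hp'prime.dvd_of_dvd_pow h2)
    rwa [h1] at hp'
  letI : Algebra (ZMod p) K := ZMod.algebra K p
  let τ : K ≃+* K := { σ with
    toFun := σ
    invFun := σ
    left_inv := hσ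
    right_inv := hσ }
  let τ' : K ≃ₐ[ZMod p] K := AlgEquiv.ofRingEquiv (f := τ) (by
    intro r
    have : (τ : K →+* K).comp (algebraMap (ZMod p) K) = algebraMap (ZMod p) K := Subsingleton.elim _ _
    exact congrArg (fun f => f r) this)
  have h2 : Nat.card (K ≃ₐ[ZMod p] K) = Module.finrank (ZMod p) K := IsGalois.card_aut_eq_finrank _ _
  have h3 : Module.finrank (ZMod p) K = orderOf (p : ZMod q) := by
    have h4 := Module.natCard_eq_pow_finrank (K := ZMod p) (V := K)
    rw [Nat.card_zmod, Nat.card_eq_fintype_card, hK] at h4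
    exact (Nat.pow_right_injective hp.out.two_le h4).symm
  have h5 : orderOf τ' = 2 := by
    apply orderOf_eq_prime
    · ext x; exact hσ x
    · intro h
      apply h1
      ext x
      exact congrArg (fun f : K ≃ₐ[ZMod p] K => f x) h
  have h6 : orderOf τ' ∣ Nat.card (K ≃ₐ[ZMod p] K) := orderOf_dvd_natCard _
  rw [h5, h2, h3] at h6
  exact even_iff_two_dvd.2 h6

end gen

section bar

variable {K : Type*} [Field K] (σ : K →+* K) (hσ : ∀ x, σ (σ x) = x) (h1 : σ ≠ RingHom.id K)

include hσ h1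

theorem exists_tr_one : ∃ y : K, y + σ y = 1 := by
  obtain ⟨y0, hy0⟩ : ∃ y, y + σ y ≠ 0 := by
    by_contra hcon
    push Not at hcon
    apply h1
    ext x
    have e1 := hcon 1
    rw [map_one] at e1
    have e2 := hcon x
    have e3 : σ x = - x := by linear_combination e2
    rw [e3, RingHom.id_apply]
    linear_combination -x * e1
  have hfix : σ (y0 + σ y0) = y0 + σ y0 := by rw [map_add, hσ, add_comm]
  refine ⟨y0 / (y0 + σ y0), ?_⟩
  rw [map_div₀, hfix, ← add_div, div_self hy0]

theorem exists_sub (z : K) (hz : z + σ z = 0) : ∃ k : K, k - σ k = z := by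
  obtain ⟨y0, hy0⟩ := exists_tr_one σ hσ h1
  refine ⟨z * y0, ?_⟩
  rw [map_mul]
  have : σ z = - z := by linear_combination hz
  rw [this]
  linear_combination z * hy0

/-- `|K| = |K_0| ^ 2`, in the form used below -/
theorem card_ker [Fintype K] : Nat.card {z : K // z + σ z = 0} * Nat.card {z : K // z + σ z = 0} = Fintype.card K := by
  obtain ⟨δ, hδ0, hδ⟩ : ∃ δ : K, δ ≠ 0 ∧ σ δ = - δ := by
    obtain ⟨x, hx⟩ : ∃ x, σ x ≠ x := by
      by_contra hcon
      push Not at hcon
      exact h1 (RingHom.ext hcon)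
    refine ⟨x - σ x, sub_ne_zero.2 (Ne.symm hx), ?_⟩
    rw [map_sub, hσ]; ring
  let f : K →+ K := (AddMonoidHom.id K) - σ.toAddMonoidHom
  have hf : ∀ x, f x = x - σ x := fun x => rfl
  have e1 : Nat.card f.ker * f.ker.index = Nat.card K := f.ker.card_mul_index
  rw [AddSubgroup.index_ker, Nat.card_eq_fintype_card (α := K)] at e1
  have e2 : Nat.card f.range = Nat.card {z : K // z + σ z = 0} := by
    apply Nat.card_congr
    refine Equiv.subtypeEquivRight ?_
    intro z
    constructor
    · rintro ⟨x, rfl⟩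
      rw [hf, map_sub, hσ]; ring
    · intro hz
      obtain ⟨k, hk⟩ := exists_sub σ hσ h1 z hz
      exact ⟨k, by rw [hf, hk]⟩
  have e3 : Nat.card f.ker = Nat.card {z : K // z + σ z = 0} := by
    refine Nat.card_congr ⟨fun x => ⟨x.1 * δ, ?_⟩, fun z => ⟨z.1 / δ, ?_⟩, ?_, ?_⟩
    · have h2 : x.1 - σ x.1 = 0 := x.2
      have h3 : σ x.1 = x.1 := (sub_eq_zero.1 h2).symm
      rw [map_mul, hδ, h3]; ring
    · show f (z.1 / δ) = 0
      have h2 : σ z.1 = - z.1 := by linear_combination z.2
      rw [hf, map_div₀, hδ, h2, neg_div_neg_eq, sub_self]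
    · intro x; apply Subtype.ext; exact mul_div_cancel_right₀ _ hδ0
    · intro z; apply Subtype.ext; exact div_mul_cancel₀ _ hδ0
  rw [← e1, e2, e3]

end bar

end H38.Sch
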