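import Cfsg.Agent.Lib.H38.SchA

/-!
Normal Sylow subgroups of minimal non-`p`-nilpotent groups: abstract data, commutator structure, and universality.
-/

set_option autoImplicit false

namespace H38.Sch

/-- data on a `p`-group `P`: an automorphism acting as `ζ` on the quotient `K` and trivially on the central kernel,
which is generated by commutators -/
structure Dat (p : ℕ) {K : Type*} [Field K] (ζ : K) (P : Type*) [Group P] where
  α : P ≃* P
  π : P →* Multiplicative K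
  surj : Function.Surjective π
  hα : ∀ x, π (α x) = Multiplicative.ofAdd (ζ * (π x).toAdd)
  cen : ∀ z, π z = 1 → ∀ x, z * x = x * z
  fix : ∀ z, π z = 1 → α z = z
  gen : ∀ z, π z = 1 → z ∈ Subgroup.closure {c : P | ∃ x y : P, x * y * x⁻¹ * y⁻¹ = c}
  pg : IsPGroup p P

namespace Dat

variable {p : ℕ} {K : Type*} [Field K] {ζ : K} {P : Type*} [Group P] (D : Dat p ζ P)

/-- commutator -/
def cm {G : Type*} [Group G] (x y : G) : G := x * y * x⁻¹ * y⁻¹

lemma π_cm (x y : P) : D.π (cm x y) = 1 := by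
  unfold cm
  simp only [map_mul, map_inv]
  rw [mul_comm (D.π x) (D.π y)]; group

include D in
lemma cm_cen (x y : P) (w : P) : cm x y * w = w * cm x y := D.cen _ (D.π_cm x y) w

include D in
lemma cm_mul_left (x x' y : P) : cm (x * x') y = cm x y * cm x' y := by
  have h := D.cm_cen x' y x
  unfold cm at *
  calc x * x' * y * (x * x')⁻¹ * y⁻¹ = x * (x' * y * x'⁻¹ * y⁻¹) * (y * x⁻¹ * y⁻¹) := by group
    _ = (x' * y * x'⁻¹ * y⁻¹) * (x * y * x⁻¹ * y⁻¹) := by rw [← h]; group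
    _ = _ := D.cm_cen x' y _

include D in
lemma cm_mul_right (x y y' : P) : cm x (y * y') = cm x y * cm x y' := by
  have h := D.cm_cen x y' y
  unfold cm at *
  calc x * (y * y') * x⁻¹ * (y * y')⁻¹ = (x * y * x⁻¹ * y⁻¹) * (y * (x * y' * x⁻¹ * y'⁻¹)) * y⁻¹ := by group
    _ = (x * y * x⁻¹ * y⁻¹) * (x * y' * x⁻¹ * y'⁻¹) := by rw [← h]; group

lemma cm_one_left (y : P) : cm (1 : P) y = 1 := by unfold cm; group
lemma cm_one_right (y : P) : cm y (1 : P) = 1 := by unfold cm; group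
lemma cm_self (y : P) : cm y y = 1 := by unfold cm; group

include D in
lemma cm_inv_left (x y : P) : cm x⁻¹ y = (cm x y)⁻¹ := by
  rw [eq_inv_iff_mul_eq_one, ← D.cm_mul_left, inv_mul_cancel, cm_one_left]

include D in
lemma cm_inv_right (x y : P) : cm x y⁻¹ = (cm x y)⁻¹ := by
  rw [eq_inv_iff_mul_eq_one, ← D.cm_mul_right, inv_mul_cancel, cm_one_right]

lemma cm_ker_left {z : P} (hz : D.π z = 1) (y : P) : cm z y = 1 := by
  unfold cm; rw [D.cen z hz y]; group

lemma cm_ker_right {z : P} (hz : D.π z = 1) (y : P) : cm y z = 1 := by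
  unfold cm; rw [← D.cen z hz y]; group

/-- commutators depend only on the images -/
lemma cm_congr {x x' y y' : P} (hx : D.π x = D.π x') (hy : D.π y = D.π y') : cm x y = cm x' y' := by
  have h1 : D.π (x'⁻¹ * x) = 1 := by rw [map_mul, map_inv, hx, inv_mul_cancel]
  have h2 : D.π (y'⁻¹ * y) = 1 := by rw [map_mul, map_inv, hy, inv_mul_cancel]
  have e1 : x = x' * (x'⁻¹ * x) := by group
  have e2 : y = y' * (y'⁻¹ * y) := by group
  rw [e1, e2, D.cm_mul_left, D.cm_ker_left h1, mul_one, D.cm_mul_right, D.cm_ker_right h2, mul_one]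

lemma cm_α (x y : P) : cm (D.α x) (D.α y) = cm x y := by
  have h := D.fix _ (D.π_cm x y)
  rw [← h]
  unfold cm
  simp only [map_mul, map_inv]

/-- a section of the projection -/
noncomputable def sec (k : K) : P := Classical.choose (D.surj (Multiplicative.ofAdd k))

lemma π_sec (k : K) : D.π (D.sec k) = Multiplicative.ofAdd k := Classical.choose_spec (D.surj (Multiplicative.ofAdd k))

/-- the homomorphism `w ↦ [e, w]` -/
noncomputable def ell : Multiplicative K →* P where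
  toFun w := cm (D.sec 1) (D.sec w.toAdd)
  map_one' := by
    show cm (D.sec 1) (D.sec 0) = 1
    apply D.cm_ker_right
    rw [D.π_sec]; rfl
  map_mul' w w' := by
    rw [← D.cm_mul_right]
    apply D.cm_congr rfl
    rw [map_mul D.π, D.π_sec, D.π_sec, D.π_sec]
    rfl

lemma ell_apply (x y : P) (hx : D.π x = Multiplicative.ofAdd 1) : cm x y = D.ell (D.π y) := by
  apply D.cm_congr
  · rw [hx, D.π_sec]
  · rw [D.π_sec]; rfl

lemma π_ell (w : Multiplicative K) : D.π (D.ell w) = 1 := D.π_cm _ _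

/-- commutators in terms of `ell` -/
theorem cm_eq (hgen : Subring.closure {ζ} = ⊤) (σ : K →+* K) (hσζ : σ ζ * ζ = 1) (x y : P) :
    cm x y = D.ell (Multiplicative.ofAdd (σ (D.π x).toAdd * (D.π y).toAdd)) := by
  let S : AddSubgroup K :=
    { carrier := {v | ∀ x y : P, D.π x = Multiplicative.ofAdd v →
        cm x y = D.ell (Multiplicative.ofAdd (σ v * (D.π y).toAdd))}
      add_mem' := by
        intro v v' hv hv' x y hx
        have h1 : cm x y = cm (D.sec v * D.sec v') y := by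
          apply D.cm_congr _ rfl
          rw [hx, map_mul, D.π_sec, D.π_sec]; rfl
        rw [h1, D.cm_mul_left, hv _ y (D.π_sec v), hv' _ y (D.π_sec v'), ← map_mul D.ell, ← ofAdd_add, map_add σ, add_mul]
      zero_mem' := by
        intro x y hx
        rw [D.cm_ker_left (by rw [hx]; rfl), map_zero, zero_mul, ofAdd_zero, map_one]
      neg_mem' := by
        intro v hv x y hx
        have h1 : cm x y = cm (D.sec v)⁻¹ y := by
          apply D.cm_congr _ rfl
          rw [hx, map_inv, D.π_sec]; rfl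
        rw [h1, D.cm_inv_left, hv _ y (D.π_sec v), ← map_inv D.ell, ← ofAdd_neg, map_neg σ, neg_mul] }
  have h1 : (1 : K) ∈ S := by
    intro x y hx
    rw [D.ell_apply x y hx, map_one, one_mul]; rfl
  have h2 : ∀ s ∈ S, ζ * s ∈ S := by
    intro s hs x y hx
    obtain ⟨x', rfl⟩ := D.α.surjective x
    obtain ⟨y', rfl⟩ := D.α.surjective y
    have hζ0 : ζ ≠ 0 := by
      rintro rfl
      rw [mul_zero] at hσζ
      exact zero_ne_one hσζ
    have hx' : D.π x' = Multiplicative.ofAdd s := by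
      rw [D.hα] at hx
      have : ζ * (D.π x').toAdd = ζ * s := Multiplicative.ofAdd.injective hx
      have h6 : (D.π x').toAdd = s := mul_left_cancel₀ hζ0 this
      rw [← h6]; rfl
    rw [D.cm_α, hs x' y' hx', D.hα, toAdd_ofAdd, map_mul σ]
    generalize Multiplicative.toAdd (D.π y') = t
    have h5 : σ s * t = σ ζ * σ s * (ζ * t) := by linear_combination (-(σ s * t)) * hσζ
    rw [h5]
  have h3 := add_top hgen S h2 1 h1 (D.π x).toAdd
  rw [mul_one] at h3
  exact h3 x y rfl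

/-- fixed elements are killed -/
theorem ell_fixed (hgen : Subring.closure {ζ} = ⊤) (σ : K →+* K) (hσζ : σ ζ * ζ = 1)
    (hnorm : ∀ k, σ k = k → ∃ v, σ v * v = k) {k : K} (hk : σ k = k) : D.ell (Multiplicative.ofAdd k) = 1 := by
  obtain ⟨v, rfl⟩ := hnorm k hk
  have := D.cm_eq hgen σ hσζ (D.sec v) (D.sec v)
  rw [cm_self, D.π_sec, toAdd_ofAdd] at this
  exact this.symm

/-- `P` is generated by the `x⁻¹ α(x)` -/
theorem closure_top (h1 : ζ ≠ 1) : Subgroup.closure {c : P | ∃ x : P, x⁻¹ * D.α x = c} = ⊤ := by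
  set L := Subgroup.closure {c : P | ∃ x : P, x⁻¹ * D.α x = c} with hL
  have h2 : ∀ x : P, ∃ l ∈ L, D.π l = D.π x := by
    intro x
    refine ⟨(D.sec ((D.π x).toAdd / (ζ - 1)))⁻¹ * D.α (D.sec ((D.π x).toAdd / (ζ - 1))), Subgroup.subset_closure ⟨_, rfl⟩, ?_⟩
    rw [map_mul, map_inv, D.hα, D.π_sec, toAdd_ofAdd, ← ofAdd_neg, ← ofAdd_add]
    have h3 : ζ - 1 ≠ 0 := sub_ne_zero.2 h1
    have h4 : -((D.π x).toAdd / (ζ - 1)) + ζ * ((D.π x).toAdd / (ζ - 1)) = (D.π x).toAdd := by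
      field_simp
      ring
    rw [h4]; rfl
  have h3 : ∀ z : P, D.π z = 1 → z ∈ L := by
    intro z hz
    have h4 := D.gen z hz
    refine (Subgroup.closure_le L).2 ?_ h4
    rintro _ ⟨x, y, rfl⟩
    obtain ⟨l, hl, hlx⟩ := h2 x
    obtain ⟨m, hm, hmy⟩ := h2 y
    have : cm x y = cm l m := D.cm_congr hlx.symm hmy.symm
    show cm x y ∈ L
    rw [this]
    exact L.mul_mem (L.mul_mem (L.mul_mem hl hm) (L.inv_mem hl)) (L.inv_mem hm)
  rw [eq_top_iff]
  intro x _
  obtain ⟨l, hl, hlx⟩ := h2 x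
  have : x = l * (l⁻¹ * x) := by group
  rw [this]
  exact L.mul_mem hl (h3 _ (by rw [map_mul, map_inv, hlx, inv_mul_cancel]))

/-- the adjunction relation -/
noncomputable def rel : Subring (K × K) where
  carrier := {t | ∀ u v : K, cm (D.sec (t.1 * u)) (D.sec v) = cm (D.sec u) (D.sec (t.2 * v))}
  mul_mem' := by
    intro a b ha hb u v
    have e1 : (a * b).1 * u = a.1 * (b.1 * u) := by simp [mul_assoc]
    have e2 : (a * b).2 * v = b.2 * (a.2 * v) := by simp; ring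
    rw [e1, e2, ha, hb]
  one_mem' := by intro u v; simp
  add_mem' := by
    intro a b ha hb u v
    have e1 : cm (D.sec ((a + b).1 * u)) (D.sec v) = cm (D.sec (a.1 * u) * D.sec (b.1 * u)) (D.sec v) := by
      apply D.cm_congr _ rfl
      rw [map_mul D.π, D.π_sec, D.π_sec, D.π_sec, ← ofAdd_add, Prod.fst_add, add_mul]
    have e2 : cm (D.sec u) (D.sec ((a + b).2 * v)) = cm (D.sec u) (D.sec (a.2 * v) * D.sec (b.2 * v)) := by
      apply D.cm_congr rfl
      rw [map_mul D.π, D.π_sec, D.π_sec, D.π_sec, ← ofAdd_add, Prod.snd_add, add_mul]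
    rw [e1, e2, D.cm_mul_left, D.cm_mul_right, ha, hb]
  zero_mem' := by
    intro u v
    rw [D.cm_ker_left (by rw [D.π_sec]; simp), D.cm_ker_right (by rw [D.π_sec]; simp)]
  neg_mem' := by
    intro a ha u v
    have e1 : cm (D.sec ((-a).1 * u)) (D.sec v) = cm (D.sec (a.1 * u))⁻¹ (D.sec v) := by
      apply D.cm_congr _ rfl
      rw [map_inv D.π, D.π_sec, D.π_sec, ← ofAdd_neg, Prod.fst_neg, neg_mul]
    have e2 : cm (D.sec u) (D.sec ((-a).2 * v)) = cm (D.sec u) (D.sec (a.2 * v))⁻¹ := by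
      apply D.cm_congr rfl
      rw [map_inv D.π, D.π_sec, D.π_sec, ← ofAdd_neg, Prod.snd_neg, neg_mul]
    rw [e1, e2, D.cm_inv_left, D.cm_inv_right, ha]

lemma mem_rel {a b : K} : (a, b) ∈ D.rel ↔ ∀ u v : K, cm (D.sec (a * u)) (D.sec v) = cm (D.sec u) (D.sec (b * v)) :=
  Iff.rfl

lemma rel_add {a b c d : K} (h1 : (a, b) ∈ D.rel) (h2 : (c, d) ∈ D.rel) : (a + c, b + d) ∈ D.rel := by
  have := D.rel.add_mem h1 h2
  rwa [Prod.mk_add_mk] at this

lemma rel_mul {a b c d : K} (h1 : (a, b) ∈ D.rel) (h2 : (c, d) ∈ D.rel) : (a * c, b * d) ∈ D.rel := by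
  have := D.rel.mul_mem h1 h2
  rwa [Prod.mk_mul_mk] at this

lemma rel_neg {a b : K} (h1 : (a, b) ∈ D.rel) : (-a, -b) ∈ D.rel := by
  have := D.rel.neg_mem h1
  rwa [Prod.neg_mk] at this

lemma rel_one : ((1 : K), (1 : K)) ∈ D.rel := by
  have := D.rel.one_mem
  rwa [Prod.one_eq_mk] at this

lemma rel_zero' : ((0 : K), (0 : K)) ∈ D.rel := by
  have := D.rel.zero_mem
  rwa [Prod.zero_eq_mk] at this

include D in
lemma ζ_ne (hna : ∃ x y : P, x * y ≠ y * x) : ζ ≠ 0 := by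
  obtain ⟨x0, y0, h0⟩ := hna
  rintro rfl
  have h1 : ∀ x : P, D.π x = 1 := by
    intro x
    obtain ⟨x', rfl⟩ := D.α.surjective x
    rw [D.hα, zero_mul]; rfl
  exact h0 (D.cen x0 (h1 x0) y0)

lemma rel_ζ (hζ0 : ζ ≠ 0) : (ζ, ζ⁻¹) ∈ D.rel := by
  rw [mem_rel]
  intro u v
  have e1 : cm (D.sec (ζ * u)) (D.sec v) = cm (D.α (D.sec u)) (D.α (D.sec (ζ⁻¹ * v))) := by
    apply D.cm_congr
    · rw [D.hα, D.π_sec, D.π_sec]; rfl
    · rw [D.hα, D.π_sec, D.π_sec, toAdd_ofAdd, mul_inv_cancel_left₀ hζ0]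
  rw [e1, D.cm_α]

lemma rel_ζ' (hζ0 : ζ ≠ 0) : (ζ⁻¹, ζ) ∈ D.rel := by
  rw [mem_rel]
  intro u v
  have h1 := (D.mem_rel.1 (D.rel_ζ hζ0)) (ζ⁻¹ * u) (ζ * v)
  rw [mul_inv_cancel_left₀ hζ0, inv_mul_cancel_left₀ hζ0] at h1
  exact h1.symm

lemma cm_sec (x y : P) : cm (D.sec (D.π x).toAdd) (D.sec (D.π y).toAdd) = cm x y := by
  apply D.cm_congr
  · rw [D.π_sec]; rfl
  · rw [D.π_sec]; rfl

lemma cm_ne (hna : ∃ x y : P, x * y ≠ y * x) : ∃ a b : K, cm (D.sec a) (D.sec b) ≠ 1 := by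
  obtain ⟨x0, y0, h0⟩ := hna
  refine ⟨(D.π x0).toAdd, (D.π y0).toAdd, ?_⟩
  rw [D.cm_sec]
  intro h
  apply h0
  unfold cm at h
  calc x0 * y0 = (x0 * y0 * x0⁻¹ * y0⁻¹) * (y0 * x0) := by group
    _ = y0 * x0 := by rw [h, one_mul]

lemma rel_zero (hna : ∃ x y : P, x * y ≠ y * x) (t' : K) (ht : ((0 : K), t') ∈ D.rel) : t' = 0 := by
  obtain ⟨a, b, hab⟩ := D.cm_ne hna
  by_contra hne
  apply hab
  have h1 := D.mem_rel.1 ht a (t'⁻¹ * b)
  rw [zero_mul, mul_inv_cancel_left₀ hne, D.cm_ker_left (z := D.sec 0) (by rw [D.π_sec]; simp)] at h1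
  exact h1.symm

lemma rel_uniq (hna : ∃ x y : P, x * y ≠ y * x) {a b b' : K} (h1 : (a, b) ∈ D.rel) (h2 : (a, b') ∈ D.rel) : b = b' := by
  have h3 : ((0 : K), b - b') ∈ D.rel := by
    have := D.rel_add h1 (D.rel_neg h2)
    rwa [add_neg_cancel, ← sub_eq_add_neg] at this
  exact sub_eq_zero.1 (D.rel_zero hna _ h3)

lemma rel_exists (hζ0 : ζ ≠ 0) (hgen : Subring.closure {ζ} = ⊤) (k : K) : ∃ k', (k, k') ∈ D.rel ∧ (k', k) ∈ D.rel := by
  have h1 : ∀ k ∈ Subring.closure {ζ}, ∃ k', (k, k') ∈ D.rel ∧ (k', k) ∈ D.rel := by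
    intro k hk
    induction hk using Subring.closure_induction with
    | mem x hx => rw [Set.mem_singleton_iff.1 hx]; exact ⟨_, D.rel_ζ hζ0, D.rel_ζ' hζ0⟩
    | zero => exact ⟨0, D.rel_zero', D.rel_zero'⟩
    | one => exact ⟨1, D.rel_one, D.rel_one⟩
    | add x y _ _ hx hy =>
      obtain ⟨x', h1, h2⟩ := hx
      obtain ⟨y', h3, h4⟩ := hy
      exact ⟨x' + y', D.rel_add h1 h3, D.rel_add h2 h4⟩
    | neg x _ hx =>
      obtain ⟨x', h1, h2⟩ := hx
      exact ⟨-x', D.rel_neg h1, D.rel_neg h2⟩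
    | mul x y _ _ hx hy =>
      obtain ⟨x', h1, h2⟩ := hx
      obtain ⟨y', h3, h4⟩ := hy
      exact ⟨x' * y', D.rel_mul h1 h3, D.rel_mul h2 h4⟩
  exact h1 k (by rw [hgen]; trivial)

include D in
/-- a nonabelian `P` gives a bar involution -/
theorem exists_bar_of_nonabelian (hgen : Subring.closure {ζ} = ⊤) (hna : ∃ x y : P, x * y ≠ y * x) :
    ∃ σ : K →+* K, (∀ x, σ (σ x) = x) ∧ σ ζ * ζ = 1 := by
  have hζ0 := D.ζ_ne hna
  choose s hs hs' using D.rel_exists hζ0 hgen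
  refine ⟨{ toFun := s
            map_one' := D.rel_uniq hna (hs 1) D.rel_one
            map_mul' := fun a b => D.rel_uniq hna (hs (a * b)) (D.rel_mul (hs a) (hs b))
            map_zero' := D.rel_uniq hna (hs 0) D.rel_zero'
            map_add' := fun a b => D.rel_uniq hna (hs (a + b)) (D.rel_add (hs a) (hs b)) }, ?_, ?_⟩
  · intro x
    exact D.rel_uniq hna (hs (s x)) (hs' x)
  · show s ζ * ζ = 1
    rw [D.rel_uniq hna (hs ζ) (D.rel_ζ hζ0), inv_mul_cancel₀ hζ0]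

end Dat

end H38.Sch
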