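import Cfsg.Agent.Lib.H38.SchB

/-!
Universality of the data through a fibre product.
-/

set_option autoImplicit false

namespace H38.Sch

/-- Coprime action of a cyclic group: `[H, β] ∩ C_H(β) ≤ H'`. -/
theorem coprime_fix {H : Type*} [Group H] [Finite H] (β : H →* H) (q : ℕ) (hβ : ∀ h, β^[q] h = h)
    (hcop : Nat.Coprime q (Nat.card H)) {x : H} (hx : x ∈ Subgroup.closure {c : H | ∃ h, h⁻¹ * β h = c})
    (hfix : β x = x) : x ∈ commutator H := by
  have hmul : ∀ (i : ℕ) (a b : H), β^[i] (a * b) = β^[i] a * β^[i] b := by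
    intro i
    induction i with
    | zero => intro a b; rfl
    | succ i ih => intro a b; rw [Function.iterate_succ_apply, Function.iterate_succ_apply, Function.iterate_succ_apply, map_mul, ih]
  have hone : ∀ (i : ℕ), β^[i] 1 = 1 := by
    intro i
    induction i with
    | zero => rfl
    | succ i ih => rw [Function.iterate_succ_apply, map_one, ih]
  let bi : ℕ → (H →* H) := fun i => { toFun := β^[i], map_one' := hone i, map_mul' := hmul i }
  let θ : H →* Abelianization H := ∏ i ∈ Finset.range q, (Abelianization.of.comp (bi i))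
  have hθ : ∀ h : H, θ h = ∏ i ∈ Finset.range q, Abelianization.of (β^[i] h) := by
    intro h
    simp only [θ, MonoidHom.finsetProd_apply]
    rfl
  have hinv : ∀ h : H, θ (β h) = θ h := by
    intro h
    rw [hθ, hθ]
    have e1 : ∏ i ∈ Finset.range q, Abelianization.of (β^[i] (β h)) =
        ∏ i ∈ Finset.range q, Abelianization.of (β^[i+1] h) := by
      apply Finset.prod_congr rfl
      intro i _
      rw [Function.iterate_succ_apply]
    rw [e1]
    have e2 := Finset.prod_range_succ (fun i => Abelianization.of (β^[i] h)) q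
    have e3 := Finset.prod_range_succ' (fun i => Abelianization.of (β^[i] h)) q
    rw [e3, hβ] at e2
    have e4 : β^[0] h = h := rfl
    rw [e4] at e2
    exact mul_right_cancel e2
  have hker : Subgroup.closure {c : H | ∃ h, h⁻¹ * β h = c} ≤ θ.ker := by
    rw [Subgroup.closure_le]
    rintro _ ⟨h, rfl⟩
    show θ _ = 1
    rw [map_mul, map_inv, hinv, inv_mul_cancel]
  have h1 : θ x = 1 := hker hx
  have hfix' : ∀ i : ℕ, β^[i] x = x := by
    intro i
    induction i with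
    | zero => rfl
    | succ i ih => rw [Function.iterate_succ_apply, hfix, ih]
  rw [hθ, Finset.prod_congr rfl (fun i _ => by rw [hfix' i]), Finset.prod_const, Finset.card_range] at h1
  have h2 : (Abelianization.of x) ^ (Nat.card H) = 1 := by
    rw [← map_pow, pow_card_eq_one', map_one]
  have h3 : Abelianization.of x = 1 := by
    have h4 : orderOf (Abelianization.of x) ∣ Nat.gcd q (Nat.card H) :=
      Nat.dvd_gcd (orderOf_dvd_of_pow_eq_one h1) (orderOf_dvd_of_pow_eq_one h2)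
    rw [Nat.Coprime] at hcop
    rwa [hcop, Nat.dvd_one, orderOf_eq_one_iff] at h4
  rw [← Abelianization.ker_of, MonoidHom.mem_ker]
  exact h3

/-- the version for a subgroup -/
theorem coprime_fix' {G : Type*} [Group G] [Finite G] (H : Subgroup G) (β : G →* G) (hβH : ∀ h ∈ H, β h ∈ H)
    (q : ℕ) (hβ : ∀ h, β^[q] h = h) (hcop : Nat.Coprime q (Nat.card H)) {x : G}
    (hx : x ∈ Subgroup.closure {c : G | ∃ h ∈ H, h⁻¹ * β h = c}) (hfix : β x = x) : x ∈ ⁅H, H⁆ := by
  let β' : H →* H := (β.comp H.subtype).codRestrict H (fun h => hβH h h.2)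
  have hβ' : ∀ (i : ℕ) (h : H), ((β'^[i] h : H) : G) = β^[i] (h : G) := by
    intro i
    induction i with
    | zero => intro h; rfl
    | succ i ih => intro h; rw [Function.iterate_succ_apply, Function.iterate_succ_apply, ih]; rfl
  have h1 : Subgroup.closure {c : G | ∃ h ∈ H, h⁻¹ * β h = c} =
      (Subgroup.closure {c : H | ∃ h, h⁻¹ * β' h = c}).map H.subtype := by
    rw [MonoidHom.map_closure]
    congr 1
    ext c
    constructor
    · rintro ⟨h, hh, rfl⟩
      exact ⟨_, ⟨⟨h, hh⟩, rfl⟩, rfl⟩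
    · rintro ⟨_, ⟨h, rfl⟩, rfl⟩
      exact ⟨h, h.2, rfl⟩
  rw [h1] at hx
  obtain ⟨y, hy, rfl⟩ := hx
  have h2 := coprime_fix β' q (fun h => Subtype.ext (by rw [hβ', hβ])) hcop hy (Subtype.ext hfix)
  have h3 : (commutator H).map H.subtype = ⁅H, H⁆ := by
    rw [commutator_def, Subgroup.map_commutator, ← MonoidHom.range_eq_map, Subgroup.range_subtype]
  rw [← h3]
  exact ⟨y, h2, rfl⟩

variable {p : ℕ} {K : Type*} [Field K] {ζ : K} {P₀ P : Type*} [Group P₀] [Group P]

/-- if `P` is abelian, the universal map is obvious -/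
theorem univ_comm (D₀ : Dat p ζ P₀) (D : Dat p ζ P) (hab : ∀ x y : P, x * y = y * x) :
    ∃ f : P₀ →* P, Function.Surjective f ∧ (∀ x, f (D₀.α x) = D.α (f x)) ∧ ∀ x, D.π (f x) = D₀.π x := by
  have hinj : Function.Injective D.π := by
    rw [injective_iff_map_eq_one]
    intro z hz
    have h1 := D.gen z hz
    have h2 : Subgroup.closure {c : P | ∃ x y : P, x * y * x⁻¹ * y⁻¹ = c} ≤ ⊥ := by
      rw [Subgroup.closure_le]
      rintro _ ⟨x, y, rfl⟩
      show _ = _
      rw [hab x y]; group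
    exact h2 h1
  let e : P ≃* Multiplicative K := MulEquiv.ofBijective D.π ⟨hinj, D.surj⟩
  have he : ∀ x, e x = D.π x := fun x => rfl
  refine ⟨e.symm.toMonoidHom.comp D₀.π, ?_, ?_, ?_⟩
  · intro x
    obtain ⟨y, hy⟩ := D₀.surj (e x)
    exact ⟨y, by simp [hy]⟩
  · intro x
    show e.symm (D₀.π (D₀.α x)) = D.α (e.symm (D₀.π x))
    rw [MulEquiv.symm_apply_eq, he, D.hα, D₀.hα, ← he, MulEquiv.apply_symm_apply]
  · intro x
    show D.π (e.symm (D₀.π x)) = _
    rw [← he, MulEquiv.apply_symm_apply]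

/-- the universal map when there is a bar involution -/
theorem univ_bar [hp : Fact p.Prime] [Finite P₀] [Finite P] (D₀ : Dat p ζ P₀) (D : Dat p ζ P) (hgen : Subring.closure {ζ} = ⊤)
    (hζ1 : ζ ≠ 1) (σ : K →+* K) (hσζ : σ ζ * ζ = 1)
    (hell : ∀ k : Multiplicative K, D₀.ell k = 1 → D.ell k = 1) (q : ℕ) (hq : Nat.Coprime q p)
    (h₀q : ∀ x, D₀.α^[q] x = x) (hDq : ∀ x, D.α^[q] x = x) :
    ∃ f : P₀ →* P, Function.Surjective f ∧ (∀ x, f (D₀.α x) = D.α (f x)) ∧ ∀ x, D.π (f x) = D₀.π x := by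
  let β : P₀ × P →* P₀ × P := (D₀.α : P₀ →* P₀).prodMap (D.α : P →* P)
  have hβ : ∀ x, β x = (D₀.α x.1, D.α x.2) := fun x => rfl
  let H : Subgroup (P₀ × P) := MonoidHom.eqLocus (D₀.π.comp (MonoidHom.fst P₀ P)) (D.π.comp (MonoidHom.snd P₀ P))
  have hH : ∀ x : P₀ × P, x ∈ H ↔ D₀.π x.1 = D.π x.2 := fun x => Iff.rfl
  have hβH : ∀ h ∈ H, β h ∈ H := by
    intro h hh
    rw [hH] at hh ⊢
    rw [hβ]
    show D₀.π (D₀.α h.1) = D.π (D.α h.2)
    rw [D₀.hα, D.hα, hh]
  have hβq : ∀ h, β^[q] h = h := by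
    have h1 : ∀ (i : ℕ) (h : P₀ × P), β^[i] h = (D₀.α^[i] h.1, D.α^[i] h.2) := by
      intro i
      induction i with
      | zero => intro h; rfl
      | succ i ih => intro h; rw [Function.iterate_succ_apply, ih, hβ]; rfl
    intro h
    rw [h1, h₀q, hDq]
  have hcop : Nat.Coprime q (Nat.card H) := by
    have h1 : IsPGroup p (P₀ × P) := by
      intro x
      obtain ⟨a, ha⟩ := D₀.pg x.1
      obtain ⟨b, hb⟩ := D.pg x.2
      refine ⟨a + b, Prod.ext ?_ ?_⟩
      · rw [Prod.pow_fst, pow_add, pow_mul, ha, one_pow]; rfl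
      · rw [Prod.pow_snd, pow_add, mul_comm, pow_mul, hb, one_pow]; rfl
    have h2 : IsPGroup p H := h1.to_subgroup H
    obtain ⟨n, hn⟩ := h2.exists_card_eq
    rw [hn]; exact Nat.Coprime.pow_right n hq
  set Dh : Subgroup (P₀ × P) := Subgroup.closure {c : P₀ × P | ∃ h ∈ H, h⁻¹ * β h = c} with hDh
  have hDhH : Dh ≤ H := by
    rw [hDh, Subgroup.closure_le]
    rintro _ ⟨h, hh, rfl⟩
    exact H.mul_mem (H.inv_mem hh) (hβH h hh)
  have hDhβ : ∀ d ∈ Dh, β d ∈ Dh := by
    intro d hd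
    have h1 : Dh.map β ≤ Dh := by
      rw [hDh, MonoidHom.map_closure, Subgroup.closure_le]
      rintro _ ⟨_, ⟨h, hh, rfl⟩, rfl⟩
      apply Subgroup.subset_closure
      exact ⟨β h, hβH h hh, by rw [map_mul, map_inv]⟩
    exact h1 ⟨d, hd, rfl⟩
  -- commutators
  have hcomm : ∀ x ∈ ⁅H, H⁆, ∃ k : Multiplicative K, x = (D₀.ell k, D.ell k) := by
    have h1 : ⁅H, H⁆ ≤ (D₀.ell.prod D.ell).range := by
      rw [Subgroup.commutator_le]
      intro x hx y hy
      refine ⟨Multiplicative.ofAdd (σ (D₀.π x.1).toAdd * (D₀.π y.1).toAdd), ?_⟩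
      have h2 := D₀.cm_eq hgen σ hσζ x.1 y.1
      have h3 := D.cm_eq hgen σ hσζ x.2 y.2
      rw [hH] at hx hy
      rw [← hx, ← hy] at h3
      rw [MonoidHom.prod_apply, ← h2, ← h3]
      rfl
    intro x hx
    obtain ⟨k, hk⟩ := h1 hx
    exact ⟨k, hk.symm⟩
  -- injectivity of the first projection
  have hinj : ∀ d ∈ Dh, d.1 = 1 → d = 1 := by
    intro d hd hd1
    have h1 : D.π d.2 = 1 := by
      have h2 := hDhH hd
      rw [hH, hd1, map_one] at h2
      exact h2.symm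
    have h2 : β d = d := by
      rw [hβ]
      exact Prod.ext (by rw [hd1]; exact map_one D₀.α) (D.fix _ h1)
    have h3 := coprime_fix' H β hβH q hβq hcop hd h2
    obtain ⟨k, hk⟩ := hcomm d h3
    have h4 : D₀.ell k = 1 := by rw [← hd1, hk]
    rw [hk, h4, hell k h4]; rfl
  have hsurj1 : ∀ x : P₀, ∃ d ∈ Dh, d.1 = x := by
    have h1 : Dh.map (MonoidHom.fst P₀ P) = ⊤ := by
      rw [hDh, MonoidHom.map_closure, eq_top_iff, ← D₀.closure_top hζ1, Subgroup.closure_le]
      rintro _ ⟨x, rfl⟩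
      apply Subgroup.subset_closure
      obtain ⟨u, hu⟩ := D.surj (D₀.π x)
      exact ⟨_, ⟨(x, u), hu.symm, rfl⟩, rfl⟩
    intro x
    have : x ∈ Dh.map (MonoidHom.fst P₀ P) := by rw [h1]; trivial
    obtain ⟨d, hd, rfl⟩ := this
    exact ⟨d, hd, rfl⟩
  have hsurj2 : ∀ x : P, ∃ d ∈ Dh, d.2 = x := by
    have h1 : Dh.map (MonoidHom.snd P₀ P) = ⊤ := by
      rw [hDh, MonoidHom.map_closure, eq_top_iff, ← D.closure_top hζ1, Subgroup.closure_le]
      rintro _ ⟨x, rfl⟩
      apply Subgroup.subset_closure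
      obtain ⟨u, hu⟩ := D₀.surj (D.π x)
      exact ⟨_, ⟨(u, x), hu, rfl⟩, rfl⟩
    intro x
    have : x ∈ Dh.map (MonoidHom.snd P₀ P) := by rw [h1]; trivial
    obtain ⟨d, hd, rfl⟩ := this
    exact ⟨d, hd, rfl⟩
  -- the map
  let e₁ : Dh →* P₀ := (MonoidHom.fst P₀ P).comp Dh.subtype
  have he₁ : Function.Bijective e₁ := by
    constructor
    · rw [injective_iff_map_eq_one]
      intro d hd
      exact Subtype.ext (hinj d d.2 hd)
    · intro x
      obtain ⟨d, hd, rfl⟩ := hsurj1 x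
      exact ⟨⟨d, hd⟩, rfl⟩
  let e : Dh ≃* P₀ := MulEquiv.ofBijective e₁ he₁
  let f : P₀ →* P := ((MonoidHom.snd P₀ P).comp Dh.subtype).comp e.symm.toMonoidHom
  have hf : ∀ d ∈ Dh, f d.1 = d.2 := by
    intro d hd
    have h1 : e.symm d.1 = ⟨d, hd⟩ := by
      rw [MulEquiv.symm_apply_eq]; rfl
    show ((e.symm d.1 : Dh) : P₀ × P).2 = d.2
    rw [h1]
  refine ⟨f, ?_, ?_, ?_⟩
  · intro x
    obtain ⟨d, hd, rfl⟩ := hsurj2 x
    exact ⟨d.1, hf d hd⟩
  · intro x
    obtain ⟨d, hd, rfl⟩ := hsurj1 x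
    rw [hf d hd]
    exact hf (β d) (hDhβ d hd)
  · intro x
    obtain ⟨d, hd, rfl⟩ := hsurj1 x
    rw [hf d hd]
    exact ((hH d).1 (hDhH hd)).symm

end H38.Sch
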