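import Cfsg.Agent.Lib.H38.SchC

/-!
Concrete data.
-/

set_option autoImplicit false

namespace H38.Sch

/-- the Heisenberg-type group `{(x,y) : y + σ y = x σ x}` -/
@[ext] structure Hs {K : Type*} [Field K] (σ : K →+* K) where
  x : K
  y : K
  h : y + σ y = x * σ x

namespace Hs

variable {K : Type*} [Field K] (σ : K →+* K) (hσ : ∀ x, σ (σ x) = x)

/-- the group structure -/
@[reducible] def grp : Group (Hs σ) where
  mul a b := ⟨a.x + b.x, a.y + b.y + σ a.x * b.x, by
    have h1 := a.h
    have h2 := b.h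
    rw [map_add, map_add, map_mul, map_add, hσ]
    linear_combination h1 + h2⟩
  one := ⟨0, 0, by simp⟩
  inv a := ⟨-a.x, σ a.y, by
    have h1 := a.h
    rw [hσ, map_neg]
    linear_combination h1⟩
  mul_assoc := by
    intro a b c
    refine Hs.ext ?_ ?_
    · show a.x + b.x + c.x = a.x + (b.x + c.x)
      ring
    · show a.y + b.y + σ a.x * b.x + c.y + σ (a.x + b.x) * c.x = a.y + (b.y + c.y + σ b.x * c.x) + σ a.x * (b.x + c.x)
      rw [map_add]; ring
  one_mul := by
    intro a
    refine Hs.ext ?_ ?_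
    · show 0 + a.x = a.x
      ring
    · show 0 + a.y + σ 0 * a.x = a.y
      rw [map_zero]; ring
  mul_one := by
    intro a
    refine Hs.ext ?_ ?_
    · show a.x + 0 = a.x
      ring
    · show a.y + 0 + σ a.x * 0 = a.y
      ring
  inv_mul_cancel := by
    intro a
    refine Hs.ext ?_ ?_
    · show -a.x + a.x = 0
      ring
    · show σ a.y + a.y + σ (-a.x) * a.x = 0
      have h1 := a.h
      rw [map_neg]
      linear_combination h1

theorem mul_x (a b : Hs σ) : letI := grp σ hσ; (a * b).x = a.x + b.x := rfl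
theorem mul_y (a b : Hs σ) : letI := grp σ hσ; (a * b).y = a.y + b.y + σ a.x * b.x := rfl
theorem inv_x (a : Hs σ) : letI := grp σ hσ; (a⁻¹).x = - a.x := rfl
theorem inv_y (a : Hs σ) : letI := grp σ hσ; (a⁻¹).y = σ a.y := rfl
theorem one_x : letI := grp σ hσ; (1 : Hs σ).x = 0 := rfl
theorem one_y : letI := grp σ hσ; (1 : Hs σ).y = 0 := rfl

theorem cm_x (a b : Hs σ) : letI := grp σ hσ; (a * b * a⁻¹ * b⁻¹).x = 0 := by
  letI := grp σ hσ
  show (a * b * a⁻¹ * b⁻¹).x = 0
  rw [mul_x σ hσ, mul_x σ hσ, mul_x σ hσ, inv_x σ hσ, inv_x σ hσ]; ring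

theorem cm_y (a b : Hs σ) : letI := grp σ hσ; (a * b * a⁻¹ * b⁻¹).y = σ a.x * b.x - σ b.x * a.x := by
  show ((a.y + b.y + σ a.x * b.x) + σ a.y + σ (a.x + b.x) * (-a.x)) + σ b.y + σ (a.x + b.x + -a.x) * (-b.x) =
    σ a.x * b.x - σ b.x * a.x
  rw [map_add, map_add, map_add, map_neg]
  have h1 := a.h
  have h2 := b.h
  linear_combination h1 + h2

theorem finite [Finite K] : Finite (Hs σ) := by
  apply Finite.of_injective (fun a : Hs σ => ((a.x, a.y) : K × K))
  intro a b h
  exact Hs.ext (congrArg Prod.fst h) (congrArg Prod.snd h)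

variable (h1 : σ ≠ RingHom.id K)

include hσ h1 in
theorem card [Fintype K] : Nat.card (Hs σ) = Fintype.card K * Nat.card {z : K // z + σ z = 0} := by
  obtain ⟨y0, hy0⟩ := exists_tr_one σ hσ h1
  rw [← Nat.card_eq_fintype_card, ← Nat.card_prod]
  have key : ∀ x : K, x * σ x * y0 + σ (x * σ x * y0) = x * σ x := by
    intro x
    rw [map_mul, map_mul, hσ]
    linear_combination x * σ x * hy0
  refine Nat.card_congr ⟨fun a => (a.x, ⟨a.y - a.x * σ a.x * y0, ?_⟩),
    fun b => ⟨b.1, b.2 + b.1 * σ b.1 * y0, ?_⟩, ?_, ?_⟩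
  · rw [map_sub]
    linear_combination a.h - key a.x
  · rw [map_add]
    linear_combination key b.1 + b.2.2
  · intro a
    refine Hs.ext rfl ?_
    show a.y - a.x * σ a.x * y0 + a.x * σ a.x * y0 = a.y
    ring
  · intro b
    refine Prod.ext rfl (Subtype.ext ?_)
    show b.2 + b.1 * σ b.1 * y0 - b.1 * σ b.1 * y0 = b.2
    ring

include hσ h1 in
theorem exists_x (x : K) : ∃ a : Hs σ, a.x = x := by
  obtain ⟨y0, hy0⟩ := exists_tr_one σ hσ h1
  refine ⟨⟨x, x * σ x * y0, ?_⟩, rfl⟩
  rw [map_mul, map_mul, hσ]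
  linear_combination x * σ x * hy0

/-- the data -/
@[reducible] noncomputable def dat {p : ℕ} (hσ : ∀ x, σ (σ x) = x) (h1 : σ ≠ RingHom.id K) (ζ : K) (hζ : σ ζ * ζ = 1)
    (hpg : letI := grp σ hσ; IsPGroup p (Hs σ)) :
    letI := grp σ hσ; Dat p ζ (Hs σ) :=
  letI := grp σ hσ
  { α := 
      { toFun := fun a => ⟨ζ * a.x, a.y, by rw [map_mul]; linear_combination a.h - a.x * σ a.x * hζ⟩
        invFun := fun a => ⟨σ ζ * a.x, a.y, by rw [map_mul, hσ]; linear_combination a.h - a.x * σ a.x * hζ⟩
        left_inv := by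
          intro a
          refine Hs.ext ?_ rfl
          show σ ζ * (ζ * a.x) = a.x
          linear_combination a.x * hζ
        right_inv := by
          intro a
          refine Hs.ext ?_ rfl
          show ζ * (σ ζ * a.x) = a.x
          linear_combination a.x * hζ
        map_mul' := by
          intro a b
          refine Hs.ext ?_ ?_
          · show ζ * (a.x + b.x) = ζ * a.x + ζ * b.x
            ring
          · show a.y + b.y + σ a.x * b.x = a.y + b.y + σ (ζ * a.x) * (ζ * b.x)
            rw [map_mul]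
            linear_combination (-(σ a.x * b.x)) * hζ }
    π := 
      { toFun := fun a => Multiplicative.ofAdd a.x
        map_one' := rfl
        map_mul' := fun a b => rfl }
    surj := by
      intro k
      obtain ⟨a, ha⟩ := exists_x σ hσ h1 k.toAdd
      exact ⟨a, by show Multiplicative.ofAdd a.x = k; rw [ha]; rfl⟩
    hα := by intro a; rfl
    cen := by
      intro z hz a
      have hz' : z.x = 0 := hz
      refine Hs.ext ?_ ?_
      · show z.x + a.x = a.x + z.x
        ring
      · show z.y + a.y + σ z.x * a.x = a.y + z.y + σ a.x * z.x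
        rw [hz', map_zero]; ring
    fix := by
      intro z hz
      have hz' : z.x = 0 := hz
      refine Hs.ext ?_ rfl
      show ζ * z.x = z.x
      rw [hz', mul_zero]
    gen := by
      intro z hz
      have hz' : z.x = 0 := hz
      have h2 : z.y + σ z.y = 0 := by rw [z.h, hz', zero_mul]
      obtain ⟨k, hk⟩ := exists_sub σ hσ h1 z.y h2
      obtain ⟨a, ha⟩ := exists_x σ hσ h1 1
      obtain ⟨b, hb⟩ := exists_x σ hσ h1 k
      apply Subgroup.subset_closure
      refine ⟨a, b, Hs.ext ?_ ?_⟩
      · rw [cm_x σ hσ, hz']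
      · rw [cm_y σ hσ, ha, hb, map_one, ← hk]; ring
    pg := hpg }

end Hs

/-- abelian data -/
@[reducible] noncomputable def abDat {p : ℕ} {K : Type*} [Field K] (ζ : K) (hζ : ζ ≠ 0) (hpg : IsPGroup p (Multiplicative K)) :
    Dat p ζ (Multiplicative K) :=
  { α := 
      { toFun := fun a => Multiplicative.ofAdd (ζ * a.toAdd)
        invFun := fun a => Multiplicative.ofAdd (ζ⁻¹ * a.toAdd)
        left_inv := by
          intro a
          show Multiplicative.ofAdd (ζ⁻¹ * (ζ * a.toAdd)) = a
          rw [inv_mul_cancel_left₀ hζ]; rfl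
        right_inv := by
          intro a
          show Multiplicative.ofAdd (ζ * (ζ⁻¹ * a.toAdd)) = a
          rw [mul_inv_cancel_left₀ hζ]; rfl
        map_mul' := by
          intro a b
          show Multiplicative.ofAdd (ζ * (a.toAdd + b.toAdd)) = _
          rw [mul_add]; rfl }
    π := MonoidHom.id _
    surj := fun k => ⟨k, rfl⟩
    hα := fun a => rfl
    cen := by
      intro z _ x
      exact mul_comm z x
    fix := by
      intro z hz
      have hz' : z = 1 := hz
      rw [hz']
      show Multiplicative.ofAdd (ζ * 0) = 1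
      rw [mul_zero]; rfl
    gen := by
      intro z hz
      have hz' : z = 1 := hz
      rw [hz']; exact Subgroup.one_mem _
    pg := hpg }

end H38.Sch
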