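import Cfsg.Agent.Lib.H38.SchD
import Cfsg.Agent.Lib.H3.LocalNPC

/-!
The extension of the data by a cyclic `q`-group; it is minimal non-`p`-nilpotent.
-/

set_option autoImplicit false

universe u

namespace H38.Sch

variable {p : ℕ} {K : Type*} [Field K] {ζ : K} {P : Type*} [Group P]

/-- internal semidirect product of the data with a cyclic group of order `n` -/
structure Int' (D : Dat p ζ P) (n : ℕ) (G : Type*) [Group G] where
  ι : P →* G
  inj : Function.Injective ι
  c : G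
  hc : ∀ x, c * ι x * c⁻¹ = ι (D.α x)
  ord : orderOf c = n
  gen : ι.range ⊔ Subgroup.zpowers c = ⊤

namespace Int'

variable {D : Dat p ζ P} {n : ℕ} {G : Type*} [Group G]

/-- conjugate -/
def conj (I : Int' D n G) (h : G) : Int' D n G where
  ι := (MulAut.conj h).toMonoidHom.comp I.ι
  inj := (MulAut.conj h).injective.comp I.inj
  c := h * I.c * h⁻¹
  hc := by
    intro x
    show h * I.c * h⁻¹ * (h * I.ι x * h⁻¹) * (h * I.c * h⁻¹)⁻¹ = h * I.ι (D.α x) * h⁻¹
    rw [← I.hc]; group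
  ord := (orderOf_injective (MulAut.conj h).toMonoidHom (MulAut.conj h).injective I.c).trans I.ord
  gen := by
    have h1 : ((MulAut.conj h).toMonoidHom.comp I.ι).range ⊔ Subgroup.zpowers (h * I.c * h⁻¹) =
        (I.ι.range ⊔ Subgroup.zpowers I.c).map (MulAut.conj h).toMonoidHom := by
      rw [Subgroup.map_sup, MonoidHom.range_comp, MonoidHom.map_zpowers]
      rfl
    rw [h1, I.gen, ← MonoidHom.range_eq_map, MonoidHom.range_eq_top]
    exact (MulAut.conj h).surjective

/-- transport -/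
def map (I : Int' D n G) {G' : Type*} [Group G'] (e : G ≃* G') : Int' D n G' where
  ι := e.toMonoidHom.comp I.ι
  inj := e.injective.comp I.inj
  c := e I.c
  hc := by
    intro x
    show e I.c * e (I.ι x) * (e I.c)⁻¹ = e (I.ι (D.α x))
    rw [← I.hc, map_mul, map_mul, map_inv]
  ord := (orderOf_injective e.toMonoidHom e.injective I.c).trans I.ord
  gen := by
    have h1 : (e.toMonoidHom.comp I.ι).range ⊔ Subgroup.zpowers (e I.c) =
        (I.ι.range ⊔ Subgroup.zpowers I.c).map e.toMonoidHom := by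
      rw [Subgroup.map_sup, MonoidHom.range_comp, MonoidHom.map_zpowers]
      rfl
    rw [h1, I.gen, ← MonoidHom.range_eq_map, MonoidHom.range_eq_top]
    exact e.surjective

theorem normal (I : Int' D n G) : I.ι.range.Normal := by
  have h1 : I.ι.range ⊔ Subgroup.zpowers I.c ≤ Subgroup.normalizer (I.ι.range : Set G) := by
    rw [sup_le_iff]
    refine ⟨Subgroup.le_normalizer, ?_⟩
    rw [Subgroup.zpowers_le, Subgroup.mem_normalizer_iff]
    intro y
    constructor
    · rintro ⟨x, rfl⟩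
      exact ⟨_, (I.hc x).symm⟩
    · rintro ⟨x, hx⟩
      obtain ⟨x, rfl⟩ := D.α.surjective x
      rw [← I.hc] at hx
      have : I.ι x = y := by
        have h2 := congrArg (fun t => I.c⁻¹ * t * I.c) hx
        simpa [mul_assoc] using h2
      exact ⟨x, this⟩
  rw [I.gen, top_le_iff] at h1
  exact Subgroup.normalizer_eq_top_iff.1 h1

theorem pow_c (I : Int' D n G) : I.c ^ n = 1 := by
  have := pow_orderOf_eq_one I.c
  rwa [I.ord] at this

theorem pow_mem (I : Int' D n G) (x : G) : x ^ n ∈ I.ι.range := by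
  have hN := I.normal
  have h1 : (⊤ : Subgroup G).map (QuotientGroup.mk' I.ι.range) = Subgroup.zpowers (QuotientGroup.mk' I.ι.range I.c) := by
    rw [← I.gen, Subgroup.map_sup, MonoidHom.map_zpowers, QuotientGroup.map_mk'_self, bot_sup_eq]
  have h2 : QuotientGroup.mk' I.ι.range x ∈ Subgroup.zpowers (QuotientGroup.mk' I.ι.range I.c) := by
    rw [← h1]; exact ⟨x, trivial, rfl⟩
  obtain ⟨i, hi⟩ := h2
  have h3 : QuotientGroup.mk' I.ι.range (x ^ n) = 1 := by
    rw [map_pow, ← hi]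
    show ((QuotientGroup.mk' I.ι.range I.c) ^ i) ^ n = 1
    rw [← zpow_natCast, ← zpow_mul, mul_comm, zpow_mul, zpow_natCast, ← map_pow, I.pow_c, map_one, one_zpow]
  rwa [← MonoidHom.mem_ker, QuotientGroup.ker_mk'] at h3

theorem exists_form (I : Int' D n G) (x : G) : ∃ (y : P) (i : ℤ), x = I.ι y * I.c ^ i := by
  have hN := I.normal
  have h1 : x ∈ I.ι.range ⊔ Subgroup.zpowers I.c := by rw [I.gen]; trivial
  rw [Subgroup.mem_sup_of_normal_left] at h1
  obtain ⟨_, ⟨y, rfl⟩, _, ⟨i, rfl⟩, h⟩ := h1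
  exact ⟨y, i, h.symm⟩

theorem iter (I : Int' D n G) (k : ℕ) (x : P) : I.c ^ k * I.ι x * (I.c ^ k)⁻¹ = I.ι (D.α^[k] x) := by
  induction k generalizing x with
  | zero => simp
  | succ k ih =>
    rw [Function.iterate_succ_apply, ← ih, ← I.hc, pow_succ]; group

theorem pgroup (I : Int' D n G) : IsPGroup p I.ι.range := by
  rintro ⟨_, x, rfl⟩
  obtain ⟨k, hk⟩ := D.pg x
  exact ⟨k, Subtype.ext (by show (I.ι x) ^ p ^ k = 1; rw [← map_pow, hk, map_one])⟩

theorem inf_eq [Finite G] [hp : Fact p.Prime] (I : Int' D n G) (hn : n.Coprime p) : I.ι.range ⊓ Subgroup.zpowers I.c = ⊥ := by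
  obtain ⟨m, hm⟩ := I.pgroup.exists_card_eq
  have h1 : Nat.Coprime (Nat.card I.ι.range) (Nat.card (Subgroup.zpowers I.c)) := by
    rw [hm, Nat.card_zpowers, I.ord]; exact (hn.symm).pow_left m
  exact Subgroup.inf_eq_bot_of_coprime h1

theorem card [Finite G] [hp : Fact p.Prime] (I : Int' D n G) (hn : n.Coprime p) : Nat.card G = Nat.card P * n := by
  have hN := I.normal
  have h1 : Subgroup.IsComplement' I.ι.range (Subgroup.zpowers I.c) :=
    Subgroup.isComplement'_of_disjoint_and_mul_eq_univ (disjoint_iff.2 (I.inf_eq hn)) (by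
      rw [← Subgroup.normal_mul, I.gen]; rfl)
  have h2 := h1.card_mul
  rw [Nat.card_zpowers, I.ord] at h2
  rw [← h2]
  congr 1
  exact Nat.card_congr (MonoidHom.ofInjective I.inj).toEquiv.symm

/-- there is no normal `p`-complement -/
theorem not_npc [Finite G] [hp : Fact p.Prime] (I : Int' D n G) (hn : n.Coprime p) (hζ1 : ζ ≠ 1) :
    ¬ Cfsg.HasNormalPComplement p G := by
  intro h
  have hN := I.normal
  have h1 := H2.Frobenius.local_of_hasNPC h I.ι.range I.pgroup I.c (by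
    rw [Subgroup.normalizer_eq_top]; trivial) (by rw [I.ord]; exact hn)
  rw [Subgroup.mem_centralizer_iff] at h1
  obtain ⟨x, hx⟩ := D.surj (Multiplicative.ofAdd 1)
  have h2 : I.ι (D.α x) = I.ι x := by
    rw [← I.hc, ← h1 _ ⟨x, rfl⟩]; group
  have h3 := congrArg D.π (I.inj h2)
  rw [D.hα, hx, toAdd_ofAdd, mul_one] at h3
  exact hζ1 (Multiplicative.ofAdd.injective h3)

/-- an invariant subgroup not fixed pointwise is everything -/
theorem full (D : Dat p ζ P) (hgen : Subring.closure {ζ} = ⊤) (E : Subgroup P) (hE : ∀ x ∈ E, D.α x ∈ E) (hne : ∃ x ∈ E, D.α x ≠ x) :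
    E = ⊤ := by
  let S : AddSubgroup K :=
    { carrier := {v | ∃ x ∈ E, D.π x = Multiplicative.ofAdd v}
      add_mem' := by
        rintro v v' ⟨x, hx, hx'⟩ ⟨y, hy, hy'⟩
        exact ⟨x * y, E.mul_mem hx hy, by rw [map_mul, hx', hy']; rfl⟩
      zero_mem' := ⟨1, E.one_mem, by rw [map_one]; rfl⟩
      neg_mem' := by
        rintro v ⟨x, hx, hx'⟩
        exact ⟨x⁻¹, E.inv_mem hx, by rw [map_inv, hx']; rfl⟩ }
  have h1 : ∀ s ∈ S, ζ * s ∈ S := by
    rintro s ⟨x, hx, hx'⟩
    exact ⟨D.α x, hE x hx, by rw [D.hα, hx']; rfl⟩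
  have h2 : S ≠ ⊥ := by
    obtain ⟨x, hx, hx'⟩ := hne
    intro h
    have h3 : (D.π x).toAdd ∈ S := ⟨x, hx, rfl⟩
    rw [h, AddSubgroup.mem_bot] at h3
    exact hx' (D.fix x (by rw [← ofAdd_toAdd (D.π x), h3]; rfl))
  have h3 := add_top' hgen S h1 h2
  have h4 : ∀ x : P, ∃ y ∈ E, D.π y = D.π x := by
    intro x
    have : (D.π x).toAdd ∈ S := by rw [h3]; trivial
    obtain ⟨y, hy, hy'⟩ := this
    exact ⟨y, hy, by rw [hy']; rfl⟩
  have h5 : ∀ z, D.π z = 1 → z ∈ E := by
    intro z hz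
    refine (Subgroup.closure_le E).2 ?_ (D.gen z hz)
    rintro _ ⟨x, y, rfl⟩
    obtain ⟨l, hl, hlx⟩ := h4 x
    obtain ⟨m, hm, hmy⟩ := h4 y
    have : Dat.cm x y = Dat.cm l m := D.cm_congr hlx.symm hmy.symm
    show Dat.cm x y ∈ E
    rw [this]
    exact E.mul_mem (E.mul_mem (E.mul_mem hl hm) (E.inv_mem hl)) (E.inv_mem hm)
  rw [eq_top_iff]
  intro x _
  obtain ⟨l, hl, hlx⟩ := h4 x
  have : x = l * (l⁻¹ * x) := by group
  rw [this]
  exact E.mul_mem hl (h5 _ (by rw [map_mul, map_inv, hlx, inv_mul_cancel]))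

/-- every proper subgroup has a normal `p`-complement -/
theorem proper_npc [Finite G] {q r : ℕ} [hp : Fact p.Prime] [hq : Fact q.Prime] (hpq : p ≠ q) (hr : 1 ≤ r)
    (I : Int' D (q ^ r) G) (hgen : Subring.closure {ζ} = ⊤) (hDq : ∀ x, D.α^[q] x = x)
    (M : Subgroup G) (hM : M ≠ ⊤) : Cfsg.HasNormalPComplement p M := by
  have hn : (q ^ r).Coprime p := Nat.Coprime.pow_left r ((Nat.coprime_primes hq.out hp.out).2 hpq.symm)
  by_contra hbad
  obtain ⟨D₁, hD₁, g₁, hg₁, q', k, hq', hqp', hord, hncen⟩ := H3.LocalNPC.exists_bad hbad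
  apply hM
  set y : G := (g₁ : G) with hy
  set E : Subgroup G := D₁.map M.subtype with hE
  have hyM : y ∈ M := g₁.2
  have hEM : E ≤ M := Subgroup.map_subtype_le D₁
  have hEp : IsPGroup p E := hD₁.map _
  have hyn : ∀ e ∈ E, y * e * y⁻¹ ∈ E := by
    rintro _ ⟨d, hd, rfl⟩
    exact ⟨g₁ * d * g₁⁻¹, (Subgroup.mem_normalizer_iff.1 hg₁ d).1 hd, by simp [hy]⟩
  have hync : ∃ e ∈ E, y * e * y⁻¹ ≠ e := by
    by_contra hcon
    push Not at hcon
    apply hncen
    rw [Subgroup.mem_centralizer_iff]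
    intro d hd
    have h1 := hcon d ⟨d, hd, rfl⟩
    apply Subtype.ext
    show (d : G) * y = y * d
    rw [mul_inv_eq_iff_eq_mul] at h1
    exact h1.symm
  have hordy : orderOf y = q' ^ k := by rw [← hord, hy]; exact Subgroup.orderOf_coe g₁
  -- E ≤ N
  have hEN : E ≤ I.ι.range := by
    intro e he
    obtain ⟨s, hs⟩ := hEp ⟨e, he⟩
    have hs' : e ^ p ^ s = 1 := congrArg Subtype.val hs
    exact H3.LocalNPC.mem_of_pow_mem_of_coprime (hn.pow_right s) (I.pow_mem e) (by rw [hs']; exact Subgroup.one_mem _)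
  -- y is a q-element
  have hyq : y ^ q ^ r = 1 := by
    have h1 := I.pow_mem y
    obtain ⟨s, hs⟩ := I.pgroup ⟨_, h1⟩
    have hs' : (y ^ q ^ r) ^ p ^ s = 1 := congrArg Subtype.val hs
    have h2 : orderOf (y ^ q ^ r) ∣ p ^ s := orderOf_dvd_of_pow_eq_one hs'
    have h3 : orderOf (y ^ q ^ r) ∣ q' ^ k := hordy ▸ orderOf_pow_dvd _
    have h4 : Nat.Coprime (p ^ s) (q' ^ k) := Nat.Coprime.pow _ _ ((Nat.coprime_primes hp.out hq').2 hqp'.symm)
    exact orderOf_eq_one_iff.1 (Nat.dvd_one.1 (h4 ▸ Nat.dvd_gcd h2 h3))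
  have hyqg : IsPGroup q (Subgroup.zpowers y) := by
    rintro ⟨_, i, rfl⟩
    refine ⟨r, Subtype.ext ?_⟩
    show (y ^ i) ^ q ^ r = 1
    rw [← zpow_natCast, ← zpow_mul, mul_comm, zpow_mul, zpow_natCast, hyq, one_zpow]
  -- conjugate into ⟨c⟩
  have hcq : IsPGroup q (Subgroup.zpowers I.c) := IsPGroup.of_card (n := r) (by rw [Nat.card_zpowers, I.ord])
  have hidx : ¬ q ∣ (Subgroup.zpowers I.c).index := by
    have h1 := (Subgroup.zpowers I.c).card_mul_index
    rw [I.card hn, Nat.card_zpowers, I.ord, mul_comm] at h1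
    have h2 : (Subgroup.zpowers I.c).index = Nat.card P := Nat.eq_of_mul_eq_mul_right (pow_pos hq.out.pos r) h1
    rw [h2]
    have h3 : Finite P := Finite.of_injective I.ι I.inj
    obtain ⟨m, hm⟩ := D.pg.exists_card_eq
    rw [hm]
    intro h4
    exact hpq ((Nat.prime_dvd_prime_iff_eq hq.out hp.out).1 (hq.out.dvd_of_dvd_pow h4)).symm
  obtain ⟨Q, hQ⟩ := hyqg.exists_le_sylow
  obtain ⟨h, hh⟩ := MulAction.exists_smul_eq G Q (hcq.toSylow hidx)
  have hyc : h * y * h⁻¹ ∈ Subgroup.zpowers I.c := by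
    have h1 : h * y * h⁻¹ ∈ (h • Q : Sylow q G) := by
      rw [Sylow.smul_def]
      exact ⟨y, hQ (Subgroup.mem_zpowers y), rfl⟩
    rw [hh, IsPGroup.mem_toSylow] at h1
    exact h1
  obtain ⟨I', hI', hIN⟩ : ∃ I' : Int' D (q ^ r) G, y ∈ Subgroup.zpowers I'.c ∧ E ≤ I'.ι.range := by
    refine ⟨I.conj h⁻¹, ?_, ?_⟩
    · obtain ⟨i, hi⟩ := hyc
      refine ⟨i, ?_⟩
      have hi' : I.c ^ i = h * y * h⁻¹ := hi
      show (h⁻¹ * I.c * h⁻¹⁻¹) ^ i = y
      rw [conj_zpow, hi']; group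
    · intro e he
      have hN := I.normal
      have h1 : h * e * h⁻¹ ∈ I.ι.range := hN.conj_mem e (hEN he) h
      obtain ⟨x, hx⟩ := h1
      refine ⟨x, ?_⟩
      show h⁻¹ * I.ι x * h⁻¹⁻¹ = e
      rw [hx]; group
  -- c ∈ ⟨y⟩
  obtain ⟨i, hi⟩ := hI'
  have hi' : I'.c ^ i = y := hi
  have hcqc : ∀ x, I'.c ^ q * I'.ι x * (I'.c ^ q)⁻¹ = I'.ι x := by
    intro x; rw [I'.iter, hDq]
  have hqi : ¬ (q : ℤ) ∣ i := by
    rintro ⟨j, hj⟩
    obtain ⟨e, he, hne⟩ := hync
    apply hne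
    obtain ⟨x, hx⟩ := hIN he
    have h1 : Commute (I'.c ^ q) e := by
      rw [← hx]
      have h2 := hcqc x
      rw [mul_inv_eq_iff_eq_mul] at h2
      exact h2
    have h3 : Commute y e := by
      rw [← hi', hj, zpow_mul, zpow_natCast]
      exact h1.zpow_left j
    rw [h3.eq]; group
  have hcy : I'.c ∈ Subgroup.zpowers y := by
    have h1 : IsCoprime ((q ^ r : ℕ) : ℤ) i := by
      push_cast
      exact IsCoprime.pow_left ((Nat.prime_iff_prime_int.1 hq.out).coprime_iff_not_dvd.2 hqi)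
    obtain ⟨a, b, hab⟩ := h1
    refine ⟨b, ?_⟩
    show y ^ b = I'.c
    rw [← hi', ← zpow_mul]
    have h2 : I'.c ^ (a * ((q ^ r : ℕ) : ℤ)) = 1 := by
      rw [mul_comm, zpow_mul, zpow_natCast, I'.pow_c, one_zpow]
    calc I'.c ^ (i * b) = I'.c ^ (a * ((q ^ r : ℕ) : ℤ)) * I'.c ^ (i * b) := by rw [h2, one_mul]
      _ = I'.c ^ (a * ((q ^ r : ℕ) : ℤ) + b * i) := by rw [← zpow_add, mul_comm i b]
      _ = I'.c := by rw [hab, zpow_one]
  have hcM : I'.c ∈ M := (Subgroup.zpowers_le.2 hyM) hcy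
  have hcn : ∀ e ∈ E, I'.c * e * I'.c⁻¹ ∈ E := by
    have h1 : y ∈ Subgroup.normalizer (E : Set G) := by
      exact Subgroup.mem_normalizer_fintype (S := (E : Set G)) hyn
    have h2 : I'.c ∈ Subgroup.normalizer (E : Set G) := (Subgroup.zpowers_le.2 h1) hcy
    intro e he
    exact (Subgroup.mem_normalizer_iff.1 h2 e).1 he
  have hfull : E.comap I'.ι = ⊤ := by
    apply full D hgen
    · intro x hx
      show I'.ι (D.α x) ∈ E
      rw [← I'.hc]
      exact hcn _ hx
    · by_contra hcon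
      push Not at hcon
      obtain ⟨e, he, hne⟩ := hync
      apply hne
      obtain ⟨x, hx⟩ := hIN he
      have h1 : Commute I'.c e := by
        have h2 := I'.hc x
        rw [hcon x (by show I'.ι x ∈ E; rw [hx]; exact he), mul_inv_eq_iff_eq_mul, hx] at h2
        exact h2
      have h3 : Commute y e := by rw [← hi']; exact h1.zpow_left i
      rw [h3.eq]; group
  rw [eq_top_iff, ← I'.gen, sup_le_iff]
  constructor
  · rintro _ ⟨x, rfl⟩
    have : x ∈ E.comap I'.ι := by rw [hfull]; trivial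
    exact hEM this
  · exact Subgroup.zpowers_le.2 hcM

end Int'

/-- homs from `ZMod n` -/
theorem exists_zhom {M : Type*} [Group M] {n : ℕ} (m : M) (h : m ^ n = 1) :
    ∃ f : Multiplicative (ZMod n) →* M, f (Multiplicative.ofAdd 1) = m := by
  let g : ZMod n →+ Additive M := ZMod.lift n ⟨zmultiplesHom (Additive M) (Additive.ofMul m), by
    show ((n : ℤ) • Additive.ofMul m) = 0
    rw [natCast_zsmul, ← ofMul_pow, h]; rfl⟩
  refine ⟨AddMonoidHom.toMultiplicativeLeft g, ?_⟩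
  show (g 1).toMul = m
  have h1 : g ((1 : ℤ) : ZMod n) = (1 : ℤ) • Additive.ofMul m := ZMod.lift_coe n _ 1
  rw [Int.cast_one, one_zsmul] at h1
  rw [h1]; rfl

/-- existence of the extension, with its universal property -/
theorem exists_int {P : Type} [Group P] (D : Dat p ζ P) [Finite P] (n : ℕ) (hn : n ≠ 0) (hDn : ∀ x, D.α^[n] x = x) :
    ∃ (G : Type u) (_ : Group G) (_ : Finite G) (I : Int' D n G), Nat.card G = Nat.card P * n ∧
      ∀ (X : Type u) [Group X] (f : P →* X) (g : X), g ^ n = 1 → (∀ x, g * f x * g⁻¹ = f (D.α x)) →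
        ∃ φ : G →* X, (∀ x, φ (I.ι x) = f x) ∧ φ I.c = g := by
  haveI : NeZero n := ⟨hn⟩
  have hiter : ∀ (k : ℕ) (x : P), (((D.α : MulAut P) ^ k : MulAut P) : P → P) x = D.α^[k] x := by
    intro k
    induction k with
    | zero => intro x; rfl
    | succ k ih => intro x; rw [pow_succ, MulAut.mul_apply, ih, Function.iterate_succ_apply]
  obtain ⟨ψ, hψ⟩ := exists_zhom (n := n) (D.α : MulAut P) (MulEquiv.ext (fun x => by rw [hiter, hDn]; rfl))
  have hgenz : ∀ z : Multiplicative (ZMod n), ∃ k : ℕ, z = (Multiplicative.ofAdd (1 : ZMod n)) ^ k := by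
    intro z
    refine ⟨z.toAdd.val, ?_⟩
    rw [← ofAdd_nsmul, nsmul_eq_mul, mul_one, ZMod.natCast_zmod_val]; rfl
  let SD := P ⋊[ψ] Multiplicative (ZMod n)
  haveI : Finite SD := Finite.of_equiv _ SemidirectProduct.equivProd.symm
  let e : SD ≃* ULift.{u} SD := MulEquiv.ulift.symm
  let I₀ : Int' D n SD :=
    { ι := SemidirectProduct.inl
      inj := SemidirectProduct.inl_injective
      c := SemidirectProduct.inr (Multiplicative.ofAdd 1)
      hc := by
        intro x
        rw [← hψ, SemidirectProduct.inl_aut, map_inv]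
      ord := by
        rw [orderOf_injective SemidirectProduct.inr SemidirectProduct.inr_injective, orderOf_ofAdd_eq_addOrderOf,
          ZMod.addOrderOf_one]
      gen := by
        rw [eq_top_iff]
        intro x _
        rw [← SemidirectProduct.inl_left_mul_inr_right x]
        obtain ⟨k, hk⟩ := hgenz x.right
        apply Subgroup.mul_mem
        · exact (le_sup_left : _ ≤ SemidirectProduct.inl.range ⊔ Subgroup.zpowers (SemidirectProduct.inr (φ := ψ) (Multiplicative.ofAdd 1))) ⟨_, rfl⟩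
        · rw [hk, map_pow]
          exact (le_sup_right : _ ≤ SemidirectProduct.inl.range ⊔ Subgroup.zpowers (SemidirectProduct.inr (φ := ψ) (Multiplicative.ofAdd 1))) (Subgroup.npow_mem_zpowers _ _) }
  refine ⟨ULift.{u} SD, inferInstance, inferInstance, I₀.map e, ?_, ?_⟩
  · rw [Nat.card_ulift, SemidirectProduct.card]
    congr 1
    rw [Nat.card_eq_fintype_card, Fintype.card_multiplicative, ZMod.card]
  · intro X _ f g hg hf
    obtain ⟨γ, hγ⟩ := exists_zhom (n := n) g hg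
    have hpow : ∀ (k : ℕ) (x : P), g ^ k * f x * (g ^ k)⁻¹ = f (D.α^[k] x) := by
      intro k
      induction k with
      | zero => intro x; simp
      | succ k ih => intro x; rw [Function.iterate_succ_apply, ← ih, ← hf, pow_succ]; group
    let φ₀ : SD →* X := SemidirectProduct.lift f γ (by
      intro z
      obtain ⟨k, rfl⟩ := hgenz z
      ext x
      show f (ψ _ x) = γ _ * f x * (γ _)⁻¹
      rw [map_pow, map_pow, hψ, hγ, hiter, hpow])
    refine ⟨φ₀.comp e.symm.toMonoidHom, ?_, ?_⟩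
    · intro x
      show φ₀ (e.symm (e (SemidirectProduct.inl x))) = f x
      rw [MulEquiv.symm_apply_apply, SemidirectProduct.lift_inl]
    · show φ₀ (e.symm (e (SemidirectProduct.inr (Multiplicative.ofAdd 1)))) = g
      rw [MulEquiv.symm_apply_apply, SemidirectProduct.lift_inr, hγ]

end H38.Sch
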