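import Cfsg.Agent.Lib.H38.SchE

/-!
Identification of an irreducible module of a cyclic group of prime order with a finite field.
-/

set_option autoImplicit false

namespace H38.Sch

open Polynomial

theorem field_iso {p q : ℕ} [hp : Fact p.Prime] [hq : Fact q.Prime] (hpq : p ≠ q) {K : Type*} [Field K] [Fintype K]
    (hK : Fintype.card K = p ^ orderOf (p : ZMod q)) {ζ : K} (hζ : orderOf ζ = q)
    {V : Type*} [AddCommGroup V] [Module (ZMod p) V] [Finite V] (T : Module.End (ZMod p) V)
    (hT : T ^ q = 1) (hT1 : T ≠ 1)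
    (hirr : ∀ W : Submodule (ZMod p) V, (∀ v ∈ W, T v ∈ W) → W = ⊥ ∨ W = ⊤) :
    ∃ (j : ℕ) (φ : K ≃+ V), ¬ q ∣ j ∧ ∀ k, φ (ζ * k) = (T ^ j) (φ k) := by
  classical
  have hVcard := H67.IrrCyc.card_eq (p := q) (q := p) hpq T hT hT1 hirr
  obtain ⟨v₀, hv₀⟩ : ∃ v, T v ≠ v := by
    by_contra hcon
    push Not at hcon
    exact hT1 (LinearMap.ext hcon)
  have hv0 : v₀ ≠ 0 := by rintro rfl; exact hv₀ (map_zero T)
  have hinj : ∀ g : (ZMod p)[X], aeval T g ≠ 0 → Function.Injective (aeval T g) := by
    intro g hg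
    rw [← LinearMap.ker_eq_bot]
    refine (hirr _ ?_).resolve_right ?_
    · intro v hv
      rw [LinearMap.mem_ker] at hv ⊢
      have hcomm : aeval T g * T = T * aeval T g := by
        have : T = aeval T (X : (ZMod p)[X]) := by simp
        nth_rewrite 2 [this]
        nth_rewrite 3 [this]
        rw [← map_mul, ← map_mul, mul_comm]
      have := congrArg (fun f => f v) hcomm
      simp only [Module.End.mul_apply] at this
      rw [this, hv, map_zero]
    · intro h
      rw [LinearMap.ker_eq_top] at h
      exact hg h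
  have hsurj : ∀ v : V, ∃ g : (ZMod p)[X], aeval T g v₀ = v := by
    let W : Submodule (ZMod p) V :=
      { carrier := {v | ∃ g : (ZMod p)[X], aeval T g v₀ = v}
        add_mem' := by
          rintro _ _ ⟨g, rfl⟩ ⟨h, rfl⟩
          exact ⟨g + h, by simp⟩
        zero_mem' := ⟨0, by simp⟩
        smul_mem' := by
          rintro c _ ⟨g, rfl⟩
          exact ⟨C c * g, by simp⟩ }
    have hW : W = ⊥ ∨ W = ⊤ := by
      apply hirr
      rintro _ ⟨g, rfl⟩
      exact ⟨X * g, by simp⟩
    rcases hW with h | h
    · exfalso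
      have : v₀ ∈ W := ⟨1, by simp⟩
      rw [h] at this
      exact hv0 this
    · intro v
      have : v ∈ W := by rw [h]; trivial
      exact this
  let I : Ideal (ZMod p)[X] := RingHom.ker (aeval T : (ZMod p)[X] →ₐ[ZMod p] Module.End (ZMod p) V)
  have hI : I.IsPrime := by
    constructor
    · rw [Ideal.ne_top_iff_one]
      intro h
      have h1 : aeval T (1 : (ZMod p)[X]) = 0 := h
      rw [map_one] at h1
      have h2 := congrArg (fun f => f v₀) h1
      exact hv0 h2
    · intro g h hgh
      have hgh' : aeval T (g * h) = 0 := hgh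
      rw [map_mul] at hgh'
      by_cases hh : aeval T h = 0
      · right; exact hh
      · left
        have h1 := hinj h hh
        have h2 : Function.Surjective (aeval T h) := Finite.injective_iff_surjective.1 h1
        change aeval T g = 0
        ext v
        obtain ⟨w, rfl⟩ := h2 v
        exact congrArg (fun f => f w) hgh'
  let K' := (ZMod p)[X] ⧸ I
  have hmem : ∀ g h : (ZMod p)[X], (Ideal.Quotient.mk I g = Ideal.Quotient.mk I h) ↔ aeval T g = aeval T h := by
    intro g h
    rw [Ideal.Quotient.eq]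
    change aeval T (g - h) = 0 ↔ _
    rw [map_sub, sub_eq_zero]
  let F : K' → V := fun x => aeval T (Function.surjInv Ideal.Quotient.mk_surjective x) v₀
  have hF : ∀ g : (ZMod p)[X], F (Ideal.Quotient.mk I g) = aeval T g v₀ := by
    intro g
    have h1 : Ideal.Quotient.mk I (Function.surjInv Ideal.Quotient.mk_surjective (Ideal.Quotient.mk I g)) =
      Ideal.Quotient.mk I g := Function.surjInv_eq _ _
    rw [hmem] at h1
    change aeval T _ v₀ = _
    rw [h1]
  have hFbij : Function.Bijective F := by
    constructor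
    · intro x y hxy
      obtain ⟨g, rfl⟩ := Ideal.Quotient.mk_surjective x
      obtain ⟨h, rfl⟩ := Ideal.Quotient.mk_surjective y
      rw [hF, hF] at hxy
      rw [hmem]
      by_contra hne
      have h1 : aeval T (g - h) ≠ 0 := by rw [map_sub]; exact sub_ne_zero.2 hne
      have h2 := hinj _ h1
      apply hv0
      apply h2
      rw [map_zero, map_sub, LinearMap.sub_apply, hxy, sub_self]
    · intro v
      obtain ⟨g, hg⟩ := hsurj v
      exact ⟨Ideal.Quotient.mk I g, by rw [hF, hg]⟩
  have hFadd : ∀ x y, F (x + y) = F x + F y := by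
    intro x y
    obtain ⟨g, rfl⟩ := Ideal.Quotient.mk_surjective x
    obtain ⟨h, rfl⟩ := Ideal.Quotient.mk_surjective y
    rw [← map_add, hF, hF, hF, map_add, LinearMap.add_apply]
  have hKV : Nat.card K' = Nat.card V := Nat.card_congr (Equiv.ofBijective F hFbij)
  have hKfin : Finite K' := Finite.of_injective F hFbij.1
  have hdom : IsDomain K' := Ideal.Quotient.isDomain I
  have hfield : IsField K' := Finite.isField_of_domain K'
  letI := hfield.toField
  haveI hfint : Fintype K' := Fintype.ofFinite K'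
  have hcard : Fintype.card K = Fintype.card K' := by
    rw [hK, ← Nat.card_eq_fintype_card, hKV, hVcard]
  let e : K ≃+* K' := FiniteField.ringEquivOfCardEq hcard
  let t : K' := Ideal.Quotient.mk I X
  have ht : t ^ q = 1 := by
    change (Ideal.Quotient.mk I X) ^ q = Ideal.Quotient.mk I 1
    rw [← map_pow, hmem]; simp [hT]
  have ht1 : t ≠ 1 := by
    intro h
    have : Ideal.Quotient.mk I X = Ideal.Quotient.mk I 1 := h
    rw [hmem] at this
    apply hT1; simpa using this
  have hto : orderOf t = q := orderOf_eq_prime ht ht1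
  have hprim : IsPrimitiveRoot t q := by rw [← hto]; exact IsPrimitiveRoot.orderOf t
  haveI : NeZero q := ⟨hq.out.ne_zero⟩
  have heζ : (e ζ) ^ q = 1 := by rw [← map_pow, ← hζ, pow_orderOf_eq_one, map_one]
  obtain ⟨j, hj, hjζ⟩ := hprim.eq_pow_of_pow_eq_one heζ
  refine ⟨j, (e.toAddEquiv).trans (AddEquiv.mk' (Equiv.ofBijective F hFbij) hFadd), ?_, ?_⟩
  · intro hdvd
    have hj0 : j = 0 := Nat.eq_zero_of_dvd_of_lt hdvd hj
    rw [hj0, pow_zero] at hjζ
    have h1 : ζ = 1 := e.injective (by rw [← hjζ, map_one])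
    rw [h1, orderOf_one] at hζ
    exact hq.out.one_lt.ne hζ
  · intro k
    show F (e (ζ * k)) = (T ^ j) (F (e k))
    obtain ⟨g, hg⟩ := Ideal.Quotient.mk_surjective (e k)
    rw [map_mul, ← hjζ, ← hg, hF]
    have h1 : t ^ j * Ideal.Quotient.mk I g = Ideal.Quotient.mk I (X ^ j * g) := by
      rw [map_mul, map_pow]
    rw [h1, hF, map_mul, map_pow, aeval_X, Module.End.mul_apply]

end H38.Sch
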