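import Cfsg.Agent.Lib.H38.SchF
import Cfsg.Agent.Lib.H65.HallHigman

/-!
Data for a `p`-group with an irreducible automorphism of prime order; extraction from a minimal non-`p`-nilpotent group.
-/

set_option autoImplicit false

namespace H38.Sch

theorem iter_mul {P : Type*} [Group P] (α : P ≃* P) (i : ℕ) (x y : P) : α^[i] (x * y) = α^[i] x * α^[i] y := by
  induction i generalizing x y with
  | zero => rfl
  | succ i ih => rw [Function.iterate_succ_apply, Function.iterate_succ_apply, Function.iterate_succ_apply, map_mul, ih]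

/-- iterate as an automorphism -/
noncomputable def iterAut {P : Type*} [Group P] (α : P ≃* P) (j : ℕ) : P ≃* P :=
  MulEquiv.mk' (Equiv.ofBijective (α^[j]) (α.bijective.iterate j)) (iter_mul α j)

theorem dat_of_aux {p q : ℕ} [hp : Fact p.Prime] [hq : Fact q.Prime] (hpq : p ≠ q) {K : Type*} [Field K] [Fintype K]
    (hK : Fintype.card K = p ^ orderOf (p : ZMod q)) {ζ : K} (hζ : orderOf ζ = q)
    {P : Type*} [Group P] (hP : IsPGroup p P) (α : P ≃* P) (hαq : ∀ x, α^[q] x = x)
    (hcen : ∀ z ∈ commutator P, ∀ x, z * x = x * z)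
    (hfix : ∀ z ∈ commutator P, α z = z) (hne : ∃ x : P, x⁻¹ * α x ∉ commutator P)
    (hirr : ∀ U : Subgroup P, commutator P ≤ U → (∀ x ∈ U, α x ∈ U) → U = commutator P ∨ U = ⊤)
    {V : Type*} [AddCommGroup V] [Module (ZMod p) V] [Finite V] (o : P →* Multiplicative V)
    (ho : Function.Surjective o) (hker : ∀ x, o x = 1 ↔ x ∈ commutator P) (T : Module.End (ZMod p) V)
    (hTof : ∀ x, T (o x).toAdd = (o (α x)).toAdd) :
    ∃ (j : ℕ) (D : Dat p ζ P), ¬ q ∣ j ∧ ∀ x, D.α x = α^[j] x := by
  have hTiter : ∀ (i : ℕ) (x : P), (T ^ i) (o x).toAdd = (o (α^[i] x)).toAdd := by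
    intro i
    induction i with
    | zero => intro x; rfl
    | succ i ih => intro x; rw [pow_succ, Module.End.mul_apply, hTof, ih, Function.iterate_succ_apply]
  have hsur : ∀ v : V, ∃ x : P, v = (o x).toAdd := by
    intro v
    obtain ⟨x, hx⟩ := ho (Multiplicative.ofAdd v)
    exact ⟨x, by rw [hx]; rfl⟩
  have hT : T ^ q = 1 := by
    ext v
    obtain ⟨x, rfl⟩ := hsur v
    rw [hTiter, hαq]; rfl
  have hT1 : T ≠ 1 := by
    intro h
    obtain ⟨x, hx⟩ := hne
    apply hx
    have h1 : T (o x).toAdd = (o x).toAdd := by rw [h]; rfl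
    rw [hTof] at h1
    have h2 : o (α x) = o x := Multiplicative.toAdd.injective h1
    rw [← hker, map_mul, map_inv, h2, inv_mul_cancel]
  have hirr' : ∀ W : Submodule (ZMod p) V, (∀ v ∈ W, T v ∈ W) → W = ⊥ ∨ W = ⊤ := by
    intro W hW
    let U : Subgroup P :=
      { carrier := {x | (o x).toAdd ∈ W}
        mul_mem' := by
          intro a b ha hb
          show (o (a * b)).toAdd ∈ W
          rw [map_mul, toAdd_mul]
          exact W.add_mem ha hb
        one_mem' := by
          show (o (1 : P)).toAdd ∈ W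
          rw [map_one, toAdd_one]; exact W.zero_mem
        inv_mem' := by
          intro a ha
          show (o a⁻¹).toAdd ∈ W
          rw [map_inv, toAdd_inv]
          exact W.neg_mem ha }
    rcases hirr U (fun x hx => by
        show (o x).toAdd ∈ W
        rw [(hker x).2 hx]; exact W.zero_mem) (fun x hx => by
        show (o (α x)).toAdd ∈ W
        rw [← hTof]; exact hW _ hx) with h | h
    · left
      rw [eq_bot_iff]
      intro v hv
      obtain ⟨x, rfl⟩ := hsur v
      have h1 : x ∈ U := hv
      rw [h] at h1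
      rw [(hker x).2 h1]; exact Submodule.zero_mem _
    · right
      rw [eq_top_iff]
      intro v _
      obtain ⟨x, rfl⟩ := hsur v
      have h1 : x ∈ U := by rw [h]; trivial
      exact h1
  obtain ⟨j, φ, hj, hφ⟩ := field_iso hpq hK hζ T hT hT1 hirr'
  let π : P →* Multiplicative K := (AddMonoidHom.toMultiplicative φ.symm.toAddMonoidHom).comp o
  have hπ : ∀ x, π x = Multiplicative.ofAdd (φ.symm (o x).toAdd) := fun x => rfl
  have hπ1 : ∀ x, π x = 1 ↔ x ∈ commutator P := by
    intro x
    rw [hπ, ← hker]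
    constructor
    · intro h
      have h1 : φ.symm (o x).toAdd = 0 := h
      have h2 : (o x).toAdd = 0 := (map_eq_zero_iff φ.symm φ.symm.injective).1 h1
      exact h2
    · intro h
      rw [h, toAdd_one, map_zero]; rfl
  refine ⟨j,
    { α := iterAut α j
      π := π
      surj := ?_
      hα := ?_
      cen := fun z hz => hcen z ((hπ1 z).1 hz)
      fix := ?_
      gen := ?_
      pg := hP }, hj, fun x => rfl⟩
  · intro k
    obtain ⟨x, hx⟩ := hsur (φ k.toAdd)
    refine ⟨x, ?_⟩
    rw [hπ, ← hx, AddEquiv.symm_apply_apply]; rfl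
  · intro x
    show Multiplicative.ofAdd (φ.symm (o (α^[j] x)).toAdd) = _
    rw [← hTiter]
    congr 1
    rw [AddEquiv.symm_apply_eq, hφ]
    show _ = (T ^ j) (φ (φ.symm _))
    rw [AddEquiv.apply_symm_apply]
  · intro z hz
    have h1 := hfix z ((hπ1 z).1 hz)
    show α^[j] z = z
    exact Function.iterate_fixed h1 j
  · intro z hz
    have h1 := (hπ1 z).1 hz
    rw [commutator_eq_closure] at h1
    exact h1

theorem dat_of {p q : ℕ} [hp : Fact p.Prime] [hq : Fact q.Prime] (hpq : p ≠ q) {K : Type*} [Field K] [Fintype K]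
    (hK : Fintype.card K = p ^ orderOf (p : ZMod q)) {ζ : K} (hζ : orderOf ζ = q)
    {P : Type*} [Group P] [Finite P] (hP : IsPGroup p P) (α : P ≃* P) (hαq : ∀ x, α^[q] x = x)
    (hcen : ∀ z ∈ commutator P, ∀ x, z * x = x * z) (hpow : ∀ x : P, x ^ p ∈ commutator P)
    (hfix : ∀ z ∈ commutator P, α z = z) (hne : ∃ x : P, x⁻¹ * α x ∉ commutator P)
    (hirr : ∀ U : Subgroup P, commutator P ≤ U → (∀ x ∈ U, α x ∈ U) → U = commutator P ∨ U = ⊤) :
    ∃ (j : ℕ) (D : Dat p ζ P), ¬ q ∣ j ∧ ∀ x, D.α x = α^[j] x := by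
  have hV : ∀ v : Additive (Abelianization P), p • v = 0 := by
    intro v
    obtain ⟨x, hx⟩ := QuotientGroup.mk_surjective (s := commutator P) v.toMul
    have h1 : v = Additive.ofMul (Abelianization.of x) := by
      have : Abelianization.of x = v.toMul := hx
      rw [this]; rfl
    rw [h1, ← ofMul_pow, ← map_pow]
    have h2 : Abelianization.of (x ^ p) = 1 := by
      rw [← MonoidHom.mem_ker, Abelianization.ker_of]; exact hpow x
    rw [h2]; rfl
  letI : Module (ZMod p) (Additive (Abelianization P)) := AddCommGroup.zmodModule hV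
  let o : P →* Multiplicative (Additive (Abelianization P)) :=
    { toFun := fun x => Multiplicative.ofAdd (Additive.ofMul (Abelianization.of x))
      map_one' := by rw [map_one]; rfl
      map_mul' := fun x y => by rw [map_mul]; rfl }
  refine dat_of_aux hpq hK hζ hP α hαq hcen hfix hne hirr (V := Additive (Abelianization P)) o ?_ ?_
    ((MonoidHom.toAdditive (Abelianization.map (α : P →* P))).toZModLinearMap p) ?_
  · intro v
    obtain ⟨x, hx⟩ := QuotientGroup.mk_surjective (s := commutator P) v.toAdd.toMul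
    exact ⟨x, by
      show Multiplicative.ofAdd (Additive.ofMul (Abelianization.of x)) = v
      have : Abelianization.of x = v.toAdd.toMul := hx
      rw [this]; rfl⟩
  · intro x
    rw [← Abelianization.ker_of, MonoidHom.mem_ker]
    rfl
  · intro x
    rfl

end H38.Sch
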