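import Cfsg.Agent.Lib.H38.SchG
import Cfsg.Agent.Lib.H3.Extraspecial

/-!
Extraction of the data from a minimal non-`p`-nilpotent group.
-/

set_option autoImplicit false

namespace H38.Sch

open Subgroup

theorem exists_dat {X : Type*} [Group X] [Finite X] {p q r : ℕ} [hp : Fact p.Prime] [hq : Fact q.Prime] (hpq : p ≠ q)
    (hr : 1 ≤ r) {K : Type*} [Field K] [Fintype K]
    (hK : Fintype.card K = p ^ orderOf (p : ZMod q)) {ζ : K} (hζ : orderOf ζ = q)
    (h1 : ¬ Cfsg.HasNormalPComplement p X) (h2 : ∀ H : Subgroup X, H ≠ ⊤ → Cfsg.HasNormalPComplement p H)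
    (hcard : ∃ t : ℕ, Nat.card X = p ^ t * q ^ r) :
    ∃ (P₁ : Subgroup X) (D : Dat p ζ P₁) (I : Int' D (q ^ r) X), I.ι = P₁.subtype ∧ ∀ x, D.α^[q] x = x := by
  classical
  obtain ⟨D₁, hDn, hD, g, q', k, hq', hqp', hk, hgD, htop⟩ := H3.LocalNPC.ito h1 h2
  obtain ⟨s, hs⟩ := hD.exists_card_eq
  have hcop : (Nat.card D₁).Coprime (Nat.card (zpowers g)) := by
    rw [hs, Nat.card_zpowers, hk]
    exact Nat.Coprime.pow _ _ ((Nat.coprime_primes hp.out hq').2 hqp'.symm)
  have hinf : D₁ ⊓ zpowers g = ⊥ := Subgroup.inf_eq_bot_of_coprime hcop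
  have hkr : q' = q ∧ k = r := by
    have hN : Subgroup.IsComplement' D₁ (zpowers g) :=
      Subgroup.isComplement'_of_disjoint_and_mul_eq_univ (disjoint_iff.2 hinf) (by
        rw [← Subgroup.normal_mul, htop]; rfl)
    have hc := hN.card_mul
    obtain ⟨t, ht⟩ := hcard
    rw [hs, Nat.card_zpowers, hk, ht] at hc
    have e1 : q = q' := by
      have h3 : q ∣ p ^ s * q' ^ k := by
        rw [hc]; exact (dvd_pow_self q (by omega)).mul_left _
      rcases hq.out.dvd_mul.1 h3 with h4 | h4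
      · exact absurd ((Nat.prime_dvd_prime_iff_eq hq.out hp.out).1 (hq.out.dvd_of_dvd_pow h4)).symm hpq
      · exact (Nat.prime_dvd_prime_iff_eq hq.out hq').1 (hq.out.dvd_of_dvd_pow h4)
    subst e1
    refine ⟨rfl, ?_⟩
    have hcp : ∀ a b : ℕ, Nat.Coprime (q ^ a) (p ^ b) := fun a b =>
      Nat.Coprime.pow _ _ ((Nat.coprime_primes hq.out hp.out).2 hpq.symm)
    apply le_antisymm
    · have h3 : q ^ k ∣ p ^ t * q ^ r := by rw [← hc]; exact Dvd.intro_left _ rfl
      exact (Nat.pow_dvd_pow_iff_le_right hq.out.one_lt).1 ((hcp k t).dvd_of_dvd_mul_left h3)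
    · have h3 : q ^ r ∣ p ^ s * q ^ k := by rw [hc]; exact Dvd.intro_left _ rfl
      exact (Nat.pow_dvd_pow_iff_le_right hq.out.one_lt).1 ((hcp r s).dvd_of_dvd_mul_left h3)
  obtain ⟨rfl, rfl⟩ := hkr
  have hgo : Nat.Coprime (orderOf g) p := by
    rw [hk]; exact Nat.Coprime.pow_left k ((Nat.coprime_primes hq' hp.out).2 hqp')
  -- `g ^ q` centralises
  have hgq : ∀ x ∈ D₁, g ^ q' * x = x * g ^ q' := by
    have hne : D₁ ⊔ zpowers (g ^ q') ≠ ⊤ := by
      intro h
      have h3 : g ∈ D₁ ⊔ zpowers (g ^ q') := by rw [h]; trivial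
      rw [Subgroup.mem_sup_of_normal_left] at h3
      obtain ⟨d, hd, _, ⟨i, rfl⟩, h4⟩ := h3
      have h5 : d = g ^ (1 - (q' : ℤ) * i) := by
        have h6 : d = g * ((g ^ q') ^ i)⁻¹ := by
          rw [eq_mul_inv_iff_mul_eq]; exact h4
        rw [h6, ← zpow_natCast, ← zpow_mul, zpow_sub, zpow_one]
      have h6 : d ∈ D₁ ⊓ zpowers g := ⟨hd, h5 ▸ zpow_mem (mem_zpowers g) _⟩
      rw [hinf, mem_bot] at h6
      rw [h6] at h5
      have h7 : ((orderOf g : ℕ) : ℤ) ∣ 1 - (q' : ℤ) * i := orderOf_dvd_iff_zpow_eq_one.2 h5.symm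
      rw [hk] at h7
      have h8 : (q' : ℤ) ∣ 1 - (q' : ℤ) * i := dvd_trans (by push_cast; exact dvd_pow_self _ (by omega)) h7
      have h9 : (q' : ℤ) ∣ 1 := (dvd_sub_left (Dvd.intro _ rfl)).1 h8
      exact hq'.one_lt.ne' (Nat.dvd_one.1 (by exact_mod_cast h9))
    have h3 := H3.LocalNPC.centralizes_of_subgroup (g := g ^ q') (h2 _ hne) le_sup_left hD
      (Subgroup.mem_sup_right (mem_zpowers _)) (by rw [Subgroup.normalizer_eq_top]; trivial)
      (Nat.Coprime.coprime_dvd_left (orderOf_pow_dvd _) hgo)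
    intro x hx
    exact ((mem_centralizer_iff.1 h3) x hx).symm
  -- minimality
  have hmin' : ∀ U : Subgroup X, U < D₁ → zpowers g ≤ normalizer (U : Set X) → g ∈ centralizer (U : Set X) := by
    intro U hU hgU
    have hne : U ⊔ zpowers g ≠ ⊤ := by
      intro h
      have hUn : U.Normal := by
        rw [← Subgroup.normalizer_eq_top_iff, eq_top_iff, ← h]
        exact sup_le Subgroup.le_normalizer hgU
      apply hU.not_ge
      intro d hd
      have h3 : d ∈ U ⊔ zpowers g := by rw [h]; trivial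
      rw [Subgroup.mem_sup_of_normal_left] at h3
      obtain ⟨u, hu, w, hw, h4⟩ := h3
      have h5 : w ∈ D₁ ⊓ zpowers g := ⟨by
        have : w = u⁻¹ * d := by rw [← h4]; group
        rw [this]; exact D₁.mul_mem (D₁.inv_mem (hU.le hu)) hd, hw⟩
      rw [hinf, mem_bot] at h5
      rw [← h4, h5, mul_one]; exact hu
    exact H3.LocalNPC.centralizes_of_subgroup (h2 _ hne) le_sup_left (hD.to_le hU.le)
      (Subgroup.mem_sup_right (mem_zpowers _)) (hgU (mem_zpowers g)) hgo
  have hmin : ∀ U : Subgroup X, U < D₁ → zpowers g ≤ normalizer (U : Set X) → ⁅U, zpowers g⁆ = ⊥ := by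
    intro U hU hgU
    rw [commutator_comm, commutator_eq_bot_iff_le_centralizer, zpowers_le]
    exact hmin' U hU hgU
  have hnt : ⁅D₁, zpowers g⁆ ≠ ⊥ := by
    rw [commutator_comm, Ne, commutator_eq_bot_iff_le_centralizer, zpowers_le]
    exact hgD
  obtain ⟨m1, m2, m3, m4, -, -⟩ := H65.HallHigman.minimal_action (zpowers g) (zpowers g) D₁ hD
    (by rw [Subgroup.normalizer_eq_top]; exact le_top) le_rfl Subgroup.le_normalizer
    (by rw [Nat.card_zpowers]; exact hgo) hnt hmin
  -- commutators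
  have hmap : (commutator D₁).map D₁.subtype = ⁅D₁, D₁⁆ := by
    rw [_root_.commutator_def, Subgroup.map_commutator, ← MonoidHom.range_eq_map, Subgroup.range_subtype]
  have hmemc : ∀ x : D₁, x ∈ commutator D₁ ↔ (x : X) ∈ ⁅D₁, D₁⁆ := by
    intro x
    rw [← hmap]
    constructor
    · intro hx; exact ⟨x, hx, rfl⟩
    · rintro ⟨y, hy, hyx⟩
      rwa [← Subtype.ext hyx]
  have hDlt : ⁅D₁, D₁⁆ < D₁ := by
    refine lt_of_le_of_ne (by rw [← hmap]; exact map_subtype_le _) ?_
    intro h
    have h3 : commutator D₁ = ⊤ := by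
      rw [eq_top_iff]; intro x _; rw [hmemc, h]; exact x.2
    have h4 : Group.IsNilpotent D₁ := hD.isNilpotent
    have h5 : Group.IsSolvable D₁ := inferInstance
    have h6 : Subsingleton D₁ := by
      by_contra hns
      haveI : Nontrivial D₁ := not_subsingleton_iff_nontrivial.1 hns
      exact absurd h3 (IsSolvable.commutator_lt_top_of_nontrivial D₁).ne
    apply hnt
    have h7 : D₁ = ⊥ := Subgroup.eq_bot_of_subsingleton D₁
    rw [h7, commutator_bot_left]
  have hcomN : (⁅D₁, D₁⁆ : Subgroup X).Normal := inferInstance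
  let α : D₁ ≃* D₁ := (MulAut.conjNormal g : MulAut D₁)
  have hα : ∀ x : D₁, ((α x : D₁) : X) = g * x * g⁻¹ := fun x => MulAut.conjNormal_apply g x
  have hαi : ∀ (i : ℕ) (x : D₁), ((α^[i] x : D₁) : X) = g ^ i * x * (g ^ i)⁻¹ := by
    intro i
    induction i with
    | zero => intro x; simp
    | succ i ih =>
      intro x
      rw [Function.iterate_succ_apply, ih, hα, pow_succ]; group
  have hαq : ∀ x, α^[q'] x = x := by
    intro x
    apply Subtype.ext
    rw [hαi, hgq x x.2]; group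
  have hfix : ∀ z ∈ commutator D₁, α z = z := by
    intro z hz
    have h3 := hmin' _ hDlt (by rw [Subgroup.normalizer_eq_top]; exact le_top)
    rw [mem_centralizer_iff] at h3
    apply Subtype.ext
    rw [hα, ← h3 z ((hmemc z).1 hz)]; group
  have hcen : ∀ z ∈ commutator D₁, ∀ x, z * x = x * z := by
    intro z hz x
    rcases m4 with h | h
    · have := h.1
      exact IsMulCommutative.is_comm.comm z x
    · rw [h.2.2] at hz
      exact ((mem_center_iff.1 hz) x).symm
  have hpow : ∀ x : D₁, x ^ p ∈ commutator D₁ := by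
    intro x
    rcases m4 with h | h
    · have h3 : x ^ p = 1 := Subtype.ext (h.2 x x.2)
      rw [h3]; exact one_mem _
    · rw [h.2.2, ← h.2.1, h.2.1]
      exact H3.Extraspecial.pow_mem_center_of_special h x
  have hne : ∃ x : D₁, x⁻¹ * α x ∉ commutator D₁ := by
    by_contra hcon
    push Not at hcon
    apply hgD
    rw [mem_centralizer_iff]
    intro x hx
    set x' : D₁ := ⟨x, hx⟩ with hx'
    set z := x'⁻¹ * α x' with hz
    have h3 : α x' = x' * z := by rw [hz]; group
    have h4 : ∀ i : ℕ, α^[i] x' = x' * z ^ i := by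
      intro i
      induction i with
      | zero => simp
      | succ i ih =>
        rw [Function.iterate_succ_apply', ih, map_mul, map_pow, hfix z (hcon x'), h3, mul_assoc, ← pow_succ']
    have h5 := h4 q'
    rw [hαq] at h5
    have h6 : z ^ q' = 1 := by
      exact (mul_eq_left.1 h5.symm)
    obtain ⟨b, hb⟩ := hD z
    have h7 : z = 1 := by
      have h8 : orderOf z ∣ Nat.gcd q' (p ^ b) := Nat.dvd_gcd (orderOf_dvd_of_pow_eq_one h6) (orderOf_dvd_of_pow_eq_one hb)
      have h9 : Nat.gcd q' (p ^ b) = 1 := Nat.Coprime.pow_right b ((Nat.coprime_primes hq' hp.out).2 hqp')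
      rw [h9, Nat.dvd_one, orderOf_eq_one_iff] at h8
      exact h8
    rw [h7, mul_one] at h3
    have h8 := congrArg Subtype.val h3
    rw [hα, mul_inv_eq_iff_eq_mul] at h8
    exact h8.symm
  have hirr : ∀ U : Subgroup D₁, commutator D₁ ≤ U → (∀ x ∈ U, α x ∈ U) → U = commutator D₁ ∨ U = ⊤ := by
    intro U hU hUα
    rcases eq_or_ne U ⊤ with h | h
    · exact Or.inr h
    left
    apply le_antisymm _ hU
    have h3 : U.map D₁.subtype < D₁ := by
      refine lt_of_le_of_ne (map_subtype_le U) ?_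
      intro h4
      apply h
      rw [eq_top_iff]
      intro x _
      have h5 : (x : X) ∈ U.map D₁.subtype := by rw [h4]; exact x.2
      obtain ⟨y, hy, hyx⟩ := h5
      rwa [← Subtype.ext hyx]
    have h4 : zpowers g ≤ normalizer ((U.map D₁.subtype : Subgroup X) : Set X) := by
      rw [zpowers_le]
      apply Subgroup.mem_normalizer_fintype
      rintro _ ⟨x, hx, rfl⟩
      exact ⟨α x, hUα x hx, hα x⟩
    have h5 := m2 _ h3 h4
    intro x hx
    rw [hmemc]
    exact h5 ⟨x, hx, rfl⟩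
  obtain ⟨j, D, hj, hDα⟩ := dat_of hpq hK hζ hD α hαq hcen hpow hfix hne hirr
  have hjc : (orderOf g).Coprime j := by
    rw [hk]; exact Nat.Coprime.pow_left k ((Nat.Prime.coprime_iff_not_dvd hq').2 hj)
  refine ⟨D₁, D,
    { ι := D₁.subtype
      inj := D₁.subtype_injective
      c := g ^ j
      hc := ?_
      ord := ?_
      gen := ?_ }, rfl, ?_⟩
  · intro x
    rw [hDα]
    exact (hαi j x).symm
  · rw [hjc.orderOf_pow, hk]
  · have h3 : zpowers (g ^ j) = zpowers g := by
      apply Subgroup.eq_of_le_of_card_ge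
      · rw [zpowers_le]; exact npow_mem_zpowers g j
      · rw [Nat.card_zpowers, Nat.card_zpowers, hjc.orderOf_pow]
    rw [h3, Subgroup.range_subtype]
    exact htop
  · have h3 : ⇑D.α = α^[j] := funext hDα
    intro x
    rw [h3, ← Function.iterate_mul, mul_comm, Function.iterate_mul]
    have h4 : α^[q'] = id := funext hαq
    rw [h4, Function.iterate_id]; rfl

end H38.Sch
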