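import Cfsg.Agent.Lib.H38.SchH

/-!
The universal minimal non-`p`-nilpotent group.
-/

set_option autoImplicit false

universe u v

namespace H38.Sch

open Subgroup

/-- when the order is odd every datum is abelian -/
theorem comm_of_odd {p q : ℕ} [hp : Fact p.Prime] [hq : Fact q.Prime] (hpq : p ≠ q) {K : Type*} [Field K] [Fintype K]
    (hK : Fintype.card K = p ^ orderOf (p : ZMod q)) {ζ : K} (hζ : orderOf ζ = q)
    (hodd : ¬ Even (orderOf (p : ZMod q))) {P : Type*} [Group P] (D : Dat p ζ P) (x y : P) : x * y = y * x := by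
  by_contra hna
  have hgen := closure_root hpq hK hζ
  obtain ⟨σ, hσ, hσζ⟩ := D.exists_bar_of_nonabelian hgen ⟨x, y, hna⟩
  by_cases h1 : σ = RingHom.id K
  · have hζ2 : ζ ^ 2 = 1 := by
      rw [h1, RingHom.id_apply] at hσζ
      rw [sq, hσζ]
    have hq2 : q = 2 := by
      have := orderOf_dvd_of_pow_eq_one hζ2
      rw [hζ] at this
      exact (Nat.prime_dvd_prime_iff_eq hq.out Nat.prime_two).1 this
    have h2 := D.cm_eq hgen σ hσζ x y
    have h3 := D.cm_eq hgen σ hσζ y x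
    rw [h1, RingHom.id_apply] at h2 h3
    rw [mul_comm] at h3
    have h4 : Dat.cm y x = (Dat.cm x y)⁻¹ := by unfold Dat.cm; group
    rw [← h2, h4] at h3
    have h5 : (Dat.cm x y) ^ 2 = 1 := by
      rw [sq]
      nth_rewrite 1 [← h3]
      exact inv_mul_cancel _
    obtain ⟨b, hb⟩ := D.pg (Dat.cm x y)
    have h6 : Dat.cm x y = 1 := by
      have h8 : orderOf (Dat.cm x y) ∣ Nat.gcd 2 (p ^ b) := Nat.dvd_gcd (orderOf_dvd_of_pow_eq_one h5) (orderOf_dvd_of_pow_eq_one hb)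
      have h9 : Nat.gcd 2 (p ^ b) = 1 := Nat.Coprime.pow_right b ((Nat.coprime_primes Nat.prime_two hp.out).2 (hq2 ▸ hpq.symm))
      rw [h9, Nat.dvd_one, orderOf_eq_one_iff] at h8
      exact h8
    apply hna
    unfold Dat.cm at h6
    calc x * y = (x * y * x⁻¹ * y⁻¹) * (y * x) := by group
      _ = y * x := by rw [h6, one_mul]
  · exact hodd (even_of_bar hpq hK hζ σ hσ h1)

theorem iter_dat {p : ℕ} {K : Type*} [Field K] (σ : K →+* K) (hσ : ∀ x, σ (σ x) = x) (h1 : σ ≠ RingHom.id K) (ζ : K)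
    (hζ : σ ζ * ζ = 1) (hpg : letI := Hs.grp σ hσ; IsPGroup p (Hs σ)) (i : ℕ) (a : Hs σ) :
    letI := Hs.grp σ hσ
    ((Hs.dat σ hσ h1 ζ hζ hpg).α^[i] a).x = ζ ^ i * a.x ∧ ((Hs.dat σ hσ h1 ζ hζ hpg).α^[i] a).y = a.y := by
  letI := Hs.grp σ hσ
  show ((Hs.dat σ hσ h1 ζ hζ hpg).α^[i] a).x = ζ ^ i * a.x ∧ ((Hs.dat σ hσ h1 ζ hζ hpg).α^[i] a).y = a.y
  induction i generalizing a with
  | zero => exact ⟨by simp, rfl⟩
  | succ i ih =>
    rw [Function.iterate_succ_apply]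
    obtain ⟨e1, e2⟩ := ih ((Hs.dat σ hσ h1 ζ hζ hpg).α a)
    refine ⟨?_, ?_⟩
    · rw [e1]
      show ζ ^ i * (ζ * a.x) = _
      ring
    · rw [e2]; rfl

/-- the universal datum -/
theorem exists_univ {p q : ℕ} [hp : Fact p.Prime] [hq : Fact q.Prime] (hpq : p ≠ q) {K : Type} [Field K] [Fintype K]
    (hK : Fintype.card K = p ^ orderOf (p : ZMod q)) {ζ : K} (hζ : orderOf ζ = q) (a₀ : ℕ)
    (ha₀ : a₀ = if orderOf (p : ZMod q) % 2 = 1 then orderOf (p : ZMod q) else 3 * orderOf (p : ZMod q) / 2) :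
    ∃ (P₀ : Type) (_ : Group P₀) (_ : Finite P₀) (D₀ : Dat p ζ P₀), (∀ x, D₀.α^[q] x = x) ∧ Nat.card P₀ = p ^ a₀ ∧
      ∀ (P : Type u) [Group P] [Finite P] (D : Dat p ζ P), (∀ x, D.α^[q] x = x) →
        ∃ f : P₀ →* P, Function.Surjective f ∧ (∀ x, f (D₀.α x) = D.α (f x)) ∧ ∀ x, D.π (f x) = D₀.π x := by
  have hgen := closure_root hpq hK hζ
  have hζ1 : ζ ≠ 1 := by
    rintro rfl
    rw [orderOf_one] at hζ
    exact hq.out.one_lt.ne hζ
  have hζ0 : ζ ≠ 0 := by
    rintro rfl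
    have h1 := pow_orderOf_eq_one (0 : K)
    rw [hζ, zero_pow hq.out.ne_zero] at h1
    exact zero_ne_one h1
  have hζq : ζ ^ q = 1 := by rw [← hζ]; exact pow_orderOf_eq_one ζ
  by_cases hev : Even (orderOf (p : ZMod q))
  · obtain ⟨σ, hσ, hσζ, hσ1⟩ := exists_bar hpq hK hev hζ
    letI := Hs.grp σ hσ
    haveI : Finite (Hs σ) := Hs.finite σ
    have hcard : Nat.card (Hs σ) = p ^ a₀ := by
      rw [Hs.card σ hσ hσ1]
      have h1 := card_ker σ hσ hσ1
      obtain ⟨b, hb⟩ := hev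
      rw [hK, hb, pow_add] at h1
      have h2 := Nat.mul_self_inj.1 h1
      rw [h2, hK, ha₀, if_neg (by omega), ← pow_add]
      congr 1
      omega
    have hpg : IsPGroup p (Hs σ) := IsPGroup.of_card hcard
    refine ⟨Hs σ, Hs.grp σ hσ, inferInstance, Hs.dat σ hσ hσ1 ζ hσζ hpg, ?_, hcard, ?_⟩
    · intro a
      obtain ⟨e1, e2⟩ := iter_dat σ hσ hσ1 ζ hσζ hpg q a
      exact Hs.ext (by rw [e1, hζq, one_mul]) e2
    · intro P _ _ D hDq
      by_cases hab : ∀ x y : P, x * y = y * x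
      · exact univ_comm _ D hab
      · refine univ_bar _ D hgen hζ1 σ hσζ ?_ q ((Nat.coprime_primes hq.out hp.out).2 hpq.symm) ?_ hDq
        · intro k hk
          have h1 : (Dat.ell (Hs.dat σ hσ hσ1 ζ hσζ hpg) k).y = 0 := by
            rw [hk]; rfl
          have h2 : ∀ a b : Hs σ, (Dat.cm a b).y = σ a.x * b.x - σ b.x * a.x := fun a b => Hs.cm_y σ hσ a b
          have h3 : (Dat.ell (Hs.dat σ hσ hσ1 ζ hσζ hpg) k).y = k.toAdd - σ k.toAdd := by
            have h4 : ∀ k : K, ((Hs.dat σ hσ hσ1 ζ hσζ hpg).sec k).x = k := fun k =>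
              Multiplicative.ofAdd.injective ((Hs.dat σ hσ hσ1 ζ hσζ hpg).π_sec k)
            show (Dat.cm ((Hs.dat σ hσ hσ1 ζ hσζ hpg).sec 1) ((Hs.dat σ hσ hσ1 ζ hσζ hpg).sec k.toAdd)).y = _
            rw [h2, h4, h4, map_one]; ring
          rw [h3, sub_eq_zero] at h1
          exact D.ell_fixed hgen σ hσζ (fun a ha => H16.Forms.norm_surj σ hσ1 (by
            first
              | exact hσ
              | exact RingHom.ext hσ) a ha) h1.symm
        · intro a
          obtain ⟨e1, e2⟩ := iter_dat σ hσ hσ1 ζ hσζ hpg q a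
          exact Hs.ext (by rw [e1, hζq, one_mul]) e2
  · have hcard : Nat.card (Multiplicative K) = p ^ a₀ := by
      rw [Nat.card_congr Multiplicative.toAdd, Nat.card_eq_fintype_card, hK, ha₀, if_pos (Nat.not_even_iff.1 hev)]
    have hpg : IsPGroup p (Multiplicative K) := IsPGroup.of_card hcard
    haveI : Finite (Multiplicative K) := Finite.of_equiv K Multiplicative.ofAdd
    refine ⟨Multiplicative K, inferInstance, inferInstance, abDat ζ hζ0 hpg, ?_, hcard, ?_⟩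
    · have h1 : ∀ (i : ℕ) (a : Multiplicative K), (abDat ζ hζ0 hpg).α^[i] a = Multiplicative.ofAdd (ζ ^ i * a.toAdd) := by
        intro i
        induction i with
        | zero => intro a; rw [pow_zero, one_mul]; rfl
        | succ i ih =>
          intro a
          rw [Function.iterate_succ_apply, ih, pow_succ, mul_assoc]; rfl
      intro a
      rw [h1, hζq, one_mul]; rfl
    · intro P _ _ D hDq
      exact univ_comm _ D (comm_of_odd hpq hK hζ hev D)

theorem main (p q r : ℕ) [hp : Fact p.Prime] [hq : Fact q.Prime] (hpq : p ≠ q) (hr : 1 ≤ r) (a₀ : ℕ)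
    (ha₀ : a₀ = if orderOf (p : ZMod q) % 2 = 1 then orderOf (p : ZMod q) else 3 * orderOf (p : ZMod q) / 2) :
    ∃ (G₀ : Type u) (_ : Group G₀) (_ : Finite G₀),
      (¬ Cfsg.HasNormalPComplement p G₀ ∧ ∀ K : Subgroup G₀, K ≠ ⊤ → Cfsg.HasNormalPComplement p ↥K) ∧ Nat.card G₀ = p ^ a₀ * q ^ r ∧
      ∀ (X : Type u) [Group X] [Finite X], (¬ Cfsg.HasNormalPComplement p X ∧ ∀ K : Subgroup X, K ≠ ⊤ → Cfsg.HasNormalPComplement p ↥K) →
        (∃ t : ℕ, Nat.card X = p ^ t * q ^ r) → ∃ φ : G₀ →* X, Function.Surjective φ ∧ φ.ker ≤ Subgroup.center G₀ := by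
  have ha : orderOf (p : ZMod q) ≠ 0 := (order_pos hpq).ne'
  haveI : Finite (GaloisField p (orderOf (p : ZMod q))) := inferInstance
  letI : Fintype (GaloisField p (orderOf (p : ZMod q))) := Fintype.ofFinite _
  have hK : Fintype.card (GaloisField p (orderOf (p : ZMod q))) = p ^ orderOf (p : ZMod q) := by
    rw [← Nat.card_eq_fintype_card]; exact GaloisField.card p _ ha
  obtain ⟨ζ, hζ⟩ := exists_root hK
  have hgen := closure_root hpq hK hζ
  have hζ1 : ζ ≠ 1 := by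
    rintro rfl
    rw [orderOf_one] at hζ
    exact hq.out.one_lt.ne hζ
  obtain ⟨P₀, _, _, D₀, hD₀q, hcard, huniv⟩ := exists_univ.{u} hpq hK hζ a₀ ha₀
  have hn : (q ^ r).Coprime p := Nat.Coprime.pow_left r ((Nat.coprime_primes hq.out hp.out).2 hpq.symm)
  have hD₀n : ∀ x, D₀.α^[q ^ r] x = x := by
    obtain ⟨m, hm⟩ : q ∣ q ^ r := dvd_pow_self q (by omega)
    intro x
    rw [hm, Function.iterate_mul]
    have : D₀.α^[q] = id := funext hD₀q
    rw [this, Function.iterate_id]; rfl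
  obtain ⟨G, _, _, I, hGcard, hlift⟩ := exists_int.{u} D₀ (q ^ r) (pow_pos hq.out.pos r).ne' hD₀n
  refine ⟨G, inferInstance, inferInstance, ⟨I.not_npc hn hζ1, fun M hM => I.proper_npc hpq hr hgen hD₀q M hM⟩, ?_, ?_⟩
  · rw [hGcard, hcard]
  · rintro X _ _ ⟨h1, h2⟩ ht
    obtain ⟨P₁, D, I', hI', hDq⟩ := exists_dat hpq hr hK hζ h1 h2 ht
    obtain ⟨f, hf1, hf2, hf3⟩ := huniv P₁ D hDq
    obtain ⟨φ, hφ1, hφ2⟩ := hlift X (I'.ι.comp f) I'.c I'.pow_c (by
      intro x
      show I'.c * I'.ι (f x) * I'.c⁻¹ = I'.ι (f (D₀.α x))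
      rw [I'.hc, hf2])
    refine ⟨φ, ?_, ?_⟩
    · rw [← MonoidHom.range_eq_top, eq_top_iff, ← I'.gen, sup_le_iff]
      constructor
      · rintro _ ⟨x, rfl⟩
        obtain ⟨y, rfl⟩ := hf1 x
        exact ⟨I.ι y, hφ1 y⟩
      · rw [zpowers_le]
        exact ⟨I.c, hφ2⟩
    · intro w hw
      rw [MonoidHom.mem_ker] at hw
      obtain ⟨x, i, rfl⟩ := I.exists_form w
      rw [map_mul, map_zpow, hφ1, hφ2] at hw
      have h3 : I'.ι (f x) ∈ I'.ι.range ⊓ zpowers I'.c := by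
        refine ⟨⟨f x, rfl⟩, ⟨-i, ?_⟩⟩
        show I'.c ^ (-i) = I'.ι (f x)
        rw [zpow_neg]
        exact (eq_inv_of_mul_eq_one_left hw).symm
      rw [I'.inf_eq hn, mem_bot] at h3
      have h4 : f x = 1 := I'.inj (by rw [h3, map_one])
      have h5 : I'.c ^ i = 1 := by
        have : (I'.ι.comp f) x = 1 := h3
        rw [this, one_mul] at hw
        exact hw
      have h6 : I.c ^ i = 1 := by
        rw [← orderOf_dvd_iff_zpow_eq_one] at h5 ⊢
        rw [I.ord]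
        rwa [I'.ord] at h5
      have h7 : D₀.π x = 1 := by rw [← hf3, h4, map_one]
      rw [h6, mul_one, mem_center_iff]
      have h8 : (⊤ : Subgroup G) ≤ centralizer {I.ι x} := by
        rw [← I.gen, sup_le_iff]
        constructor
        · rintro _ ⟨y, rfl⟩
          rw [mem_centralizer_singleton_iff, ← map_mul, ← map_mul, D₀.cen x h7]
        · rw [zpowers_le, mem_centralizer_singleton_iff]
          have h9 := I.hc x
          rw [D₀.fix x h7, mul_inv_eq_iff_eq_mul] at h9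
          exact h9
      intro g
      exact (mem_centralizer_singleton_iff.1 (h8 (mem_top g)))

end H38.Sch
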