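import Cfsg.Agent.Lib.H38.SectionSF

set_option autoImplicit false

/-! Isomorphism-invariant functors on the sections of a group: the induction for transfer. -/

namespace H38.SectionTR

open H38.Basic H38.Alperin H38.Functor H38.Control H38.Witness H38.Goldschmidt H38.WeakInd H38.Section H38.PPrime Cfsg
open scoped commutatorElement

universe u

/-! ### general lemmas -/

section general

variable {G : Type*} [Group G] [Finite G] {p : ℕ} [Fact p.Prime]

/-- factorization of fusion through `C S` and `N(S ∩ C)` -/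
theorem factor (S : Sylow p G) {C : Subgroup G} (hCn : C.Normal) {A : Set G} {g : G}
    (hA : A ⊆ ((S : Subgroup G) : Set G)) (hg : cj g A ⊆ ((S : Subgroup G) : Set G)) :
    ∃ n ∈ Subgroup.normalizer (((S : Subgroup G) ⊓ C : Subgroup G) : Set G), ∃ k ∈ C ⊔ (S : Subgroup G),
      n * k = g ∧ cj k A ⊆ ((S : Subgroup G) : Set G) := by
  have hCtop : Subgroup.normalizer (C : Set G) = ⊤ := Subgroup.normalizer_eq_top_iff.2 hCn
  have hT₀s : IsSyl p ((S : Subgroup G) ⊓ C) C := (isSyl_sylow S).inf_normal le_top (by rw [hCtop])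
  have hST₀ : (S : Subgroup G) ≤ Subgroup.normalizer (((S : Subgroup G) ⊓ C : Subgroup G) : Set G) :=
    le_normalizer_inf Subgroup.le_normalizer (by rw [hCtop]; exact le_top)
  have hSCS : (S : Subgroup G) ≤ C ⊔ (S : Subgroup G) := le_sup_right
  obtain ⟨m₀, hm₀, n₀, hn₀, hg₀⟩ := frattini hT₀s (N := ⊤) (by rw [hCtop]) (x := g⁻¹) trivial le_top
  set k₁ := m₀⁻¹ with hk₁
  set n₁ := n₀⁻¹ with hn₁
  have hgeq : g = n₁ * k₁ := by
    rw [hk₁, hn₁, ← mul_inv_rev, ← hg₀, inv_inv]
  have hk₁C : k₁ ∈ C := C.inv_mem hm₀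
  have hn₁N : n₁ ∈ Subgroup.normalizer (((S : Subgroup G) ⊓ C : Subgroup G) : Set G) := Subgroup.inv_mem _ hn₀.2
  set B := Subgroup.closure A with hB
  have hBS : B ≤ (S : Subgroup G) := (Subgroup.closure_le _).2 hA
  have hgB : B.map (MulAut.conj g).toMonoidHom ≤ (S : Subgroup G) := closure_conj_le fun a ha => hg (mem_cj ha)
  set H₃ := (C ⊔ (S : Subgroup G)) ⊓ Subgroup.normalizer (((S : Subgroup G) ⊓ C : Subgroup G) : Set G) with hH₃
  have hsyl₃ : IsSyl p (S : Subgroup G) H₃ := (isSyl_sylow S).of_le (le_inf hSCS hST₀) le_top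
  have hB₁ : B.map (MulAut.conj k₁).toMonoidHom ≤ H₃ := by
    apply le_inf
    · rw [conj_le_iff]
      refine hBS.trans ?_
      rw [le_conj_iff, inv_inv]
      have := conj_eq_of_mem (Subgroup.mem_sup_left hk₁C : k₁ ∈ C ⊔ (S : Subgroup G))
      refine (conj_mono hSCS k₁).trans this.le
    · have e : B.map (MulAut.conj k₁).toMonoidHom = (B.map (MulAut.conj g).toMonoidHom).map (MulAut.conj n₁⁻¹).toMonoidHom := by
        rw [conj_conj, hgeq, inv_mul_cancel_left]
      rw [e]
      refine (conj_mono (hgB.trans hST₀) _).trans ?_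
      exact (conj_eq_of_mem (Subgroup.inv_mem _ hn₁N)).le
  obtain ⟨m, hm, hmS⟩ := hsyl₃.exists_conj_le (isPGroup_conj (S.2.to_le hBS) k₁) hB₁
  rw [conj_conj] at hmS
  refine ⟨n₁ * m⁻¹, Subgroup.mul_mem _ hn₁N (Subgroup.inv_mem _ hm.2), m * k₁,
    Subgroup.mul_mem _ hm.1 (Subgroup.mem_sup_left hk₁C), by rw [hgeq]; group, ?_⟩
  rintro _ ⟨a, ha, rfl⟩
  exact hmS (conj_mem_conj.2 (Subgroup.subset_closure ha))

omit [Finite G] [Fact p.Prime] in
/-- evaluation of the transfer at an element whose conjugates in `H` all have the same image. -/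
theorem transfer_eq_pow_index {A : Type*} [CommGroup A] {H : Subgroup G} [H.FiniteIndex] (ϕ : ↥H →* A) {x : G}
    (hx : x ∈ H) (key : ∀ (k : ℕ) (g₀ : G) (h : g₀⁻¹ * x ^ k * g₀ ∈ H), ϕ ⟨g₀⁻¹ * x ^ k * g₀, h⟩ = ϕ ⟨x, hx⟩ ^ k) :
    MonoidHom.transfer ϕ x = ϕ ⟨x, hx⟩ ^ H.index := by
  classical
  let _ := H.fintypeQuotientOfFiniteIndex
  rw [MonoidHom.transfer_eq_prod_quotient_orbitRel_zpowers_quot, H.index_eq_sum_minimalPeriod x, ← Finset.prod_pow_eq_pow_sum]
  exact Finset.prod_congr rfl fun q _ => key _ _ _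

/-- `Q ∩ G' ≤ S'` when `G = C_G(Q) S`, `Q ≤ S` -/
theorem inf_commutator_le_of_sup_eq_top (S : Sylow p G) {Q : Subgroup G} (hQn : Q.Normal) (hQS : Q ≤ (S : Subgroup G))
    (hCS : Subgroup.centralizer (Q : Set G) ⊔ (S : Subgroup G) = ⊤) :
    Q ⊓ ⁅(⊤ : Subgroup G), (⊤ : Subgroup G)⁆ ≤ ⁅(S : Subgroup G), (S : Subgroup G)⁆ := by
  rintro x ⟨hxQ, hx⟩
  have hCn : (Subgroup.centralizer (Q : Set G)).Normal := inferInstance
  have hCtop : Subgroup.normalizer ((Subgroup.centralizer (Q : Set G) : Subgroup G) : Set G) = ⊤ :=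
    Subgroup.normalizer_eq_top_iff.2 hCn
  have hxS := hQS hxQ
  have h1 : MonoidHom.transfer (Abelianization.of (G := ↥(S : Subgroup G))) x =
      (Abelianization.of (⟨x, hxS⟩ : ↥(S : Subgroup G))) ^ (S : Subgroup G).index := by
    apply transfer_eq_pow_index
    intro k g₀ h
    have h2 : g₀ ∈ Subgroup.centralizer (Q : Set G) ⊔ (S : Subgroup G) := by rw [hCS]; trivial
    rw [sup_comm] at h2
    obtain ⟨c, hc, s, hs, rfl⟩ := (mem_sup_iff_of_le_normalizer (H := (S : Subgroup G))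
      (K := Subgroup.centralizer (Q : Set G)) (by rw [hCtop]; exact le_top)).1 h2
    have h3 : (⟨(c * s)⁻¹ * x ^ k * (c * s), h⟩ : ↥(S : Subgroup G)) = ⟨s, hs⟩⁻¹ * ⟨x, hxS⟩ ^ k * ⟨s, hs⟩ := by
      apply Subtype.ext
      show (c * s)⁻¹ * x ^ k * (c * s) = s⁻¹ * x ^ k * s
      have h4 := Subgroup.mem_centralizer_iff.1 hc (x ^ k) (Q.pow_mem hxQ k)
      calc (c * s)⁻¹ * x ^ k * (c * s) = s⁻¹ * c⁻¹ * (x ^ k * c) * s := by group
        _ = s⁻¹ * c⁻¹ * (c * x ^ k) * s := by rw [h4]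
        _ = _ := by group
    rw [h3, map_mul, map_mul, map_inv, map_pow, mul_comm, mul_inv_cancel_left]
  have h2 : MonoidHom.transfer (Abelianization.of (G := ↥(S : Subgroup G))) x = 1 := by
    have h3 : x ∈ (MonoidHom.transfer (Abelianization.of (G := ↥(S : Subgroup G)))).ker :=
      Abelianization.commutator_subset_ker _ hx
    exact h3
  rw [h2] at h1
  -- `x` has `p`-power order
  have h3 : Abelianization.of (⟨x, hxS⟩ : ↥(S : Subgroup G)) = 1 := by
    obtain ⟨k, hk⟩ := S.2 ⟨x, hxS⟩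
    have h4 : (Abelianization.of (⟨x, hxS⟩ : ↥(S : Subgroup G))) ^ p ^ k = 1 := by rw [← map_pow, hk, map_one]
    have h5 : orderOf (Abelianization.of (⟨x, hxS⟩ : ↥(S : Subgroup G))) ∣ Nat.gcd ((S : Subgroup G).index) (p ^ k) :=
      Nat.dvd_gcd (orderOf_dvd_of_pow_eq_one h1.symm) (orderOf_dvd_of_pow_eq_one h4)
    have h6 : ((S : Subgroup G).index).Coprime (p ^ k) :=
      (((Nat.Prime.coprime_iff_not_dvd Fact.out).2 S.not_dvd_index).symm).pow_right k
    rw [h6, Nat.dvd_one, orderOf_eq_one_iff] at h5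
    exact h5
  have h4 : (⟨x, hxS⟩ : ↥(S : Subgroup G)) ∈ commutator ↥(S : Subgroup G) := by
    rwa [← Abelianization.ker_of]
  have h5 : x ∈ (commutator ↥(S : Subgroup G)).map (S : Subgroup G).subtype := ⟨_, h4, rfl⟩
  rw [commutator_def, Subgroup.map_commutator] at h5
  have h6 : (⊤ : Subgroup ↥(S : Subgroup G)).map (S : Subgroup G).subtype = (S : Subgroup G) := by
    rw [← MonoidHom.range_eq_map, Subgroup.range_subtype]
  rwa [h6] at h5

end general

variable {p : ℕ} {W : ∀ (Q : Type u) [Group Q], Subgroup Q}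

/-- `W` controls transfer in `X` -/
def TR (p : ℕ) (W : ∀ (Q : Type u) [Group Q], Subgroup Q) (X : Type u) [Group X] : Prop :=
  ∀ S : Sylow p X, (S : Subgroup X) ⊓ ⁅(⊤ : Subgroup X), (⊤ : Subgroup X)⁆ ≤
    ⁅Subgroup.normalizer ((inducedFunctor W (S : Subgroup X) : Subgroup X) : Set X),
      Subgroup.normalizer ((inducedFunctor W (S : Subgroup X) : Subgroup X) : Set X)⁆

variable {G : Type u} [Group G] [Finite G] [Fact p.Prime]

theorem TR.relative (hW : IsCharPFunctor.{u} p W) {H : Subgroup G} (h : TR p W ↥H) {T : Subgroup G}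
    (hT : IsSyl p T H) :
    T ⊓ ⁅H, H⁆ ≤ ⁅H ⊓ Subgroup.normalizer ((inducedFunctor W T : Subgroup G) : Set G),
      H ⊓ Subgroup.normalizer ((inducedFunctor W T : Subgroup G) : Set G)⁆ := by
  have h1 := Subgroup.map_mono (f := H.subtype) (h hT.toSylow)
  have h6 : (⊤ : Subgroup ↥H).map H.subtype = H := by
    rw [← MonoidHom.range_eq_map, Subgroup.range_subtype]
  rw [Subgroup.map_inf_eq _ _ _ H.subtype_injective, Subgroup.map_commutator, Subgroup.map_commutator,
    hT.map_toSylow, map_normalizer, ← resF_induced hW H hT.toSylow.2, hT.map_toSylow, h6] at h1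
  exact h1

theorem tr_of_controls (hW : IsCharPFunctor.{u} p W) (h : ControlsTransferIn p (inducedFunctor (G := G) W) ⊤) : TR p W G :=
  fun S => (controlsTransferIn_top_iff (isConjugacyFunctor_induced hW) S).1 h

theorem controls_of_tr (hW : IsCharPFunctor.{u} p W) (h : TR p W G) : ControlsTransferIn p (inducedFunctor (G := G) W) ⊤ := by
  obtain ⟨S⟩ : Nonempty (Sylow p G) := inferInstance
  exact (controlsTransferIn_top_iff (isConjugacyFunctor_induced hW) S).2 (h S)

/-- passing to the quotient by a normal `p'`-subgroup -/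
theorem TR.of_quotient_pPrime (hW : IsCharPFunctor.{u} p W) {K : Subgroup G} [K.Normal]
    (hK : (Nat.card ↥K).Coprime p) (h : TR p W (G ⧸ K)) : TR p W G := by
  intro S
  set π := QuotientGroup.mk' K with hπ
  have hπs : Function.Surjective π := QuotientGroup.mk'_surjective K
  have hKtop : Subgroup.normalizer (K : Set G) = ⊤ := Subgroup.normalizer_eq_top_iff.2 inferInstance
  have hinj : ∀ P : Subgroup G, IsPGroup p ↥P → ∀ x ∈ P, π x = 1 → x = 1 := by
    intro P hP x hx hx1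
    have hxK : x ∈ K := (QuotientGroup.eq_one_iff x).1 hx1
    have h1 : x ∈ P ⊓ K := ⟨hx, hxK⟩
    rw [H1.Cores.disjoint_of_isPGroup hP hK, Subgroup.mem_bot] at h1
    exact h1
  have h1 := h (S.mapSurjective hπs)
  rw [Sylow.coe_mapSurjective, ← map_induced hW π S.2 (hinj _ S.2)] at h1
  set D := inducedFunctor W (S : Subgroup G) with hD
  have hDS : D ≤ (S : Subgroup G) := W_le (isConjugacyFunctor_induced hW) S.2
  have hSD : (S : Subgroup G) ≤ Subgroup.normalizer (D : Set G) := le_normalizer_W (isConjugacyFunctor_induced hW) S.2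
  have hDp : IsPGroup p ↥D := S.2.to_le hDS
  -- the normalizer in the quotient
  have hnorm : Subgroup.normalizer ((D.map π : Subgroup (G ⧸ K)) : Set (G ⧸ K)) ≤
      (Subgroup.normalizer (D : Set G)).map π := by
    intro y hy
    obtain ⟨x, rfl⟩ := hπs y
    have h2 : (D.map (MulAut.conj x).toMonoidHom).map π = D.map π := by
      rw [mem_normalizer_iff'] at hy
      conv_rhs => rw [← hy]
      rw [Subgroup.map_map, Subgroup.map_map]
      congr 1
    have h3 : D.map (MulAut.conj x).toMonoidHom ≤ D ⊔ K := by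
      intro y hy
      have h4 : π y ∈ D.map π := by rw [← h2]; exact ⟨y, hy, rfl⟩
      obtain ⟨d, hd, hdy⟩ := h4
      have h5 : d⁻¹ * y ∈ K := QuotientGroup.eq.1 hdy
      have := Subgroup.mul_mem_sup hd h5
      rwa [mul_inv_cancel_left] at this
    have hsyl : IsSyl p D (D ⊔ K) := by
      obtain ⟨R, hR, hDR⟩ := exists_isSyl_ge (p := p) hDp (le_sup_left : D ≤ D ⊔ K)
      have : R = D := by
        apply le_antisymm _ hDR
        intro r hr
        obtain ⟨k, hk, d, hd, rfl⟩ := (mem_sup_iff_of_le_normalizer (H := D) (K := K) (by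
          rw [hKtop]; exact le_top)).1 (hR.1 hr)
        have h7 : k ∈ R := by
          have := R.mul_mem hr (R.inv_mem (hDR hd))
          rwa [mul_inv_cancel_right] at this
        have h8 : k ∈ R ⊓ K := ⟨h7, hk⟩
        rw [H1.Cores.disjoint_of_isPGroup hR.2.1 hK, Subgroup.mem_bot] at h8
        rw [h8, one_mul]; exact hd
      rwa [this] at hR
    obtain ⟨m, hm, hmD⟩ := hsyl.exists_conj_le (isPGroup_conj hDp x) h3
    rw [conj_conj] at hmD
    obtain ⟨k, hk, d, hd, rfl⟩ := (mem_sup_iff_of_le_normalizer (H := D) (K := K) (by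
      rw [hKtop]; exact le_top)).1 hm
    have h9 : k * d * x ∈ Subgroup.normalizer (D : Set G) :=
      mem_normalizer_iff'.2 (Subgroup.eq_of_le_of_card_ge hmD (by rw [card_conj]))
    have h10 := Subgroup.mul_mem _ (Subgroup.inv_mem _ (Subgroup.le_normalizer hd)) h9
    refine ⟨d⁻¹ * (k * d * x), h10, ?_⟩
    have h11 : π k = 1 := (QuotientGroup.eq_one_iff k).2 hk
    simp only [map_mul, map_inv, h11]
    group
  intro x hx0
  have hxS : x ∈ (S : Subgroup G) := hx0.1
  have hx : x ∈ ⁅(⊤ : Subgroup G), (⊤ : Subgroup G)⁆ := hx0.2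
  set N := Subgroup.normalizer (D : Set G) with hN
  have h2 : π x ∈ (⁅N, N⁆).map π := by
    rw [Subgroup.map_commutator]
    refine Subgroup.commutator_mono hnorm hnorm ?_
    apply h1
    refine ⟨⟨x, hxS, rfl⟩, ?_⟩
    have h3 : π x ∈ (⁅(⊤ : Subgroup G), (⊤ : Subgroup G)⁆).map π := ⟨x, hx, rfl⟩
    rw [Subgroup.map_commutator, Subgroup.map_top_of_surjective π hπs] at h3
    exact h3
  obtain ⟨y, hy, hyx⟩ := h2
  -- `y⁻¹ x ∈ K ∩ N`
  have hyN : y ∈ N := (Subgroup.commutator_le.2 fun a ha b hb => by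
    rw [commutatorElement_def]
    exact N.mul_mem (N.mul_mem (N.mul_mem ha hb) (N.inv_mem ha)) (N.inv_mem hb)) hy
  have h3 : y⁻¹ * x ∈ K := QuotientGroup.eq.1 hyx
  set k := y⁻¹ * x with hk
  have hkN : k ∈ N := N.mul_mem (N.inv_mem hyN) (hSD hxS)
  -- order considerations in `N / N'`
  have hxyk : x = y * k := by rw [hk]; group
  have hNn : (⁅N, N⁆.subgroupOf N).Normal := by
    apply Subgroup.normal_subgroupOf_of_le_normalizer
    intro z hz
    rw [mem_normalizer_iff', conj_commutator, conj_eq_of_mem hz]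
  -- the `p`-power of `k` lies in `N'`
  obtain ⟨j, hj⟩ := S.2 ⟨x, hxS⟩
  have hj' : x ^ p ^ j = 1 := by simpa using congrArg Subtype.val hj
  set ρ := QuotientGroup.mk' (⁅N, N⁆.subgroupOf N) with hρ
  have h4 : ρ ⟨x, hSD hxS⟩ = ρ ⟨k, hkN⟩ := by
    have e : (⟨x, hSD hxS⟩ : ↥N) = ⟨y, hyN⟩ * ⟨k, hkN⟩ := Subtype.ext hxyk
    rw [e, map_mul, show ρ ⟨y, hyN⟩ = 1 from (QuotientGroup.eq_one_iff (⟨y, hyN⟩ : ↥N)).2 hy, one_mul]
  have h5 : (ρ ⟨k, hkN⟩) ^ p ^ j = 1 := by
    rw [← h4, ← map_pow]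
    have : (⟨x, hSD hxS⟩ : ↥N) ^ p ^ j = 1 := Subtype.ext hj'
    rw [this, map_one]
  have h6 : (ρ ⟨k, hkN⟩) ^ Nat.card ↥K = 1 := by
    rw [← map_pow]
    have : (⟨k, hkN⟩ : ↥N) ^ Nat.card ↥K = 1 := by
      apply Subtype.ext
      show k ^ Nat.card ↥K = 1
      have := pow_card_eq_one' (G := ↥K) (x := ⟨k, h3⟩)
      exact congrArg Subtype.val this
    rw [this, map_one]
  have h7 : orderOf (ρ ⟨k, hkN⟩) ∣ Nat.gcd (Nat.card ↥K) (p ^ j) :=
    Nat.dvd_gcd (orderOf_dvd_of_pow_eq_one h6) (orderOf_dvd_of_pow_eq_one h5)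
  rw [hK.pow_right j, Nat.dvd_one, orderOf_eq_one_iff] at h7
  have h8 : k ∈ ⁅N, N⁆ := (QuotientGroup.eq_one_iff (⟨k, hkN⟩ : ↥N)).1 h7
  rw [hxyk]
  exact Subgroup.mul_mem _ hy h8

/-- the reduction through `G / Q`, `Q = O_p(G)`: it suffices to control `Q ∩ G'`. -/
theorem TR.of_inf_pCore (hW : IsCharPFunctor.{u} p W) (hprop : ∀ H : Subgroup G, H ≠ ⊤ → TR p W ↥H)
    (h : TR p W (G ⧸ pCore p G)) (S : Sylow p G)
    (hQ : pCore p G ⊓ ⁅(⊤ : Subgroup G), (⊤ : Subgroup G)⁆ ≤
      ⁅Subgroup.normalizer ((inducedFunctor W (S : Subgroup G) : Subgroup G) : Set G),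
        Subgroup.normalizer ((inducedFunctor W (S : Subgroup G) : Subgroup G) : Set G)⁆) :
    (S : Subgroup G) ⊓ ⁅(⊤ : Subgroup G), (⊤ : Subgroup G)⁆ ≤
      ⁅Subgroup.normalizer ((inducedFunctor W (S : Subgroup G) : Subgroup G) : Set G),
        Subgroup.normalizer ((inducedFunctor W (S : Subgroup G) : Subgroup G) : Set G)⁆ := by
  set Q := pCore p G with hQdef
  have hQS : Q ≤ (S : Subgroup G) := H1.Cores.pCore_le_sylow S
  by_cases hSQ : (S : Subgroup G) ≤ Q
  · exact (inf_le_inf_right _ hSQ).trans hQ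
  set W' : Subgroup G → Subgroup G := inducedFunctor W with hW'
  have hWf : IsConjugacyFunctor p W' := isConjugacyFunctor_induced hW
  set π := QuotientGroup.mk' Q with hπ
  have hπs : Function.Surjective π := QuotientGroup.mk'_surjective Q
  set S' := S.mapSurjective hπs with hS'
  have hS'c : (S' : Subgroup (G ⧸ Q)) = (S : Subgroup G).map π := Sylow.coe_mapSurjective _ _
  have h1 := h S'
  set V' := inducedFunctor W (S' : Subgroup (G ⧸ Q)) with hV'
  have hV'f : IsConjugacyFunctor p (inducedFunctor W : Subgroup (G ⧸ Q) → Subgroup (G ⧸ Q)) :=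
    isConjugacyFunctor_induced hW
  set V := V'.comap π with hV
  have hmapV : V.map π = V' := Subgroup.map_comap_eq_self_of_surjective hπs _
  have hVS : V ≤ (S : Subgroup G) := by
    intro x hx
    have h2 : π x ∈ (S : Subgroup G).map π := by
      rw [← hS'c]; exact W_le hV'f S'.2 hx
    obtain ⟨s, hs, hsx⟩ := h2
    have h3 : s⁻¹ * x ∈ Q := QuotientGroup.eq.1 hsx
    have := mul_mem hs (hQS h3)
    rwa [mul_inv_cancel_left] at this
  have hnV : ∀ x : G, π x ∈ Subgroup.normalizer (V' : Set (G ⧸ Q)) → x ∈ Subgroup.normalizer (V : Set G) := by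
    intro x hx
    rw [Subgroup.mem_normalizer_iff] at hx ⊢
    intro y
    rw [hV, Subgroup.mem_comap, Subgroup.mem_comap, hx (π y)]
    simp only [map_mul, map_inv]
  have hnVtop : Subgroup.normalizer (V : Set G) ≠ ⊤ := by
    intro h
    have h2 : V ≤ Q := H1.Cores.le_pCore (Subgroup.normalizer_eq_top_iff.1 h) (S.2.to_le hVS)
    have h3 : V' = ⊥ := by
      rw [← hmapV, eq_bot_iff]
      rintro _ ⟨x, hx, rfl⟩
      exact (QuotientGroup.eq_one_iff x).2 (h2 hx)
    have h4 : (S' : Subgroup (G ⧸ Q)) ≠ ⊥ := by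
      intro h5
      apply hSQ
      intro x hx
      have : π x ∈ (S' : Subgroup (G ⧸ Q)) := by rw [hS'c]; exact ⟨x, hx, rfl⟩
      rw [h5, Subgroup.mem_bot] at this
      exact (QuotientGroup.eq_one_iff x).1 this
    exact W_ne_bot hV'f S'.2 h4 h3
  have hSnV : (S : Subgroup G) ≤ Subgroup.normalizer (V : Set G) := by
    intro s hs
    apply hnV
    apply le_normalizer_W hV'f S'.2
    rw [hS'c]; exact ⟨s, hs, rfl⟩
  have hnorm : Subgroup.normalizer (V' : Set (G ⧸ Q)) ≤ (Subgroup.normalizer (V : Set G)).map π := by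
    intro y hy
    obtain ⟨x, rfl⟩ := hπs y
    exact ⟨x, hnV x hy, rfl⟩
  intro x hx0
  have hxS : x ∈ (S : Subgroup G) := hx0.1
  have hx : x ∈ ⁅(⊤ : Subgroup G), (⊤ : Subgroup G)⁆ := hx0.2
  set M := Subgroup.normalizer (V : Set G) with hM
  have h2 : π x ∈ (⁅M, M⁆).map π := by
    rw [Subgroup.map_commutator]
    refine Subgroup.commutator_mono hnorm hnorm ?_
    apply h1
    refine Subgroup.mem_inf.2 ⟨by rw [hS'c]; exact ⟨x, hxS, rfl⟩, ?_⟩
    have h3 : π x ∈ (⁅(⊤ : Subgroup G), (⊤ : Subgroup G)⁆).map π := ⟨x, hx, rfl⟩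
    rw [Subgroup.map_commutator, Subgroup.map_top_of_surjective π hπs] at h3
    exact h3
  obtain ⟨y, hy, hyx⟩ := h2
  have h3 : y⁻¹ * x ∈ Q := QuotientGroup.eq.1 hyx
  have hyS : y ∈ (S : Subgroup G) := by
    have := mul_mem hxS (inv_mem (hQS h3))
    have e : x * (y⁻¹ * x)⁻¹ = y := by group
    rwa [e] at this
  have hyG : y ∈ ⁅(⊤ : Subgroup G), (⊤ : Subgroup G)⁆ := Subgroup.commutator_mono le_top le_top hy
  have h4 := hQ (Subgroup.mem_inf.2 ⟨h3, Subgroup.mul_mem _ (Subgroup.inv_mem _ hyG) hx⟩)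
  have h5 := (hprop M hnVtop).relative hW ((isSyl_sylow S).of_le hSnV le_top) ⟨hyS, hy⟩
  have h6 := Subgroup.commutator_mono inf_le_right inf_le_right h5
  have := Subgroup.mul_mem _ h6 h4
  rwa [mul_inv_cancel_left] at this

theorem TR_step (hW : IsCharPFunctor.{u} p W) (hprop : ∀ H : Subgroup G, H ≠ ⊤ → TR p W ↥H)
    (hquo : ∀ (N : Subgroup G) [N.Normal], N ≠ ⊥ → TR p W (G ⧸ N))
    (hcon : Subgroup.centralizer ((pCore p G : Subgroup G) : Set G) ≤ pCore p G →
      ∀ S : Sylow p G, pCore p G ⊓ ⁅(⊤ : Subgroup G), (⊤ : Subgroup G)⁆ ≤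
      ⁅Subgroup.normalizer ((inducedFunctor W (S : Subgroup G) : Subgroup G) : Set G),
        Subgroup.normalizer ((inducedFunctor W (S : Subgroup G) : Subgroup G) : Set G)⁆) : TR p W G := by
  set W' : Subgroup G → Subgroup G := inducedFunctor W with hW'
  have hWf : IsConjugacyFunctor p W' := isConjugacyFunctor_induced hW
  by_cases hQ : pCore p G = ⊥
  · intro S
    have h1 := transfer_of_wellPlaced hWf S (fun U hU hwp => by
      obtain ⟨T, hT⟩ := exists_isSyl (p := p) (Subgroup.normalizer (U : Set G))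
      rw [controlsTransferIn_iff hWf hT, TransferIn]
      apply le_antisymm
      · refine le_inf inf_le_left ?_
        refine (hprop _ ?_).relative hW hT
        intro h
        apply hU
        rw [← le_bot_iff, ← hQ]
        exact H1.Cores.le_pCore (Subgroup.normalizer_eq_top_iff.1 h) (S.2.to_le hwp.1)
      · exact inf_le_inf_left _ (Subgroup.commutator_mono inf_le_left inf_le_left))
    exact (controlsTransferIn_top_iff hWf S).1 h1
  by_cases hK : pPrimeCore p G = ⊥
  swap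
  · have := hquo (pPrimeCore p G) hK
    exact TR.of_quotient_pPrime hW (H1.Cores.coprime_card_pPrimeCore p) this
  intro S
  set Q := pCore p G with hQdef
  have hQn : Q.Normal := inferInstance
  have hQS : Q ≤ (S : Subgroup G) := H1.Cores.pCore_le_sylow S
  set C := Subgroup.centralizer (Q : Set G) with hC
  have hCn : C.Normal := inferInstance
  have hCtop : Subgroup.normalizer (C : Set G) = ⊤ := Subgroup.normalizer_eq_top_iff.2 hCn
  by_cases hT₀ : (S : Subgroup G) ⊓ C ≤ Q
  · exact TR.of_inf_pCore hW hprop (hquo Q hQ) S (hcon (SectionSF.centralizer_le_of_inf_le S hK hT₀) S)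
  have hSN : (S : Subgroup G) ≤ Subgroup.normalizer ((W' (S : Subgroup G) : Subgroup G) : Set G) :=
    le_normalizer_W hWf S.2
  by_cases hCS : C ⊔ (S : Subgroup G) = ⊤
  · exact TR.of_inf_pCore hW hprop (hquo Q hQ) S ((inf_commutator_le_of_sup_eq_top S hQn hQS hCS).trans
      (Subgroup.commutator_mono hSN hSN))
  · have hfull : ∀ H : Subgroup G, H ≠ ⊤ → (S : Subgroup G) ≤ H → ∀ (A : Set G), A ⊆ ((S : Subgroup G) : Set G) →
        ∀ k ∈ H, cj k A ⊆ ((S : Subgroup G) : Set G) →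
        FocRel ⁅Subgroup.normalizer ((W' (S : Subgroup G) : Subgroup G) : Set G),
          Subgroup.normalizer ((W' (S : Subgroup G) : Subgroup G) : Set G)⁆ A k := by
      intro H hH hSH A hA k hk hkA a ha
      have h1 := (hprop H hH).relative hW ((isSyl_sylow S).of_le hSH le_top)
      refine Subgroup.commutator_mono inf_le_right inf_le_right (h1 ?_)
      refine Subgroup.mem_inf.2 ⟨mul_mem (inv_mem (hA ha)) (hkA (mem_cj ha)), ?_⟩
      have h2 := Subgroup.commutator_mem_commutator (inv_mem (hSH (hA ha))) hk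
      have e : a⁻¹ * (k * a * k⁻¹) = ⁅a⁻¹, k⁆ := by rw [commutatorElement_def]; group
      rw [e]; exact h2
    apply inf_commutator_le_of_focRel S
    intro A g hA hg
    obtain ⟨n, hn, k, hk, hnk, hkA⟩ := factor S hCn hA hg
    have hT₀n : Subgroup.normalizer (((S : Subgroup G) ⊓ C : Subgroup G) : Set G) ≠ ⊤ := by
      intro h
      exact hT₀ (H1.Cores.le_pCore (Subgroup.normalizer_eq_top_iff.1 h) S.2.to_inf_left)
    have hST₀ : (S : Subgroup G) ≤ Subgroup.normalizer (((S : Subgroup G) ⊓ C : Subgroup G) : Set G) :=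
      le_normalizer_inf Subgroup.le_normalizer (by rw [hCtop]; exact le_top)
    have r1 := hfull _ hCS le_sup_right A hA k hk hkA
    have r2 := hfull _ hT₀n hST₀ (cj k A) hkA n hn (by rw [cj_cj, hnk]; exact hg)
    have := (focRel_isFusionRel _).trans r1 r2
    rwa [hnk] at this

/-- The induction over a class of groups closed under subgroups and quotients. -/
theorem TR_of_class (hW : IsCharPFunctor.{u} p W) (𝒞 : ∀ (X : Type u) [Group X], Prop)
    (hsub : ∀ (X : Type u) [Group X] (H : Subgroup X), 𝒞 X → 𝒞 ↥H)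
    (hquo : ∀ (X : Type u) [Group X] (N : Subgroup X) [N.Normal], 𝒞 X → 𝒞 (X ⧸ N))
    (hcon : ∀ (X : Type u) [Group X] [Finite X], 𝒞 X → (∀ H : Subgroup X, H ≠ ⊤ → TR p W ↥H) →
      Subgroup.centralizer ((pCore p X : Subgroup X) : Set X) ≤ pCore p X →
      ∀ S : Sylow p X, pCore p X ⊓ ⁅(⊤ : Subgroup X), (⊤ : Subgroup X)⁆ ≤
      ⁅Subgroup.normalizer ((inducedFunctor W (S : Subgroup X) : Subgroup X) : Set X),
        Subgroup.normalizer ((inducedFunctor W (S : Subgroup X) : Subgroup X) : Set X)⁆) :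
    ∀ (X : Type u) [Group X] [Finite X], 𝒞 X → TR p W X := by
  have key : ∀ n : ℕ, ∀ (X : Type u) [Group X] [Finite X], 𝒞 X → Nat.card X = n → TR p W X := by
    intro n
    induction n using Nat.strong_induction_on with
    | _ n ih =>
      intro X _ _ hX hn
      have hprop : ∀ H : Subgroup X, H ≠ ⊤ → TR p W ↥H := by
        intro H hH
        refine ih (Nat.card ↥H) ?_ ↥H (hsub X H hX) rfl
        rw [← hn]
        have := H38.FamilyControl.card_lt_of_lt (lt_top_iff_ne_top.2 hH)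
        rwa [Subgroup.card_top] at this
      apply TR_step hW hprop
      · intro N hNn hN
        refine ih (Nat.card (X ⧸ N)) ?_ (X ⧸ N) (hquo X N hX) rfl
        rw [← hn, Subgroup.card_eq_card_quotient_mul_card_subgroup N]
        have h1 : 1 < Nat.card ↥N := by
          have := (Subgroup.nontrivial_iff_ne_bot N).2 hN
          exact Finite.one_lt_card
        have h2 : 0 < Nat.card (X ⧸ N) := Nat.card_pos
        exact lt_mul_of_one_lt_right h2 h1
      · exact hcon X hX hprop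
  intro X _ _ hX
  exact key _ X hX rfl

end H38.SectionTR
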