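import Cfsg.Agent.Lib.H38.NormFix
import Cfsg.Agent.Lib.H38.SectionTR

set_option autoImplicit false

/-! The transfer into `N(T₀)`, where `T₀` is generated by the conjugates of `g` in the Sylow subgroup, when `g` acts with
`(g - 1)^(p-1) = 0` on the chief factors inside `Q`. -/

namespace H38.TransferNorm

open H38.Basic H38.Norm H38.NormFix Cfsg
open scoped commutatorElement

variable {X : Type*} [Group X] {p : ℕ}

/-- chief factors inside a normal `p`-subgroup are elementary abelian -/
theorem chief_props [Finite X] [Fact p.Prime] {Q U Y : Subgroup X} (hQn : Q.Normal) (hQp : IsPGroup p ↥Q)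
    (h : IsChiefFactor U Y) (hUQ : U ≤ Q) : ⁅U, U⁆ ≤ Y ∧ ∀ u ∈ U, u ^ p ∈ Y := by
  have hYn : Y.Normal := h.2.2.1
  have h1 : ⁅U, U⁆ ≤ Y :=
    (Subgroup.commutator_mono le_rfl hUQ).trans (H39.Chief.commutator_le_of_chief h hQn hQp.isNilpotent hUQ)
  refine ⟨h1, ?_⟩
  set π := QuotientGroup.mk' Y with hπ
  have hπs : Function.Surjective π := QuotientGroup.mk'_surjective Y
  have h2 : IsChiefFactor (U.map π) (⊥ : Subgroup (X ⧸ Y)) := by
    obtain ⟨hlt, hUn, _, hmin⟩ := h
    refine ⟨?_, Subgroup.Normal.map hUn _ hπs, inferInstance, ?_⟩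
    · rw [bot_lt_iff_ne_bot]
      intro h0
      apply hlt.not_ge
      intro u hu
      have : π u ∈ U.map π := ⟨u, hu, rfl⟩
      rw [h0, Subgroup.mem_bot] at this
      exact (QuotientGroup.eq_one_iff u).1 this
    · intro N hN _ hNU
      have h3 : Y ≤ N.comap π := by
        intro y hy
        rw [Subgroup.mem_comap, show π y = 1 from (QuotientGroup.eq_one_iff y).2 hy]; exact N.one_mem
      have h4 : N.comap π ≤ U := by
        intro x hx
        obtain ⟨u, hu, hux⟩ := hNU hx
        have h5 : u⁻¹ * x ∈ Y := QuotientGroup.eq.1 hux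
        have := U.mul_mem hu (hlt.le h5)
        rwa [mul_inv_cancel_left] at this
      have h5 : (N.comap π).map π = N := Subgroup.map_comap_eq_self_of_surjective hπs _
      rcases hmin _ (hN.comap π) h3 h4 with h6 | h6
      · left
        rw [← h5, h6, eq_bot_iff]
        rintro _ ⟨y, hy, rfl⟩
        exact (QuotientGroup.eq_one_iff y).2 hy
      · right
        rw [← h5, h6]
  intro u hu
  have h3 := pow_mem_of_chief (p := p) h2 ((hQp.to_le hUQ).map _) (by
    rintro _ ⟨a, ha, rfl⟩
    rw [Subgroup.mem_centralizer_iff]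
    rintro _ ⟨b, hb, rfl⟩
    have h4 : ⁅b, a⁆ ∈ Y := h1 (Subgroup.commutator_mem_commutator hb ha)
    have h5 : π ⁅b, a⁆ = 1 := (QuotientGroup.eq_one_iff _).2 h4
    rw [map_commutatorElement, commutatorElement_eq_one_iff_mul_comm] at h5
    exact h5) (π u) ⟨u, hu, rfl⟩
  rw [Subgroup.mem_bot, ← map_pow] at h3
  exact (QuotientGroup.eq_one_iff _).1 h3

/-- the norm of `t` on `U / Y` vanishes -/
theorem geom_list [Finite X] [hp : Fact p.Prime] {U Y : Subgroup X} (hUn : U.Normal) (hYn : Y.Normal)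
    (hUU : ⁅U, U⁆ ≤ Y) (hpow : ∀ u ∈ U, u ^ p ∈ Y) {t : X}
    (ht : iterCommutator U (Subgroup.zpowers t) (p - 1) ≤ Y) :
    ∀ u ∈ U, ((List.range p).map (fun i => t ^ i * u * (t ^ i)⁻¹)).prod ∈ Y := by
  intro u hu
  set π := QuotientGroup.mk' Y with hπ
  have hπs : Function.Surjective π := QuotientGroup.mk'_surjective Y
  set V := U.map π with hV
  have hVn : V.Normal := Subgroup.Normal.map hUn _ hπs
  have hVab : ∀ a ∈ V, ∀ b ∈ V, a * b = b * a := by
    rintro _ ⟨a, ha, rfl⟩ _ ⟨b, hb, rfl⟩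
    have h4 : ⁅a, b⁆ ∈ Y := hUU (Subgroup.commutator_mem_commutator ha hb)
    have h5 : π ⁅a, b⁆ = 1 := (QuotientGroup.eq_one_iff _).2 h4
    rw [map_commutatorElement, commutatorElement_eq_one_iff_mul_comm] at h5
    exact h5
  let _ : CommGroup ↥V :=
    { (inferInstance : Group ↥V) with
      mul_comm := fun a b => Subtype.ext (hVab a a.2 b b.2) }
  let _ : DistribMulAction (X ⧸ Y) (Additive ↥V) := act V
  have hsmul : ∀ (h : X ⧸ Y) (v : Additive ↥V), (((h • v).toMul : ↥V) : X ⧸ Y) = h * (v.toMul : ↥V) * h⁻¹ :=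
    fun h v => rfl
  set v : Additive ↥V := Additive.ofMul ⟨π u, ⟨u, hu, rfl⟩⟩ with hv
  have h1 := geom_mem (A := Additive ↥V) hp.out (DistribMulAction.toAddMonoidEnd (X ⧸ Y) (Additive ↥V) (π t))
    (U := ⊤) (Y := ⊥) (fun _ _ => trivial) (fun w _ => by
      obtain ⟨a, ha, hab⟩ := (w.toMul : ↥V).2
      rw [AddSubgroup.mem_bot]
      apply congrArg Additive.ofMul (a₁ := (p • w).toMul) (a₂ := 1)
      apply Subtype.ext
      show ((w.toMul : ↥V) : X ⧸ Y) ^ p = 1
      rw [← hab, ← map_pow]
      exact (QuotientGroup.eq_one_iff _).2 (hpow a ha)) (fun w _ => by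
      have h5 : ∀ j : ℕ, (((((DistribMulAction.toAddMonoidEnd (X ⧸ Y) (Additive ↥V) (π t) - 1) ^ j :
          AddMonoid.End (Additive ↥V)) w).toMul : ↥V) : X ⧸ Y) ∈
          (iterCommutator U (Subgroup.zpowers t) j).map π := by
        intro j
        induction j with
        | zero => exact (w.toMul : ↥V).2
        | succ j ihj =>
          rw [pow_succ']
          set w' := (((DistribMulAction.toAddMonoidEnd (X ⧸ Y) (Additive ↥V) (π t) - 1) ^ j :
            AddMonoid.End (Additive ↥V)) w) with hw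
          show (((((π t) • w') - w').toMul : ↥V) : X ⧸ Y) ∈ (⁅_, _⁆ : Subgroup X).map π
          have h6 : (((((π t) • w') - w').toMul : ↥V) : X ⧸ Y) = ⁅((w'.toMul : ↥V) : X ⧸ Y), π t⁆⁻¹ := by
            have e1 : (((((π t) • w') - w').toMul : ↥V) : X ⧸ Y) =
                ((π t) * ((w'.toMul : ↥V) : X ⧸ Y) * (π t)⁻¹) * ((w'.toMul : ↥V) : X ⧸ Y)⁻¹ := by
              rw [sub_eq_add_neg]; rfl
            rw [e1, commutatorElement_def]; group
          rw [h6, Subgroup.map_commutator]
          exact Subgroup.inv_mem _ (Subgroup.commutator_mem_commutator ihj ⟨t, Subgroup.mem_zpowers t, rfl⟩)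
      have h6 := h5 (p - 1)
      obtain ⟨a, ha, hab⟩ := h6
      rw [AddSubgroup.mem_bot]
      apply congrArg Additive.ofMul (a₁ := (((DistribMulAction.toAddMonoidEnd (X ⧸ Y) (Additive ↥V) (π t) - 1) ^ (p - 1) :
        AddMonoid.End (Additive ↥V)) w).toMul) (a₂ := 1)
      apply Subtype.ext
      rw [← hab]
      exact (QuotientGroup.eq_one_iff _).2 (ht ha)) v trivial
  rw [AddSubgroup.mem_bot] at h1
  have h2 : ∀ i : ℕ, ((DistribMulAction.toAddMonoidEnd (X ⧸ Y) (Additive ↥V) (π t)) ^ i) v = (π t) ^ i • v := by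
    intro i
    rw [← map_pow]; rfl
  simp only [h2] at h1
  have h3 : ∀ n : ℕ, π (((List.range n).map (fun i => t ^ i * u * (t ^ i)⁻¹)).prod) =
      (((∑ i ∈ Finset.range n, (π t) ^ i • v).toMul : ↥V) : X ⧸ Y) := by
    intro n
    induction n with
    | zero => simp
    | succ n ih =>
      rw [List.range_succ, List.map_append, List.prod_append, map_mul, ih, Finset.sum_range_succ]
      have e : (((∑ i ∈ Finset.range n, (π t) ^ i • v + (π t) ^ n • v).toMul : ↥V) : X ⧸ Y) =
          (((∑ i ∈ Finset.range n, (π t) ^ i • v).toMul : ↥V) : X ⧸ Y) * ((((π t) ^ n • v).toMul : ↥V) : X ⧸ Y) := rfl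
      rw [e, hsmul]
      congr 1
      simp only [List.map_cons, List.map_nil, List.prod_cons, List.prod_nil, mul_one, map_mul, map_inv, map_pow]
      rfl
  have h4 := h3 p
  rw [h1] at h4
  exact (QuotientGroup.eq_one_iff _).1 h4

/-- the contragredient action on functions -/
@[reducible] def act2 (U : Subgroup X) [U.Normal] (B : Type*) [AddCommGroup B] : DistribMulAction X (↥U → B) where
  smul t φ := fun x => φ (MulAut.conjNormal t⁻¹ x)
  one_smul φ := by
    funext x
    show φ (MulAut.conjNormal (1 : X)⁻¹ x) = φ x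
    rw [inv_one, map_one]; rfl
  mul_smul g h φ := by
    funext x
    show φ (MulAut.conjNormal (g * h)⁻¹ x) = φ (MulAut.conjNormal h⁻¹ (MulAut.conjNormal g⁻¹ x))
    rw [mul_inv_rev, map_mul]; rfl
  smul_zero g := rfl
  smul_add g φ ψ := rfl

/-- the transfer at an element all of whose conjugates lie in `M` -/
theorem transfer_eq_prod {A : Type*} [CommGroup A] {M : Subgroup X} [M.FiniteIndex] [Fintype (X ⧸ M)] (ϕ : ↥M →* A) {x : X}
    (hx : ∀ r : X, r⁻¹ * x * r ∈ M) (f : X ⧸ M → A) (hf : ∀ r : X, f (QuotientGroup.mk r) = ϕ ⟨r⁻¹ * x * r, hx r⟩) :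
    MonoidHom.transfer ϕ x = ∏ q : X ⧸ M, f q := by
  classical
  obtain ⟨T⟩ : Nonempty M.LeftTransversal := inferInstance
  rw [MonoidHom.transfer_def ϕ T]
  unfold Subgroup.leftTransversals.diff
  have hq : ∀ q : X ⧸ M, x • q = q := by
    intro q
    induction q using QuotientGroup.induction_on with
    | H r =>
      show (QuotientGroup.mk (x * r) : X ⧸ M) = QuotientGroup.mk r
      apply QuotientGroup.eq.2
      have := M.inv_mem (hx r)
      have e : (r⁻¹ * x * r)⁻¹ = (x * r)⁻¹ * r := by group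
      rwa [e] at this
  have hβ : ∀ q : X ⧸ M, (((x • T).2.leftQuotientEquiv q : _) : X) = x * (T.2.leftQuotientEquiv q : X) := by
    intro q
    have := Subgroup.smul_leftQuotientEquiv x T q
    rw [hq q] at this
    exact this.symm
  have hα : ∀ q : X ⧸ M, (QuotientGroup.mk (T.2.leftQuotientEquiv q : X) : X ⧸ M) = q := fun q =>
    Subgroup.IsComplement.quotientGroupMk_leftQuotientEquiv T.2 q
  refine Finset.prod_congr ?_ ?_
  · ext q; simp
  · intro q _
    have h1 := hf (T.2.leftQuotientEquiv q : X)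
    rw [hα q] at h1
    rw [h1]
    congr 1
    apply Subtype.ext
    simp only [hβ]
    group

variable [Finite X] [Fact p.Prime]

theorem mem_of_conj_le {T : Subgroup X} (hT : IsSyl p T ⊤) {g : X} {M T₀ : Subgroup X}
    (hT₀ : T₀ = Subgroup.closure {x | x ∈ T ∧ ∃ h, h * g * h⁻¹ = x})
    (hM : M = Subgroup.normalizer (T₀ : Set X)) : ∀ h : X, T₀.map (MulAut.conj h).toMonoidHom ≤ M → h ∈ M := by
  have hT₀T : T₀ ≤ T := by
    rw [hT₀, Subgroup.closure_le]; exact fun x hx => hx.1
  have hT₀p : IsPGroup p ↥T₀ := hT.2.1.to_le hT₀T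
  have hTM : T ≤ M := by
    rw [hM]; exact le_normalizer_T0 hT₀
  have hTM' : IsSyl p T M := hT.of_le hTM le_top
  intro h hh
  obtain ⟨m, hm, hmT⟩ := hTM'.exists_conj_le (isPGroup_conj hT₀p h) hh
  rw [conj_conj] at hmT
  have h1 : T₀.map (MulAut.conj (m * h)).toMonoidHom = T₀ := by
    refine Subgroup.eq_of_le_of_card_ge ?_ (by rw [card_conj])
    have h2 : ∀ a ∈ {x | x ∈ T ∧ ∃ h, h * g * h⁻¹ = x}, (m * h) * a * (m * h)⁻¹ ∈ T₀ := by
      rintro a ⟨ha, k, rfl⟩
      rw [hT₀]
      apply Subgroup.subset_closure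
      refine ⟨?_, m * h * k, by group⟩
      apply hmT
      rw [conj_mem_conj]
      rw [hT₀]
      exact Subgroup.subset_closure ⟨ha, k, rfl⟩
    conv_lhs => rw [hT₀]
    exact closure_conj_le h2
  have h2 : m * h ∈ M := by rw [hM]; exact mem_normalizer_iff'.2 h1
  have := M.mul_mem (M.inv_mem hm) h2
  rwa [inv_mul_cancel_left] at this

theorem transfer_engel {T Q : Subgroup X} (hT : IsSyl p T ⊤) (hQn : Q.Normal) (hQT : Q ≤ T) {g : X}
    (hg : ∀ U Y : Subgroup X, IsChiefFactor U Y → U ≤ Q → iterCommutator U (Subgroup.zpowers g) (p - 1) ≤ Y)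
    {M T₀ : Subgroup X} (hT₀ : T₀ = Subgroup.closure {x | x ∈ T ∧ ∃ h, h * g * h⁻¹ = x})
    (hM : M = Subgroup.normalizer (T₀ : Set X)) : Q ⊓ ⁅(⊤ : Subgroup X), (⊤ : Subgroup X)⁆ ≤ ⁅M, M⁆ := by
  have hT₀T : T₀ ≤ T := by
    rw [hT₀, Subgroup.closure_le]; exact fun x hx => hx.1
  have hT₀p : IsPGroup p ↥T₀ := hT.2.1.to_le hT₀T
  have hTM : T ≤ M := by
    rw [hM]; exact le_normalizer_T0 hT₀
  have hfix := mem_of_conj_le hT hT₀ hM
  have hQp : IsPGroup p ↥Q := hT.2.1.to_le hQT
  have hQM : Q ≤ M := hQT.trans hTM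
  have main : ∀ n : ℕ, ∀ U : Subgroup X, Nat.card ↥U = n → U.Normal → U ≤ Q →
      ∀ x ∈ U, x ∈ ⁅(⊤ : Subgroup X), (⊤ : Subgroup X)⁆ → x ∈ ⁅M, M⁆ := by
    intro n
    induction n using Nat.strong_induction_on with
    | _ n ih =>
      intro U hUn hUnorm hUQ x hxU hxX
      rcases eq_or_ne U ⊥ with rfl | hne
      · rw [Subgroup.mem_bot] at hxU
        subst hxU; exact Subgroup.one_mem _
      obtain ⟨Y, hUY, -⟩ := H39.Chief.exists_chief (M := U) (Z := ⊥) hUnorm inferInstance (bot_lt_iff_ne_bot.2 hne)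
      have hYn : Y.Normal := hUY.2.2.1
      obtain ⟨hUU, hpow⟩ := chief_props hQn hQp hUY hUQ
      have hUM : U ≤ M := hUQ.trans hQM
      set B := Additive (Abelianization ↥M) with hB
      let ϕ : ↥M →* Abelianization ↥M := Abelianization.of
      let BY : AddSubgroup B := Subgroup.toAddSubgroup ((Y.subgroupOf M).map ϕ)
      have hBY : ∀ y : X, ∀ h : y ∈ M, y ∈ Y → Additive.ofMul (ϕ ⟨y, h⟩) ∈ BY := fun y h hy => ⟨⟨y, h⟩, hy, rfl⟩
      let _ : DistribMulAction X (↥U → B) := act2 U B
      have hsmul : ∀ (t : X) (φ : ↥U → B) (u : ↥U), (t • φ) u = φ (MulAut.conjNormal t⁻¹ u) := fun _ _ _ => rfl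
      have hmem : ∀ (h : X) (u : ↥U), h⁻¹ * (u : X) * h ∈ M := fun h u => hUM (hUnorm.conj_mem' u u.2 h)
      let F : X → (↥U → B) := fun h u => Additive.ofMul (ϕ ⟨h⁻¹ * (u : X) * h, hmem h u⟩)
      have hFM : ∀ (h m : X), m ∈ M → F (h * m) = F h := by
        intro h m hm
        funext u
        have e : (⟨(h * m)⁻¹ * (u : X) * (h * m), hmem (h * m) u⟩ : ↥M) =
            ⟨m, hm⟩⁻¹ * ⟨h⁻¹ * (u : X) * h, hmem h u⟩ * ⟨m, hm⟩ := by
          apply Subtype.ext
          show (h * m)⁻¹ * (u : X) * (h * m) = m⁻¹ * (h⁻¹ * (u : X) * h) * m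
          group
        apply congrArg Additive.ofMul
        rw [e, map_mul ϕ, map_mul ϕ, map_inv ϕ, mul_comm, mul_inv_cancel_left]
      let f : X ⧸ M → (↥U → B) := Quotient.lift F (by
        intro a b hab
        have h1 : a⁻¹ * b ∈ M := QuotientGroup.leftRel_apply.1 hab
        have := hFM a _ h1
        rw [mul_inv_cancel_left] at this
        exact this.symm)
      have hfmk : ∀ h : X, f (QuotientGroup.mk h) = F h := fun _ => rfl
      have hfeq : ∀ (h : X) (ω : X ⧸ M), f (h • ω) = h • f ω := by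
        intro h ω
        induction ω using QuotientGroup.induction_on with
        | H k =>
          show f (QuotientGroup.mk (h * k)) = h • f (QuotientGroup.mk k)
          rw [hfmk, hfmk]
          funext u
          rw [hsmul]
          show Additive.ofMul (ϕ _) = Additive.ofMul (ϕ _)
          congr 2
          apply Subtype.ext
          show (h * k)⁻¹ * (u : X) * (h * k) = k⁻¹ * ((MulAut.conjNormal h⁻¹ u : ↥U) : X) * k
          rw [MulAut.conjNormal_apply]; group
      let UA : AddSubgroup (↥U → B) :=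
        { carrier := {φ | (∀ a b, φ (a * b) = φ a + φ b) ∧ ∀ y : ↥U, (y : X) ∈ Y → φ y ∈ BY}
          zero_mem' := ⟨fun _ _ => (add_zero 0).symm, fun _ _ => BY.zero_mem⟩
          add_mem' := by
            rintro φ ψ ⟨h1, h2⟩ ⟨h3, h4⟩
            refine ⟨fun a b => ?_, fun y hy => BY.add_mem (h2 y hy) (h4 y hy)⟩
            show φ (a * b) + ψ (a * b) = (φ a + ψ a) + (φ b + ψ b)
            rw [h1, h3]; abel
          neg_mem' := by
            rintro φ ⟨h1, h2⟩
            refine ⟨fun a b => ?_, fun y hy => BY.neg_mem (h2 y hy)⟩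
            show -φ (a * b) = -φ a + -φ b
            rw [h1]; abel }
      let YA : AddSubgroup (↥U → B) :=
        { carrier := {φ | ∀ u, φ u ∈ BY}
          zero_mem' := fun _ => BY.zero_mem
          add_mem' := fun h1 h2 u => BY.add_mem (h1 u) (h2 u)
          neg_mem' := fun h1 u => BY.neg_mem (h1 u) }
      have hfU : ∀ ω, f ω ∈ UA := by
        intro ω
        induction ω using QuotientGroup.induction_on with
        | H k =>
          refine ⟨fun a b => ?_, fun y hy => ?_⟩
          · rw [hfmk]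
            show Additive.ofMul (ϕ _) = Additive.ofMul (ϕ _ * ϕ _)
            rw [← map_mul]
            congr 2
            apply Subtype.ext
            show k⁻¹ * ((a * b : ↥U) : X) * k = (k⁻¹ * (a : X) * k) * (k⁻¹ * (b : X) * k)
            push_cast; group
          · exact hBY _ _ (hYn.conj_mem' y hy k)
      classical
      have : Fintype (X ⧸ M) := Fintype.ofFinite _
      let XX : Set ↥T₀ := {t | ∃ h, h * g * h⁻¹ = (t : X)}
      have hXX : Subgroup.closure XX = ⊤ := by
        rw [eq_top_iff]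
        have h1 : ∀ t ∈ T₀, ∃ h : t ∈ T₀, (⟨t, h⟩ : ↥T₀) ∈ Subgroup.closure XX := by
          intro t ht
          have h2 : T₀ ≤ (Subgroup.closure XX).map T₀.subtype := by
            conv_lhs => rw [hT₀]
            rw [Subgroup.closure_le]
            rintro a ⟨ha, k, rfl⟩
            have hmem : k * g * k⁻¹ ∈ T₀ := by
              rw [hT₀]; exact Subgroup.subset_closure ⟨ha, k, rfl⟩
            exact ⟨⟨_, hmem⟩, Subgroup.subset_closure ⟨k, rfl⟩, rfl⟩
          obtain ⟨s, hs, hst⟩ := h2 ht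
          refine ⟨ht, ?_⟩
          have : s = ⟨t, ht⟩ := Subtype.ext hst
          rw [← this]; exact hs
        intro t _
        obtain ⟨_, h⟩ := h1 t t.2
        exact h
      have hYcond : ∀ t ∈ XX, ∀ φ ∈ UA, ∑ i ∈ Finset.range p, t ^ i • φ ∈ YA := by
        rintro t ⟨k, hk⟩ φ ⟨hφ1, hφ2⟩ u
        have hit : iterCommutator U (Subgroup.zpowers ((t : X)⁻¹)) (p - 1) ≤ Y := by
          have h2 := hg U Y hUY hUQ
          have h3 := conj_mono h2 k
          rw [iter_conj, conj_normal U, conj_normal Y, MonoidHom.map_zpowers] at h3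
          have h4 : (MulAut.conj k).toMonoidHom g = (t : X) := hk
          rwa [h4, ← Subgroup.zpowers_inv] at h3
        have h1 := geom_list hUnorm hYn hUU hpow hit u u.2
        have h2 : ∀ n : ℕ, ∃ h : ((List.range n).map (fun i => (t : X)⁻¹ ^ i * (u : X) * ((t : X)⁻¹ ^ i)⁻¹)).prod ∈ U,
            (∑ i ∈ Finset.range n, t ^ i • φ) u = φ ⟨_, h⟩ := by
          intro n
          induction n with
          | zero =>
            refine ⟨U.one_mem, ?_⟩
            show (0 : B) = φ 1
            have := hφ1 1 1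
            rw [mul_one] at this
            exact (left_eq_add.1 this).symm
          | succ n ihn =>
            obtain ⟨h, hh⟩ := ihn
            have hu : (t : X)⁻¹ ^ n * (u : X) * ((t : X)⁻¹ ^ n)⁻¹ ∈ U := hUnorm.conj_mem u u.2 _
            have e1 : ((List.range (n + 1)).map (fun i => (t : X)⁻¹ ^ i * (u : X) * ((t : X)⁻¹ ^ i)⁻¹)).prod =
                ((List.range n).map (fun i => (t : X)⁻¹ ^ i * (u : X) * ((t : X)⁻¹ ^ i)⁻¹)).prod *
                  ((t : X)⁻¹ ^ n * (u : X) * ((t : X)⁻¹ ^ n)⁻¹) := by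
              rw [List.range_succ, List.map_append, List.prod_append]; simp
            refine ⟨by rw [e1]; exact U.mul_mem h hu, ?_⟩
            rw [Finset.sum_range_succ, Pi.add_apply, hh]
            have e2 : (t ^ n • φ) u = φ ⟨_, hu⟩ := by
              show φ (MulAut.conjNormal (((t ^ n : ↥T₀) : X))⁻¹ u) = _
              congr 1
              apply Subtype.ext
              rw [MulAut.conjNormal_apply]
              push_cast
              rw [inv_pow]
            rw [e2, ← hφ1]
            congr 1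
            apply Subtype.ext
            exact e1.symm
        obtain ⟨h, hh⟩ := h2 p
        rw [hh]
        exact hφ2 _ h1
      have h1 := sum_fixed (P := ↥T₀) (Ω := X ⧸ M) (A := ↥U → B) hT₀p hXX hYcond (f := f)
        (fun t ω => hfeq (t : X) ω) hfU (Finset.univ \ {QuotientGroup.mk 1}) (by
          intro t ω hω
          rw [Finset.mem_sdiff, Finset.mem_singleton] at hω ⊢
          refine ⟨Finset.mem_univ _, fun h => hω.2 ?_⟩
          have h2 : ω = t⁻¹ • (QuotientGroup.mk 1 : X ⧸ M) := by rw [← h, inv_smul_smul]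
          rw [h2]
          show (QuotientGroup.mk (((t⁻¹ : ↥T₀) : X) * 1) : X ⧸ M) = QuotientGroup.mk 1
          rw [mul_one]
          apply QuotientGroup.eq.2
          rw [mul_one]
          exact M.inv_mem (hTM (hT₀T (t⁻¹).2))) (by
          intro ω hω hfx
          rw [Finset.mem_sdiff, Finset.mem_singleton] at hω
          apply hω.2
          induction ω using QuotientGroup.induction_on with
          | H k =>
            apply QuotientGroup.eq.2
            rw [mul_one]
            apply hfix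
            rintro _ ⟨t, ht, rfl⟩
            have h2 : (QuotientGroup.mk (t * k) : X ⧸ M) = QuotientGroup.mk k := hfx ⟨t, ht⟩
            have h3 := QuotientGroup.eq.1 h2
            have h4 := M.inv_mem h3
            have e : (MulAut.conj k⁻¹).toMonoidHom t = ((t * k)⁻¹ * k)⁻¹ := by
              simp only [MulEquiv.toMonoidHom_eq_coe, MonoidHom.coe_coe, MulAut.conj_apply]; group
            rw [e]; exact h4)
      -- evaluate the transfer at `x`
      have h2 := transfer_eq_prod ϕ (x := x) (fun r => hUM (hUnorm.conj_mem' x hxU r))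
        (fun ω => (f ω ⟨x, hxU⟩).toMul) (fun r => rfl)
      have h3 : MonoidHom.transfer ϕ x = 1 := by
        have h4 : x ∈ (MonoidHom.transfer ϕ).ker := Abelianization.commutator_subset_ker _ hxX
        exact h4
      have h4 : (∑ ω : X ⧸ M, f ω) ⟨x, hxU⟩ = 0 := by
        rw [Finset.sum_apply]
        rw [h3] at h2
        exact congrArg Additive.ofMul h2.symm
      rw [← Finset.sum_sdiff (Finset.subset_univ {(QuotientGroup.mk 1 : X ⧸ M)}), Finset.sum_singleton,
        Pi.add_apply] at h4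
      have h5 := h1 ⟨x, hxU⟩
      have h6 : f (QuotientGroup.mk 1) ⟨x, hxU⟩ ∈ BY := by
        have := BY.neg_mem h5
        rwa [← eq_neg_of_add_eq_zero_right h4] at this
      have h7 : f (QuotientGroup.mk 1) ⟨x, hxU⟩ = Additive.ofMul (ϕ ⟨x, hUM hxU⟩) := by
        show Additive.ofMul (ϕ _) = Additive.ofMul (ϕ _)
        congr 2
        apply Subtype.ext
        show (1 : X)⁻¹ * x * 1 = x
        group
      rw [h7] at h6
      obtain ⟨y, hy, hyx⟩ := h6
      have hyx' : ϕ y = ϕ ⟨x, hUM hxU⟩ := congrArg Additive.toMul hyx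
      have h8 : y⁻¹ * ⟨x, hUM hxU⟩ ∈ commutator ↥M := by
        rw [← Abelianization.ker_of, MonoidHom.mem_ker, map_mul, map_inv]
        show (ϕ y)⁻¹ * ϕ ⟨x, hUM hxU⟩ = 1
        rw [hyx', inv_mul_cancel]
      have h9 : (y : X)⁻¹ * x ∈ ⁅M, M⁆ := by
        have h10 : (y : X)⁻¹ * x ∈ (commutator ↥M).map M.subtype := ⟨_, h8, rfl⟩
        rw [commutator_def, Subgroup.map_commutator] at h10
        have h11 : (⊤ : Subgroup ↥M).map M.subtype = M := by
          rw [← MonoidHom.range_eq_map, Subgroup.range_subtype]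
        rwa [h11] at h10
      have hcard : Nat.card ↥Y < n := by
        rw [← hUn]; exact H39.Chief.card_lt_card hUY.1
      have h12 : (y : X) ∈ ⁅M, M⁆ := by
        refine ih _ hcard Y rfl hYn (hUY.1.le.trans hUQ) y hy ?_
        have h13 : (y : X)⁻¹ * x ∈ ⁅(⊤ : Subgroup X), (⊤ : Subgroup X)⁆ := Subgroup.commutator_mono le_top le_top h9
        have := Subgroup.mul_mem _ hxX (Subgroup.inv_mem _ h13)
        have e : x * ((y : X)⁻¹ * x)⁻¹ = y := by group
        rwa [e] at this
      have := Subgroup.mul_mem _ h12 h9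
      rwa [mul_inv_cancel_left] at this
  intro x hx
  exact main _ Q rfl hQn le_rfl x hx.1 hx.2

end H38.TransferNorm
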